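import Groth.Agent.Lib.LocalFlat.Criterion
import Groth.Agent.Lib.Excellent.CompletionNoetherian
import Mathlib.RingTheory.AdicCompletion.LocalRing
import Mathlib.RingTheory.AdicCompletion.AsTensorProduct
import Mathlib.RingTheory.Flat.FaithfullyFlat.Algebra
import Mathlib.RingTheory.Flat.Stability

/-!
Flatness of induced maps between completions of Noetherian local rings.
-/

universe u

namespace Groth.Agent.H24.CompletionFlat

open TensorProduct IsLocalRing

/-- Flatness descends along a faithfully flat algebra on the target. -/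
theorem flat_of_faithfullyFlat (A B C : Type u) [CommRing A] [CommRing B] [CommRing C]
    [Algebra A B] [Algebra B C] [Algebra A C] [IsScalarTower A B C] [Module.FaithfullyFlat B C]
    [Module.Flat A C] : Module.Flat A B := by
  refine Module.Flat.iff_lTensor_preserves_injective_linearMap.mpr fun N P _ _ _ _ f hf => ?_
  refine (Module.FaithfullyFlat.lTensor_injective_iff_injective B C
    (TensorProduct.AlgebraTensorModule.lTensor B B f)).mp ?_
  have hcomm : (TensorProduct.AlgebraTensorModule.cancelBaseChange A B B C P).toLinearMap ∘ₗ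
      (TensorProduct.AlgebraTensorModule.lTensor B B f).lTensor _ =
    (TensorProduct.AlgebraTensorModule.lTensor B C f) ∘ₗ
      (TensorProduct.AlgebraTensorModule.cancelBaseChange A B B C N).toLinearMap := by
    ext; simp
  have h3 : Function.Injective (TensorProduct.AlgebraTensorModule.lTensor B C f) :=
    Module.Flat.lTensor_preserves_injective_linearMap f hf
  intro x y hxy
  apply (TensorProduct.AlgebraTensorModule.cancelBaseChange A B B C N).injective
  apply h3
  have h4 := congrArg (TensorProduct.AlgebraTensorModule.cancelBaseChange A B B C P) hxy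
  rw [← LinearEquiv.coe_coe, ← LinearMap.comp_apply, ← LinearMap.comp_apply, hcomm] at h4
  simpa using h4

/-- A ring `R` with the same truncations as `A`: flatness of an `R`-algebra may be checked over `A`. -/
theorem flat_of_truncations (A R C : Type u) [CommRing A] [CommRing R] [CommRing C]
    [IsNoetherianRing R] [IsNoetherianRing C] [Algebra A R] [Algebra R C] [Algebra A C]
    [IsScalarTower A R C] [Module.Flat A C] (m : Ideal A)
    (hjac : (m.map (algebraMap A R)).map (algebraMap R C) ≤ Ideal.jacobson ⊥)
    (hsurj : ∀ n, Function.Surjective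
      ((Ideal.Quotient.mk ((m.map (algebraMap A R)) ^ n)).comp (algebraMap A R))) :
    Module.Flat R C := by
  refine Lib.LocalFlat.Criterion.flat_of_flat_quotient_pow C (m.map (algebraMap A R)) hjac fun n => ?_
  let Q := R ⧸ (m.map (algebraMap A R)) ^ n
  have hs : Function.Surjective (algebraMap A Q) := hsurj n
  have : TensorProduct.CompatibleSMul A R Q C := ⟨fun r q c => by
    obtain ⟨a, ha⟩ := hs (Ideal.Quotient.mk _ r)
    have hr : r - algebraMap A R a ∈ (m ^ n).map (algebraMap A R) := by
      rw [Ideal.map_pow, ← Ideal.Quotient.eq_zero_iff_mem, map_sub, sub_eq_zero]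
      exact ha.symm
    have h0 : ∀ y ∈ (m ^ n).map (algebraMap A R), ∀ (q : Q) (c : C),
        (y • q) ⊗ₜ[A] c = q ⊗ₜ[A] (y • c) := by
      intro y hy
      refine Submodule.span_induction ?_ ?_ ?_ ?_ hy
      · rintro _ ⟨b, -, rfl⟩ q c
        rw [algebraMap_smul, algebraMap_smul, TensorProduct.smul_tmul]
      · intro q c; simp
      · intro y z _ _ hy hz q c
        rw [add_smul, add_smul, TensorProduct.add_tmul, TensorProduct.tmul_add, hy, hz]
      · intro s y hsy hy q c
        have hz : ∀ w ∈ (m ^ n).map (algebraMap A R), ∀ q : Q, w • q = 0 := fun w hw q => by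
          obtain ⟨q, rfl⟩ := Ideal.Quotient.mk_surjective q
          rw [Algebra.smul_def, Ideal.Quotient.algebraMap_eq, ← map_mul,
            Ideal.Quotient.eq_zero_iff_mem]
          exact Ideal.mul_mem_right _ _ (Ideal.map_pow (algebraMap A R) m n ▸ hw)
        rw [smul_eq_mul, mul_comm, mul_smul, mul_smul, ← hy, hz y hsy, hz y hsy]
        simp
    calc (r • q) ⊗ₜ[A] c = ((r - algebraMap A R a) • q) ⊗ₜ[A] c + (a • q) ⊗ₜ[A] c := by
          rw [← TensorProduct.add_tmul, sub_smul, algebraMap_smul, sub_add_cancel]
      _ = q ⊗ₜ[A] ((r - algebraMap A R a) • c) + q ⊗ₜ[A] (a • c) := by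
          rw [h0 _ hr, TensorProduct.smul_tmul]
      _ = q ⊗ₜ[A] (r • c) := by
          rw [← TensorProduct.tmul_add, sub_smul, algebraMap_smul, sub_add_cancel]⟩
  exact Module.Flat.of_linearEquiv (R := Q)
    (TensorProduct.equivOfCompatibleSMul R A Q Q C).symm

/-- The induced map of completions is flat if the original map is. -/
theorem flat_completion (A B : Type u) [CommRing A] [CommRing B] [IsLocalRing A] [IsLocalRing B]
    [IsNoetherianRing A] [IsNoetherianRing B] [Algebra A B] [IsLocalHom (algebraMap A B)]
    [Module.Flat A B]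
    [Algebra (AdicCompletion (maximalIdeal A) A) (AdicCompletion (maximalIdeal B) B)]
    [IsScalarTower A (AdicCompletion (maximalIdeal A) A) (AdicCompletion (maximalIdeal B) B)] :
    Module.Flat (AdicCompletion (maximalIdeal A) A) (AdicCompletion (maximalIdeal B) B) := by
  have : Module.Flat A (AdicCompletion (maximalIdeal B) B) := Module.Flat.trans A B _
  refine flat_of_truncations A _ _ (maximalIdeal A) ?_ fun n => ?_
  · refine le_trans ?_ (maximalIdeal_le_jacobson _)
    rw [Ideal.map_map, ← IsScalarTower.algebraMap_eq A (AdicCompletion (maximalIdeal A) A),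
      IsScalarTower.algebraMap_eq A B (AdicCompletion (maximalIdeal B) B), ← Ideal.map_map,
      AdicCompletion.maximalIdeal_eq_map]
    exact Ideal.map_mono (map_maximalIdeal_le _)
  · intro y
    obtain ⟨y, rfl⟩ := Ideal.Quotient.mk_surjective y
    obtain ⟨a, ha⟩ := Ideal.Quotient.mk_surjective (AdicCompletion.evalₐ (maximalIdeal A) n y)
    refine ⟨a, (Ideal.Quotient.mk_eq_mk_iff_sub_mem _ _).mpr ?_⟩
    have hk : algebraMap A (AdicCompletion (maximalIdeal A) A) a - y ∈
        (AdicCompletion.eval (maximalIdeal A) A n).ker := by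
      rw [LinearMap.mem_ker, map_sub, sub_eq_zero]
      have h : AdicCompletion.evalₐ (maximalIdeal A) n (algebraMap A _ a) =
          AdicCompletion.evalₐ (maximalIdeal A) n y := by
        rw [← ha]; exact AdicCompletion.evalₐ_of _ _ _
      have hle : (maximalIdeal A) ^ n ≤ (maximalIdeal A) ^ n • ⊤ := by simp
      have h2 := congrArg (Ideal.Quotient.factor hle) h
      rwa [AdicCompletion.factor_evalₐ_eq_eval, AdicCompletion.factor_evalₐ_eq_eval] at h2
    rw [← AdicCompletion.pow_smul_top_eq_ker_eval (Ideal.fg_of_isNoetherianRing _),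
      Ideal.smul_top_eq_map, Submodule.restrictScalars_mem, Ideal.map_pow] at hk
    exact hk

end Groth.Agent.H24.CompletionFlat
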