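import Groth.Agent.Lib.PBasis.FieldSmooth
import Groth.Agent.Lib.FSAdic.Basic
import Mathlib.RingTheory.AdicCompletion.Noetherian
import Mathlib.RingTheory.LocalRing.ResidueField.Basic

/-!
# Coefficient fields of complete Noetherian local rings containing a field
-/

universe u

namespace Groth.Agent.H24.CoefficientField

open IsLocalRing Groth.Agent.Lib.FSAdic.Basic in
theorem exists_of_formallySmooth (R : Type u) [CommRing R] [IsLocalRing R] [IsNoetherianRing R]
    [IsAdicComplete (maximalIdeal R) R] (P : Type u) [Field P] [Algebra P R]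
    (hP : Algebra.FormallySmooth P (ResidueField R)) :
    ∃ σ : ResidueField R →+* R, ∀ x, residue R (σ x) = x := by
  have hB : EGA41.IsFormallySmoothAdic P ⊥ (ResidueField R) ⊥ :=
    of_formallySmooth
  haveI : IsHausdorff ((maximalIdeal R).map (Ideal.Quotient.mk (maximalIdeal R)))
      (R ⧸ maximalIdeal R) := by
    rw [Ideal.map_quotient_self]; infer_instance
  obtain ⟨v, -, hv⟩ := exists_lift_complete hB (maximalIdeal R) ⟨1, by simp⟩
    (maximalIdeal R) ⟨1, by simp⟩ (AlgHom.id P (ResidueField R)) ⟨1, by rw [pow_one]; exact Ideal.map_bot.trans_le bot_le⟩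
  exact ⟨v.toRingHom, fun x => AlgHom.congr_fun hv x⟩

open IsLocalRing in
/-- A complete Noetherian local ring containing a field has a coefficient field. -/
theorem exists_coefficientField (R : Type u) [CommRing R] [IsLocalRing R] [IsNoetherianRing R]
    [IsAdicComplete (maximalIdeal R) R] (k₀ : Type u) [Field k₀] [Algebra k₀ R] :
    ∃ σ : ResidueField R →+* R, ∀ x, residue R (σ x) = x := by
  obtain h | ⟨p, hp, hpk⟩ := CharP.exists' k₀
  · haveI : CharZero (ResidueField R) := charZero_of_injective_algebraMap (algebraMap k₀ (ResidueField R)).injective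
    exact exists_of_formallySmooth R k₀ (Groth.Agent.Lib.PBasis.FieldSmooth.tfae_charZero).1
  · haveI : CharP (ResidueField R) p :=
      charP_of_injective_algebraMap (algebraMap k₀ (ResidueField R)).injective p
    let P := ULift.{u} (ZMod p)
    letI : Algebra P k₀ :=
      ((ZMod.castHom (dvd_refl p) k₀).comp (ULift.ringEquiv : P ≃+* ZMod p).toRingHom).toAlgebra
    letI : Algebra P R := ((algebraMap k₀ R).comp (algebraMap P k₀)).toAlgebra
    haveI : CharP P p := charP_of_injective_ringHom
      (f := (ULift.ringEquiv : P ≃+* ZMod p).symm.toRingHom) (RingEquiv.injective _) p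
    haveI : Finite P := Finite.of_equiv (ZMod p) Equiv.ulift.symm
    haveI : PerfectRing P p := PerfectRing.ofFiniteOfIsReduced p P
    exact exists_of_formallySmooth R P
      (Groth.Agent.Lib.PBasis.Separable.formallySmooth_of_perfect_charP (ResidueField R) p P)

end Groth.Agent.H24.CoefficientField
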