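import Groth.Agent.H23.PSAut
import Groth.Agent.Lib.FSAdic.PowerSeries
import Groth.Agent.Lib.Regular.Adapted
import Groth.Agent.Lib.Regular.Quotient
import Mathlib.RingTheory.AdicCompletion.Noetherian
import Mathlib.RingTheory.AdicCompletion.RingHom
import Mathlib.RingTheory.AdicCompletion.Functoriality
import Mathlib.RingTheory.MvPowerSeries.Inverse
import Mathlib.RingTheory.PowerSeries.Inverse
import Mathlib.RingTheory.KrullDimension.NonZeroDivisors
import Mathlib.RingTheory.RegularLocalRing.Defs

/-!
# Formal power series rings over a field, and evaluation into complete rings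

* `maximalIdeal_eq`: `m = (X_1, …, X_d)`;
* `isRegularLocalRing`, `ringKrullDim_eq`: `k[[X_1..X_d]]` is regular of dimension `d`;
* `exists_hom`, `hom_ext`: `k`-algebra maps out of `k[[X]]` into an adically complete ring;
* `surjective_of_cotangent`: complete rings, `m_S ≤ φ(m_R) + m_S²` gives surjectivity.
-/

universe u v w

open IsLocalRing

namespace Groth.Agent.H24.PowerSeries

theorem maximalIdeal_eq (k : Type u) [Field k] (σ : Type v) [Finite σ] :
    maximalIdeal (MvPowerSeries σ k) = Ideal.span (Set.range MvPowerSeries.X) := by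
  refine le_antisymm (fun f hf => ?_) (Ideal.span_le.mpr ?_)
  · apply Groth.Agent.H23.PSAut.mem_span_X_of_constantCoeff
    by_contra h
    exact (mem_maximalIdeal f).mp hf (MvPowerSeries.isUnit_iff_constantCoeff.mpr (Ne.isUnit h))
  · rintro _ ⟨i, rfl⟩
    rw [SetLike.mem_coe, mem_maximalIdeal, mem_nonunits_iff, MvPowerSeries.isUnit_iff_constantCoeff]
    simp

theorem X_mem (k : Type u) [Field k] {σ : Type v} [Finite σ] (i : σ) :
    (MvPowerSeries.X i : MvPowerSeries σ k) ∈ maximalIdeal (MvPowerSeries σ k) :=
  maximalIdeal_eq k σ ▸ Ideal.subset_span ⟨i, rfl⟩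

theorem isAdicComplete (k : Type u) [Field k] (σ : Type v) [Finite σ] :
    IsAdicComplete (maximalIdeal (MvPowerSeries σ k)) (MvPowerSeries σ k) := by
  rw [maximalIdeal_eq k σ]; infer_instance

theorem residue_surjective (k : Type u) [Field k] (σ : Type v) [Finite σ] :
    Function.Surjective ((residue (MvPowerSeries σ k)).comp (algebraMap k (MvPowerSeries σ k))) := by
  intro r
  obtain ⟨f, rfl⟩ := IsLocalRing.residue_surjective r
  refine ⟨MvPowerSeries.constantCoeff f, ?_⟩
  rw [RingHom.comp_apply, ← sub_eq_zero, ← map_sub, residue_eq_zero_iff, maximalIdeal_eq k σ]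
  apply Groth.Agent.H23.PSAut.mem_span_X_of_constantCoeff
  rw [map_sub, MvPowerSeries.algebraMap_apply]
  simp

theorem powerSeries_regular (R : Type u) [CommRing R] [IsRegularLocalRing R] :
    IsRegularLocalRing (PowerSeries R) := by
  have hX : (PowerSeries.X : PowerSeries R) ∈ maximalIdeal (PowerSeries R) := by
    rw [mem_maximalIdeal, mem_nonunits_iff, PowerSeries.isUnit_iff_constantCoeff]
    simp
  refine Groth.Agent.Lib.Regular.Quotient.of_quotient_singleton hX ?_ ?_
  · intro a b hab
    exact (PowerSeries.X_mul_cancel (by simpa [smul_eq_mul] using hab))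
  · let e : (PowerSeries R ⧸ Ideal.span {(PowerSeries.X : PowerSeries R)}) ≃+* R :=
      (Ideal.quotEquivOfEq (by
        ext f
        rw [Ideal.mem_span_singleton, PowerSeries.X_dvd_iff, RingHom.mem_ker])).trans
        (RingHom.quotientKerEquivOfSurjective
          (f := PowerSeries.constantCoeff (R := R)) (fun r => ⟨PowerSeries.C r, by simp⟩))
    exact IsRegularLocalRing.of_ringEquiv e.symm

theorem isRegularLocalRing_fin (k : Type u) [Field k] :
    ∀ d : ℕ, IsRegularLocalRing (MvPowerSeries (Fin d) k)
  | 0 => by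
    have hb : Function.Bijective (MvPowerSeries.constantCoeff (σ := Fin 0) (R := k)) := by
      refine ⟨fun f g h => MvPowerSeries.ext fun n => ?_, fun r => ⟨MvPowerSeries.C r, by simp⟩⟩
      rw [Subsingleton.elim n 0]
      simpa using h
    exact IsRegularLocalRing.of_ringEquiv (RingEquiv.ofBijective _ hb).symm
  | d + 1 => by
    have := isRegularLocalRing_fin k d
    have := powerSeries_regular (MvPowerSeries (Fin d) k)
    exact IsRegularLocalRing.of_ringEquiv (MvPowerSeries.finSuccEquiv k d).toRingEquiv.symm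

theorem le_ringKrullDim (k : Type u) [Field k] :
    ∀ d : ℕ, (d : WithBot ℕ∞) ≤ ringKrullDim (MvPowerSeries (Fin d) k)
  | 0 => by simpa using ringKrullDim_nonneg_of_nontrivial
  | d + 1 => by
    rw [ringKrullDim_eq_of_ringEquiv (MvPowerSeries.finSuccEquiv k d).toRingEquiv]
    refine le_trans ?_ ringKrullDim_succ_le_ringKrullDim_powerseries
    push_cast
    exact add_le_add (le_ringKrullDim k d) le_rfl

theorem ringKrullDim_eq (k : Type u) [Field k] (d : ℕ) :
    ringKrullDim (MvPowerSeries (Fin d) k) = d := by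
  refine le_antisymm ?_ (le_ringKrullDim k d)
  refine (ringKrullDim_le_spanFinrank_maximalIdeal _).trans ?_
  rw [maximalIdeal_eq k (Fin d)]
  refine Nat.cast_le.mpr ((Submodule.spanFinrank_span_le_ncard_of_finite (Set.finite_range _)).trans ?_)
  rw [← Set.image_univ]
  exact (Set.ncard_image_le Set.finite_univ).trans (by simp)

variable {A : Type u} [CommRing A] {σ : Type} [Finite σ] {R : Type w} [CommRing R] [Algebra A R]

/-- Evaluation of power series at elements of an ideal of definition. -/
theorem exists_hom (I : Ideal R) [IsAdicComplete I R] (b : σ → R) (hb : ∀ i, b i ∈ I) :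
    ∃ f : MvPowerSeries σ A →ₐ[A] R, ∀ i, f (MvPowerSeries.X i) = b i := by
  classical
  let J := MvPolynomial.idealOfVars σ A
  let e := MvPowerSeries.toAdicCompletionAlgEquiv σ A
  let p : MvPolynomial σ A →ₐ[A] R := MvPolynomial.aeval b
  have hp : ∀ n, J ^ n ≤ (I ^ n).comap p.toRingHom := by
    intro n
    refine (Ideal.pow_right_mono ?_ n).trans (Ideal.le_comap_pow p.toRingHom n)
    rw [Ideal.span_le]
    rintro _ ⟨i, rfl⟩
    simpa [p] using hb i
  let g : ∀ n, MvPowerSeries σ A →+* R ⧸ I ^ n := fun n =>
    (Ideal.quotientMap (I ^ n) p.toRingHom (hp n)).comp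
      ((AdicCompletion.evalₐ J n : AdicCompletion J (MvPolynomial σ A) →+* _).comp
        (e : MvPowerSeries σ A →+* AdicCompletion J (MvPolynomial σ A)))
  have hg : ∀ n f, g n f = Ideal.Quotient.mk (I ^ n) (p (MvPowerSeries.truncTotal n f)) := by
    intro n f
    have h1 : AdicCompletion.evalₐ J n (e f) =
        Ideal.Quotient.mk (J ^ n) (MvPowerSeries.truncTotal n f) := by
      rw [← AdicCompletion.factor_eval_eq_evalₐ J (e f) (le_of_eq (Ideal.mul_top _))]
      rw [AdicCompletion.eval_apply]
      simp only [e, J, MvPowerSeries.toAdicCompletionAlgEquiv_apply,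
        MvPowerSeries.toAdicCompletion_apply_eq_mk_truncTotal]
      exact Ideal.Quotient.factor_mk (le_of_eq (Ideal.mul_top _)) _
    show Ideal.quotientMap (I ^ n) p.toRingHom (hp n) (AdicCompletion.evalₐ J n (e f)) = _
    rw [h1]
    exact Ideal.quotientMap_mk
  have hcomp : ∀ {m n : ℕ} (hmn : m ≤ n), (Ideal.Quotient.factorPow I hmn).comp (g n) = g m := by
    intro m n hmn
    ext f
    rw [RingHom.comp_apply, hg, hg, Ideal.Quotient.factor_mk, Ideal.Quotient.eq, ← map_sub]
    exact hp m (MvPowerSeries.truncTotal_sub_truncTotal_mem_pow_idealOfVars hmn le_rfl f)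
  let F := IsAdicComplete.liftRingHom I g hcomp
  have hF : ∀ n f, Ideal.Quotient.mk (I ^ n) (F f) =
      Ideal.Quotient.mk (I ^ n) (p (MvPowerSeries.truncTotal n f)) := by
    intro n f
    rw [← hg]
    exact IsAdicComplete.mk_liftRingHom I g hcomp n f
  have hcoe : ∀ q : MvPolynomial σ A, F (q : MvPowerSeries σ A) = p q := by
    intro q
    rw [IsHausdorff.eq_iff_smodEq (I := I)]
    intro n
    rw [SModEq.sub_mem, smul_eq_mul, Ideal.mul_top, ← Ideal.Quotient.eq, hF, Ideal.Quotient.eq,
      ← map_sub]
    exact hp n ((MvPolynomial.mem_pow_idealOfVars_iff' n _).mpr fun x hx => by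
      simp [MvPowerSeries.coeff_truncTotal _ hx])
  refine ⟨{ F with commutes' := fun a => ?_ }, fun i => ?_⟩
  · have := hcoe (MvPolynomial.C a)
    simpa [p, MvPowerSeries.algebraMap_apply] using this
  · show F (MvPowerSeries.X i) = b i
    rw [← MvPolynomial.coe_X, hcoe]
    simp [p]

/-- Maps out of `A[[X]]` into a separated ring are determined by the images of the variables. -/
theorem hom_ext (I : Ideal R) [IsHausdorff I R] {f g : MvPowerSeries σ A →ₐ[A] R}
    (hf : ∀ i, f (MvPowerSeries.X i) ∈ I) (h : ∀ i, f (MvPowerSeries.X i) = g (MvPowerSeries.X i)) :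
    f = g := by
  have hpol : f.comp (MvPolynomial.coeToMvPowerSeries.algHom A) =
      g.comp (MvPolynomial.coeToMvPowerSeries.algHom A) := by
    ext i
    simpa [MvPolynomial.coeToMvPowerSeries.algHom_apply] using h i
  ext x
  rw [IsHausdorff.eq_iff_smodEq (I := I)]
  intro n
  rw [SModEq.sub_mem, smul_eq_mul, Ideal.mul_top]
  have hx := Groth.Agent.Lib.FSAdic.PowerSeries.sub_truncTotal_mem x n
  have hle : ∀ φ : MvPowerSeries σ A →ₐ[A] R, (∀ i, φ (MvPowerSeries.X i) ∈ I) →
      φ (x - ((MvPowerSeries.truncTotal n x : MvPolynomial σ A) : MvPowerSeries σ A)) ∈ I ^ n := by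
    intro φ hφ
    refine (Ideal.pow_right_mono ?_ n).trans (Ideal.le_comap_pow φ n) hx
    rw [Ideal.span_le]
    rintro _ ⟨i, rfl⟩
    exact hφ i
  have h1 := sub_mem (hle f hf) (hle g (fun i => h i ▸ hf i))
  have h2 := AlgHom.congr_fun hpol (MvPowerSeries.truncTotal n x)
  simp only [AlgHom.comp_apply, MvPolynomial.coeToMvPowerSeries.algHom_apply, Algebra.algebraMap_self,
    MvPowerSeries.map_id, RingHom.id_apply] at h2
  rwa [map_sub, map_sub, h2, sub_sub_sub_cancel_right] at h1

/-- A map of complete local rings which is surjective on residue fields and on cotangent spaces is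
surjective. -/
theorem surjective_of_cotangent {R : Type u} {S : Type v} [CommRing R] [CommRing S] [IsLocalRing R]
    [IsLocalRing S] [IsNoetherianRing S] [IsAdicComplete (maximalIdeal R) R]
    (φ : R →+* S) (hres : Function.Surjective ((residue S).comp φ))
    (hφ : (maximalIdeal R).map φ ≤ maximalIdeal S)
    (hcot : maximalIdeal S ≤ (maximalIdeal R).map φ ⊔ maximalIdeal S ^ 2) : Function.Surjective φ := by
  have h1 : maximalIdeal S = (maximalIdeal R).map φ := by
    refine le_antisymm ?_ hφ
    apply Submodule.le_of_le_smul_of_le_jacobson_bot (IsNoetherian.noetherian _)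
      (jacobson_eq_maximalIdeal ⊥ bot_ne_top).ge
    rw [smul_eq_mul, ← pow_two]
    exact hcot
  haveI : IsHausdorff ((maximalIdeal R).map φ) S := h1 ▸ inferInstance
  apply surjective_of_mk_map_comp_surjective (I := maximalIdeal R)
  intro q
  obtain ⟨y, rfl⟩ := Ideal.Quotient.mk_surjective q
  obtain ⟨x, hx⟩ := hres (residue S y)
  refine ⟨x, ?_⟩
  rw [RingHom.comp_apply, Ideal.Quotient.eq, ← h1, ← residue_eq_zero_iff, map_sub]
  exact sub_eq_zero.mpr hx

/-- A surjection of regular local rings with the same number of generators is injective. -/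
theorem injective_of_spanFinrank {R : Type u} {S : Type v} [CommRing R] [CommRing S]
    [IsRegularLocalRing R] [IsRegularLocalRing S] (φ : R →+* S) (hφ : Function.Surjective φ)
    (h : (maximalIdeal R).spanFinrank = (maximalIdeal S).spanFinrank) : Function.Injective φ := by
  let e := RingHom.quotientKerEquivOfSurjective hφ
  haveI : IsRegularLocalRing (R ⧸ RingHom.ker φ) := IsRegularLocalRing.of_ringEquiv e.symm
  obtain ⟨s, t, hs, -, hl, ht⟩ :=
    Groth.Agent.Lib.Regular.Adapted.exists_adapted _ R rfl (RingHom.ker φ)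
  have hd : (maximalIdeal (R ⧸ RingHom.ker φ)).spanFinrank = (maximalIdeal S).spanFinrank := by
    have h1 := IsRegularLocalRing.spanFinrank_maximalIdeal (R := R ⧸ RingHom.ker φ)
    have h2 := IsRegularLocalRing.spanFinrank_maximalIdeal (R := S)
    rw [ringKrullDim_eq_of_ringEquiv e, ← h2] at h1
    exact_mod_cast h1
  have : s = [] := List.eq_nil_of_length_eq_zero (by omega)
  rw [RingHom.injective_iff_ker_eq_bot, ← hs, this]
  simp

theorem spanFinrank_maximalIdeal (k : Type u) [Field k] (d : ℕ) :
    (maximalIdeal (MvPowerSeries (Fin d) k)).spanFinrank = d := by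
  haveI := isRegularLocalRing_fin k d
  have h1 := IsRegularLocalRing.spanFinrank_maximalIdeal (R := MvPowerSeries (Fin d) k)
  rw [ringKrullDim_eq k d] at h1
  exact_mod_cast h1

theorem span_eq_maximalIdeal {R : Type u} [CommRing R] [IsLocalRing R] [IsNoetherianRing R]
    {ι : Type v} (b : ι → maximalIdeal R)
    (hsp : Submodule.span (ResidueField R)
      (Set.range fun i => (maximalIdeal R).toCotangent (b i)) = ⊤) :
    Ideal.span (Set.range fun i => (b i : R)) = maximalIdeal R := by
  have h1 : Submodule.span R (Set.range b) = ⊤ := by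
    rw [← IsLocalRing.CotangentSpace.span_image_eq_top_iff, ← Set.range_comp]
    exact hsp
  have h2 := congrArg (Submodule.map (Submodule.subtype (maximalIdeal R))) h1
  rw [Submodule.map_span, Submodule.map_top, Submodule.range_subtype, ← Set.range_comp] at h2
  exact h2

/-- A surjective endomorphism of a Noetherian ring is injective. -/
theorem injective_of_surjective {R : Type u} [CommRing R] [IsNoetherianRing R] (f : R →+* R)
    (hf : Function.Surjective f) : Function.Injective f := by
  let g : ℕ →o Ideal R :=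
    ⟨fun n => RingHom.ker (f ^ n), monotone_nat_of_le_succ fun n x hx => by
      simp only [RingHom.mem_ker, pow_succ'] at hx ⊢
      rw [RingHom.mul_def, RingHom.comp_apply, hx, map_zero]⟩
  obtain ⟨n, hn⟩ := monotone_stabilizes_iff_noetherian.mpr (inferInstance : IsNoetherian R R) g
  rw [injective_iff_map_eq_zero]
  intro x hx
  obtain ⟨y, rfl⟩ : ∃ y, (f ^ n) y = x := by
    rw [RingHom.coe_pow]; exact hf.iterate n x
  have : y ∈ RingHom.ker (f ^ (n + 1)) := by
    rw [RingHom.mem_ker, pow_succ', RingHom.mul_def, RingHom.comp_apply, hx]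
  rw [← show g n = RingHom.ker (f ^ (n + 1)) from hn (n + 1) (by omega)] at this
  exact this

theorem isAdicComplete_of_pow_eq_bot {R : Type u} [CommRing R] (I : Ideal R) (N : ℕ)
    (h : I ^ N = ⊥) : IsAdicComplete I R := by
  refine { haus' := fun x hx => ?_, prec' := fun f hf => ⟨f N, fun n => ?_⟩ }
  · have := hx N
    rwa [h, Submodule.bot_smul, SModEq.bot] at this
  · rcases le_total n N with hn | hn
    · exact hf hn
    · have h2 := hf hn
      rw [h, Submodule.bot_smul, SModEq.bot] at h2
      rw [h2]

end Groth.Agent.H24.PowerSeries
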