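import Groth.Agent.H22.NilLocal
import Mathlib.RingTheory.Regular.RegularSequence
import Mathlib.RingTheory.Artinian.Ring
import Mathlib.LinearAlgebra.TensorProduct.Quotient

/-!
# Regular sequences on flat modules over an Artinian local base
-/

set_option autoImplicit false
set_option linter.style.haveILetI false

universe u v w

open TensorProduct IsLocalRing Pointwise RingTheory.Sequence

namespace Groth.Agent.H24.ArtinianRegular

variable {A : Type u} [CommRing A] [IsArtinianRing A] [IsLocalRing A]

/-- A non-trivial module over an Artinian local ring contains the residue field. -/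
theorem exists_injective (V : Type v) [AddCommGroup V] [Module A V] [Nontrivial V] :
    ∃ σ : (A ⧸ maximalIdeal A) →ₗ[A] V, Function.Injective σ := by
  classical
  obtain ⟨n, hn⟩ := Groth.Agent.H22.NilLocal.isNilpotent_maximal (A := A)
  have key : ∀ j : ℕ, ∀ v : V, v ≠ 0 → (∀ a ∈ maximalIdeal A ^ j, a • v = 0) →
      ∃ s : V, s ≠ 0 ∧ ∀ a ∈ maximalIdeal A, a • s = 0 := by
    intro j
    induction j with
    | zero => intro v hv h; exact absurd (by simpa using h 1 (by simp)) hv
    | succ j ih =>
      intro v hv h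
      by_cases hm : ∀ a ∈ maximalIdeal A, a • v = 0
      · exact ⟨v, hv, hm⟩
      · push Not at hm
        obtain ⟨a, ha, hav⟩ := hm
        exact ih (a • v) hav fun b hb => by
          rw [← mul_smul]; exact h _ (by rw [pow_succ]; exact Ideal.mul_mem_mul hb ha)
  obtain ⟨v, hv⟩ := exists_ne (0 : V)
  obtain ⟨s, hs, hms⟩ := key n v hv fun a ha => by
    rw [hn, Ideal.zero_eq_bot, Ideal.mem_bot] at ha; rw [ha, zero_smul]
  refine ⟨Submodule.liftQ (maximalIdeal A) (LinearMap.toSpanSingleton A V s)
    (fun a ha => hms a ha), ?_⟩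
  refine (injective_iff_map_eq_zero _).2 fun z hz => ?_
  obtain ⟨a, rfl⟩ := Submodule.Quotient.mk_surjective _ z
  refine (Submodule.Quotient.mk_eq_zero _).2 ?_
  by_contra ha
  obtain ⟨b, hb⟩ := (IsLocalRing.notMem_maximalIdeal.1 ha).exists_left_inv
  refine hs ?_
  replace hz : a • s = 0 := hz
  rw [← one_smul A s, ← hb, mul_smul, hz, smul_zero]

variable {M : Type v} [AddCommGroup M] [Module A M] [Module.Flat A M]

theorem lTensor_iff (u : M →ₗ[A] M) (V : Type w) [AddCommGroup V] [Module A V] [Nontrivial V] :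
    Function.Injective (u.lTensor V) ↔ Function.Injective (u.lTensor (A ⧸ maximalIdeal A)) := by
  constructor
  · intro h
    obtain ⟨σ, hσ⟩ := exists_injective (A := A) V
    have h1 : Function.Injective (σ.rTensor M) := Module.Flat.rTensor_preserves_injective_linearMap σ hσ
    have h2 : σ.rTensor M ∘ₗ u.lTensor (A ⧸ maximalIdeal A) = u.lTensor V ∘ₗ σ.rTensor M := by
      rw [LinearMap.rTensor_comp_lTensor, LinearMap.lTensor_comp_rTensor]
    have h3 : Function.Injective (σ.rTensor M ∘ₗ u.lTensor (A ⧸ maximalIdeal A)) := by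
      rw [h2]; exact h.comp h1
    exact Function.Injective.of_comp h3
  · intro h
    obtain ⟨r, hr⟩ := Groth.Agent.H22.NilLocal.exists_retraction
      (Groth.Agent.H22.NilLocal.isNilpotent_maximal) u h
    refine Function.LeftInverse.injective (g := r.lTensor V) fun x => ?_
    rw [← LinearMap.comp_apply, ← LinearMap.lTensor_comp, hr, LinearMap.lTensor_id, LinearMap.id_apply]

variable {S : Type*} [CommRing S] [Algebra A S]

section

variable [Module S M] [IsScalarTower A S M]

/-- Multiplication by `f`. -/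
def mulBy (f : S) : M →ₗ[A] M := (LinearMap.lsmul S M f).restrictScalars A

omit [IsArtinianRing A] [IsLocalRing A] [Module.Flat A M] in
theorem lTensor_mulBy_iff (I : Ideal A) (f : S) :
    Function.Injective ((mulBy f : M →ₗ[A] M).lTensor (A ⧸ I)) ↔
      IsSMulRegular (M ⧸ I.map (algebraMap A S) • (⊤ : Submodule S M)) f := by
  let e : ((A ⧸ I) ⊗[A] M) ≃ₗ[A] M ⧸ I.map (algebraMap A S) • (⊤ : Submodule S M) :=
    (TensorProduct.quotTensorEquivQuotSMul M I).trans
      ((Submodule.quotEquivOfEq _ _ (by
        exact ((Ideal.smul_restrictScalars I (⊤ : Submodule S M)).trans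
          (by rw [Submodule.restrictScalars_top])).symm)).trans
        (Submodule.Quotient.restrictScalarsEquiv A _))
  have he : ∀ z, e ((mulBy f : M →ₗ[A] M).lTensor (A ⧸ I) z) = f • e z := by
    intro z
    induction z using TensorProduct.induction_on with
    | zero => simp
    | add a b ha hb => simp only [map_add, ha, hb, smul_add]
    | tmul a m =>
      obtain ⟨a, rfl⟩ := Ideal.Quotient.mk_surjective a
      simp [e, mulBy, TensorProduct.quotTensorEquivQuotSMul_mk_tmul, smul_comm f a]
  constructor
  · intro h a b hab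
    exact e.symm.injective (h (e.injective (by
      rw [he, he, e.apply_symm_apply, e.apply_symm_apply]; exact hab)))
  · intro h a b hab
    exact e.injective (h (by show f • e a = f • e b; rw [← he, ← he, hab]))

theorem isSMulRegular_iff {I : Ideal A} (hI : I ≠ ⊤) (f : S) :
    IsSMulRegular M f ↔ IsSMulRegular (M ⧸ I.map (algebraMap A S) • (⊤ : Submodule S M)) f := by
  haveI : Nontrivial (A ⧸ I) := Ideal.Quotient.nontrivial_iff.2 hI
  rw [← lTensor_mulBy_iff I f, lTensor_iff, ← lTensor_iff _ A]
  let e : A ⊗[A] M ≃ₗ[A] M := TensorProduct.lid A M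
  have he : ∀ z, e ((mulBy f : M →ₗ[A] M).lTensor A z) = f • e z := by
    intro z
    induction z using TensorProduct.induction_on with
    | zero => simp
    | add a b ha hb => simp only [map_add, ha, hb, smul_add]
    | tmul a m => simp [e, mulBy, smul_comm f a]
  constructor
  · intro h a b hab
    exact e.injective (h (by show f • e a = f • e b; rw [← he, ← he, hab]))
  · intro h a b hab
    exact e.symm.injective (h (e.injective (by
      rw [he, he, e.apply_symm_apply, e.apply_symm_apply]; exact hab)))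

theorem flat_quotient_aux (N : Submodule S M) (u : M →ₗ[A] M)
    (hu : ∀ m, m ∈ LinearMap.range u ↔ m ∈ N)
    (hinj : Function.Injective (u.lTensor (A ⧸ maximalIdeal A))) : Module.Flat A (M ⧸ N) :=
by
  have hN : LinearMap.range u = N.restrictScalars A := Submodule.ext hu
  haveI : Module.Flat A (M ⧸ LinearMap.range u) :=
    Groth.Agent.H22.NilLocal.flat_coker_of_lTensor_injective
      (Groth.Agent.H22.NilLocal.isNilpotent_maximal) u (LinearMap.range u).mkQ
      (Submodule.mkQ_surjective _) (LinearMap.exact_iff.2 (Submodule.ker_mkQ _)) hinj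
  exact Module.Flat.of_linearEquiv (R := A)
    ((Submodule.Quotient.restrictScalarsEquiv A N).symm.trans (Submodule.quotEquivOfEq _ _ hN.symm))

theorem flat_quotient {f : S} (hf : IsSMulRegular M f) : Module.Flat A (QuotSMulTop f M) := by
  have hinj : Function.Injective ((mulBy f : M →ₗ[A] M).lTensor (A ⧸ maximalIdeal A)) := by
    rw [← lTensor_iff _ A]
    intro a b hab
    refine (TensorProduct.lid A M).injective (hf ?_)
    have he : ∀ z, TensorProduct.lid A M ((mulBy f : M →ₗ[A] M).lTensor A z) = f • TensorProduct.lid A M z := by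
      intro z
      induction z using TensorProduct.induction_on with
      | zero => simp
      | add a b ha hb => simp only [map_add, ha, hb, smul_add]
      | tmul a m => simp [mulBy, smul_comm f a]
    show f • _ = f • _
    rw [← he, ← he, hab]
  refine flat_quotient_aux (f • (⊤ : Submodule S M)) (mulBy f) (fun m => ?_) hinj
  rw [Submodule.mem_smul_pointwise_iff_exists]
  exact ⟨fun ⟨y, hy⟩ => ⟨y, trivial, hy⟩, fun ⟨y, _, hy⟩ => ⟨y, hy⟩⟩

end

omit [IsArtinianRing A] [IsLocalRing A] [Module.Flat A M] in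
/-- The two quotients commute. -/
noncomputable def swapEquiv [Module S M] (N : Ideal S) (f : S) :
    QuotSMulTop f (M ⧸ N • (⊤ : Submodule S M)) ≃ₗ[S]
      (QuotSMulTop f M ⧸ N • (⊤ : Submodule S (QuotSMulTop f M))) :=
  let p := N • (⊤ : Submodule S M)
  let q := f • (⊤ : Submodule S M)
  let φ : M →ₗ[S] QuotSMulTop f (M ⧸ p) := (Submodule.mkQ _).comp p.mkQ
  let ψ : M →ₗ[S] QuotSMulTop f M ⧸ N • (⊤ : Submodule S (QuotSMulTop f M)) := (Submodule.mkQ _).comp q.mkQ
  have hφ : Function.Surjective φ := (Submodule.mkQ_surjective _).comp p.mkQ_surjective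
  have hψ : Function.Surjective ψ := (Submodule.mkQ_surjective _).comp q.mkQ_surjective
  have hk : LinearMap.ker φ = LinearMap.ker ψ := by
    rw [LinearMap.ker_comp, LinearMap.ker_comp, Submodule.ker_mkQ, Submodule.ker_mkQ]
    have h1 : f • (⊤ : Submodule S (M ⧸ p)) = q.map p.mkQ := by
      rw [Submodule.map_pointwise_smul, Submodule.map_top, Submodule.range_mkQ]
    have h2 : N • (⊤ : Submodule S (M ⧸ q)) = p.map q.mkQ := by
      rw [Submodule.map_smul'', Submodule.map_top, Submodule.range_mkQ]
    show Submodule.comap p.mkQ (f • ⊤) = Submodule.comap q.mkQ (N • ⊤)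
    rw [h1, h2, Submodule.comap_map_eq, Submodule.comap_map_eq, Submodule.ker_mkQ, Submodule.ker_mkQ,
      sup_comm]
  ((φ.quotKerEquivOfSurjective hφ).symm.trans (Submodule.quotEquivOfEq _ _ hk)).trans
    (ψ.quotKerEquivOfSurjective hψ)

theorem isWeaklyRegular_iff {I : Ideal A} (hI : I ≠ ⊤) (rs : List S) :
    ∀ (M : Type v) [AddCommGroup M] [Module A M] [Module S M] [IsScalarTower A S M] [Module.Flat A M],
      IsWeaklyRegular M rs ↔ IsWeaklyRegular (M ⧸ I.map (algebraMap A S) • (⊤ : Submodule S M)) rs := by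
  induction rs with
  | nil => intros; simp
  | cons f rs ih =>
    intro M _ _ _ _ _
    rw [isWeaklyRegular_cons_iff, isWeaklyRegular_cons_iff, ← isSMulRegular_iff hI f]
    refine and_congr_right fun hf => ?_
    haveI := flat_quotient (A := A) hf
    rw [(swapEquiv (I.map (algebraMap A S)) f).isWeaklyRegular_congr]
    exact ih (QuotSMulTop f M)

omit [Module.Flat A M] in
theorem isRegular_iff {I : Ideal A} (hI : I ≠ ⊤) [Module.Flat A S] (rs : List S) :
    IsRegular S rs ↔
      IsRegular (S ⧸ I.map (algebraMap A S)) (rs.map (Ideal.Quotient.mk (I.map (algebraMap A S)))) := by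
  let J := I.map (algebraMap A S)
  let e : (S ⧸ J • (⊤ : Submodule S S)) ≃ₗ[S] S ⧸ J :=
    Submodule.quotEquivOfEq _ _ (by rw [smul_eq_mul, Ideal.mul_top])
  have hw : IsWeaklyRegular S rs ↔ IsWeaklyRegular (S ⧸ J) (rs.map (Ideal.Quotient.mk J)) := by
    rw [← Ideal.Quotient.algebraMap_eq, isWeaklyRegular_map_algebraMap_iff,
      isWeaklyRegular_iff hI rs S, e.isWeaklyRegular_congr]
  have hnil : J ≤ nilradical S := Ideal.map_le_iff_le_comap.2 fun a ha => by
    obtain ⟨n, hn⟩ := Groth.Agent.H22.NilLocal.isNilpotent_maximal (A := A)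
    refine ⟨n, ?_⟩
    rw [← map_pow]
    have := Ideal.pow_mem_pow (IsLocalRing.le_maximalIdeal hI ha) n
    rw [hn, Ideal.zero_eq_bot, Ideal.mem_bot] at this
    rw [this, map_zero]
    exact zero_mem _
  have htop : (⊤ : Submodule S S) ≠ Ideal.ofList rs • ⊤ ↔
      (⊤ : Submodule (S ⧸ J) (S ⧸ J)) ≠ Ideal.ofList (rs.map (Ideal.Quotient.mk J)) • ⊤ := by
    rw [not_iff_not, smul_eq_mul, Ideal.mul_top, smul_eq_mul, Ideal.mul_top, ← Ideal.map_ofList,
      eq_comm, eq_comm (a := (⊤ : Ideal (S ⧸ J)))]
    constructor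
    · intro h; rw [h, Ideal.map_top]
    · intro h
      have h1 := congrArg (Ideal.comap (Ideal.Quotient.mk J)) h
      rw [Ideal.comap_map_quotientMk, Ideal.comap_top, sup_comm] at h1
      rw [← Ideal.radical_eq_top, eq_top_iff, ← h1]
      exact sup_le Ideal.le_radical (hnil.trans (Ideal.radical_mono bot_le))
  exact ⟨fun h => ⟨hw.1 h.toIsWeaklyRegular, htop.1 h.top_ne_smul⟩,
    fun h => ⟨hw.2 h.toIsWeaklyRegular, htop.2 h.top_ne_smul⟩⟩

end Groth.Agent.H24.ArtinianRegular
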