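import Groth.Agent.Lib.Unram.CompletionBranch
import Groth.Agent.Lib.Unram.BranchHenselian
import Groth.Agent.Lib.Dim.Integral
import Groth.Agent.Lib.Regular.Descent
import Mathlib.RingTheory.QuasiFinite.Basic
import Mathlib.RingTheory.Ideal.Height
import Mathlib.RingTheory.KrullDimension.NonZeroDivisors
import Mathlib.RingTheory.TensorProduct.Quotient
import Mathlib.RingTheory.Flat.Stability

/-!
# Dimensions of branches

Over a henselian faithfully flat ind-étale local algebra `S` of a Noetherian local ring `A`, all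
components have dimension at least `d` iff all maximal ideals of the normalisation have height at
least `d`.
-/

set_option autoImplicit false

universe u

open IsLocalRing
open scoped TensorProduct

namespace Groth.Agent.H24.C2Dim

open Groth.Agent.Lib

attribute [local instance] Algebra.TensorProduct.rightAlgebra

/-- There are no inclusions between the primes of a fibre of an ind-étale algebra. -/
theorem eq_of_le_of_comap_eq {R B : Type u} [CommRing R] [CommRing B] [Algebra R B]
    (h : EtPBC.IsIndEtale R B) {P Q : Ideal B} [P.IsPrime] [Q.IsPrime] (hle : P ≤ Q)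
    (heq : P.comap (algebraMap R B) = Q.comap (algebraMap R B)) : P = Q := by
  refine le_antisymm hle fun x hx => ?_
  obtain ⟨E, _, _, hE, u, v, huv⟩ := IndEtale.Basic.factors h (MvPolynomial Unit R) inferInstance
    (MvPolynomial.aeval fun _ : Unit => x)
  have hE' : Algebra.Etale R E := hE
  have hy : v (u (MvPolynomial.X ())) = x := by
    rw [← AlgHom.comp_apply, huv, MvPolynomial.aeval_X]
  have hPQ := Algebra.QuasiFinite.eq_of_le_of_under_eq (R := R) (P.comap v) (Q.comap v)
    (Ideal.comap_mono hle) (by
      ext r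
      simp only [Ideal.under, Ideal.mem_comap, AlgHom.commutes]
      exact SetLike.ext_iff.1 heq r)
  have hmem : u (MvPolynomial.X ()) ∈ Q.comap v := by rwa [Ideal.mem_comap, hy]
  rw [← hPQ, Ideal.mem_comap, hy] at hmem
  exact hmem

/-- The height is unchanged along ind-étale maps. -/
theorem height_comap_eq {R B : Type u} [CommRing R] [CommRing B] [Algebra R B]
    (h : EtPBC.IsIndEtale R B) (M : PrimeSpectrum B) :
    Order.height (PrimeSpectrum.comap (algebraMap R B) M) = Order.height M := by
  have : Algebra.WeaklyEtale R B := IndEtale.Basic.weaklyEtale h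
  have : Module.Flat R B := IndEtale.Basic.flat (IndEtale.Basic.factors h)
  refine le_antisymm (Order.height_le fun l hl => ?_)
    (Order.height_le_height_apply_of_strictMono _ (fun P Q hPQ => ?_) M)
  · have : M.asIdeal.LiesOver l.last.asIdeal := ⟨by rw [hl]; rfl⟩
    obtain ⟨L, hL, hLlast, -⟩ := Ideal.exists_ltSeries_of_hasGoingDown l M.asIdeal
    rw [← hL]
    exact Order.length_le_height (by rw [hLlast])
  · refine lt_of_le_of_ne (Ideal.comap_mono hPQ.le) fun he => hPQ.ne (PrimeSpectrum.ext ?_)
    exact eq_of_le_of_comap_eq h hPQ.le (congrArg PrimeSpectrum.asIdeal he)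

/-- Primes below the maximal ideal of a quotient. -/
theorem height_quotient {B : Type u} [CommRing B] (q : Ideal B) (M : PrimeSpectrum B)
    [IsLocalRing (B ⧸ q)] (hM : M.asIdeal.map (Ideal.Quotient.mk q) = maximalIdeal (B ⧸ q))
    (hqM : q ≤ M.asIdeal)
    (hbelow : ∀ Q : PrimeSpectrum B, Q ≤ M → q ≤ Q.asIdeal) :
    ringKrullDim (B ⧸ q) = ((Order.height M : ℕ∞) : WithBot ℕ∞) := by
  have hs : Function.Surjective (Ideal.Quotient.mk q) := Ideal.Quotient.mk_surjective
  let f : PrimeSpectrum (B ⧸ q) → PrimeSpectrum B := PrimeSpectrum.comap (Ideal.Quotient.mk q)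
  let M' : PrimeSpectrum (B ⧸ q) := ⟨maximalIdeal _, inferInstance⟩
  have hfM : f M' = M := PrimeSpectrum.ext (by
    show (maximalIdeal (B ⧸ q)).comap (Ideal.Quotient.mk q) = M.asIdeal
    rw [← hM, Ideal.comap_map_of_surjective _ hs, ← RingHom.ker_eq_comap_bot, Ideal.mk_ker,
      sup_eq_left.2 hqM])
  have hmono : StrictMono f := fun P Q hPQ => lt_of_le_of_ne (Ideal.comap_mono hPQ.le) fun he =>
    hPQ.ne (PrimeSpectrum.ext (Ideal.comap_injective_of_surjective _ hs
      (congrArg PrimeSpectrum.asIdeal he)))
  have key : ∀ a : PrimeSpectrum (B ⧸ q), Order.height a = Order.height (f a) :=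
    Order.height_eq_of_strictMono f hmono fun a b hb => by
      have hbM : b ≤ M := hb.le.trans (hfM ▸ Ideal.comap_mono (le_maximalIdeal a.2.ne_top))
      have hker : RingHom.ker (Ideal.Quotient.mk q) ≤ b.asIdeal := by
        rw [Ideal.mk_ker]; exact hbelow b hbM
      refine ⟨⟨b.asIdeal.map (Ideal.Quotient.mk q),
        Ideal.map_isPrime_of_surjective hs hker⟩, ?_, ?_⟩
      · refine lt_of_le_of_ne ?_ fun he => hb.ne (PrimeSpectrum.ext ?_)
        · exact (Ideal.map_mono hb.le).trans (Ideal.map_comap_le)
        · show b.asIdeal = a.asIdeal.comap _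
          rw [← congrArg PrimeSpectrum.asIdeal he, Ideal.comap_map_of_surjective _ hs,
            ← RingHom.ker_eq_comap_bot, sup_eq_left.2 hker]
      · refine PrimeSpectrum.ext ?_
        show (b.asIdeal.map _).comap _ = b.asIdeal
        rw [Ideal.comap_map_of_surjective _ hs, ← RingHom.ker_eq_comap_bot, sup_eq_left.2 hker]
  rw [← hfM, ← key, ← maximalIdeal_height_eq_ringKrullDim]
  exact congrArg _ (PrimeSpectrum.height_eq_orderHeight M')

section Branch

variable (A S A' : Type u) [CommRing A] [CommRing S] [Algebra A S] [CommRing A'] [IsDomain A']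
  [IsIntegrallyClosed A'] [Algebra A A'] [Algebra.IsIntegral A A'] [Module.Flat A S]
  [HenselianLocalRing S]

/-- One component: branches over `p` and maximal ideals of the normalisation of `A ⧸ p`. -/
theorem forall_le_iff (hmaxA : ((maximalIdeal S).comap (algebraMap A S)).IsMaximal) (hind : EtPBC.IsIndEtale A S) [Module.FaithfullyFlat A S] (p : Ideal A)
    [p.IsPrime] (hker : RingHom.ker (algebraMap A A') = p) (hp : p ∈ minimalPrimes A)
    (d : WithBot ℕ∞) :
    (∀ m' : MaximalSpectrum A', d ≤ ringKrullDim (Localization.AtPrime m'.asIdeal)) ↔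
      ∀ P ∈ minimalPrimes S, P.comap (algebraMap A S) = p → d ≤ ringKrullDim (S ⧸ P) := by
  let B := A' ⊗[A] S
  have hindB : EtPBC.IsIndEtale A' B := IndEtale.Basic.baseChange A' hind
  have : Algebra.IsIntegral S B := Unram.BranchHenselian.isIntegral_right A S A'
  have hcomm : ∀ a : A, algebraMap S B (algebraMap A S a) = algebraMap A' B (algebraMap A A' a) :=
    fun a => by
      change (1 : A') ⊗ₜ[A] algebraMap A S a = algebraMap A A' a ⊗ₜ[A] (1 : S)
      rw [Algebra.algebraMap_eq_smul_one, Algebra.algebraMap_eq_smul_one, TensorProduct.smul_tmul]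
  -- a prime of `B` over a prime `P ⊇ pS`
  have hkerR : RingHom.ker (algebraMap S B) ≤ p.map (algebraMap A S) := by
    intro s hs
    let l : (A ⧸ p) →ₗ[A] A' := p.liftQ (Algebra.linearMap A A') (le_of_eq (by rw [← hker]; rfl))
    have hl : Function.Injective l := LinearMap.ker_eq_bot.mp (Submodule.ker_liftQ_eq_bot _ _ _
      (le_of_eq (by rw [← hker]; rfl)))
    have h := Module.Flat.rTensor_preserves_injective_linearMap (M := S) l hl
    have h0 : (Ideal.Quotient.mk p 1) ⊗ₜ[A] s = 0 := h (by
      rw [map_zero, LinearMap.rTensor_tmul]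
      have : l (Ideal.Quotient.mk p 1) = 1 :=
        (Submodule.liftQ_apply _ _ _).trans (map_one (algebraMap A A'))
      rw [this]
      exact hs)
    have h1 := congrArg (TensorProduct.quotTensorEquivQuotSMul S p) h0
    rw [map_zero, TensorProduct.quotTensorEquivQuotSMul_mk_tmul, one_smul,
      Submodule.Quotient.mk_eq_zero, Ideal.smul_top_eq_map] at h1
    exact h1
  -- what a maximal ideal with a prime `q` below it and meeting `A'` in zero gives
  have main : ∀ (M q : Ideal B) [M.IsMaximal] [q.IsPrime], q ≤ M →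
      q.comap (algebraMap A' B) = ⊥ →
      (M.comap (algebraMap A' B)).IsMaximal ∧
      ringKrullDim (S ⧸ q.comap (algebraMap S B)) =
        ringKrullDim (Localization (M.comap (algebraMap A' B)).primeCompl) := by
    intro M q _ _ hqM hq0
    have : IsDomain (Localization.AtPrime M) :=
      Unram.BranchHenselian.isDomain_localization A' B hindB M
    have hMA : (M.comap (algebraMap A' B)).IsMaximal := by
      have h1 : (M.comap (algebraMap S B)).IsMaximal :=
        Ideal.isMaximal_comap_of_isIntegral_of_isMaximal M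
      have h2 : ((M.comap (algebraMap A' B)).comap (algebraMap A A')).IsMaximal := by
        rw [Ideal.comap_comap]
        have : (algebraMap A' B).comp (algebraMap A A') = (algebraMap S B).comp (algebraMap A S) :=
          RingHom.ext fun a => (hcomm a).symm
        rw [this, ← Ideal.comap_comap, eq_maximalIdeal h1]
        exact hmaxA
      exact Ideal.isMaximal_of_isIntegral_of_isMaximal_comap _ h2
    refine ⟨hMA, ?_⟩
    -- `q` is the only minimal prime below `M`
    have hbelow : ∀ Q : PrimeSpectrum B, Q ≤ ⟨M, inferInstance⟩ → q ≤ Q.asIdeal := by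
      intro Q hQ
      let K := RingHom.ker (algebraMap B (Localization.AtPrime M))
      have hK : K.IsPrime := RingHom.ker_isPrime _
      have hKle : ∀ Q : Ideal B, Q.IsPrime → Q ≤ M → K ≤ Q := fun Q hQ hQM x hx => by
        obtain ⟨s, hs⟩ := (IsLocalization.map_eq_zero_iff M.primeCompl _ _).mp hx
        exact (hQ.mem_or_mem (hs ▸ Q.zero_mem : (s : B) * x ∈ Q)).resolve_left
          fun hsq => s.2 (hQM hsq)
      have hKq : K = q := eq_of_le_of_comap_eq hindB (hKle q inferInstance hqM)
        (le_antisymm (Ideal.comap_mono (hKle q inferInstance hqM)) (by rw [hq0]; exact bot_le))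
      rw [← hKq]
      exact hKle _ Q.2 hQ
    let P := q.comap (algebraMap S B)
    have : q.LiesOver P := ⟨rfl⟩
    have hint : Algebra.IsIntegral S (B ⧸ q) := ⟨fun x => by
      obtain ⟨x, rfl⟩ := Ideal.Quotient.mk_surjective x
      exact (Algebra.IsIntegral.isIntegral (R := S) x).map (Ideal.Quotient.mkₐ S q)⟩
    have : Algebra.IsIntegral (S ⧸ P) (B ⧸ q) := ⟨fun x => (hint.isIntegral x).tower_top⟩
    have : IsLocalRing (B ⧸ q) := Henselian.Unibranch.isLocalRing_of_isDomain S (B ⧸ q)
    have hMq : M.map (Ideal.Quotient.mk q) = maximalIdeal (B ⧸ q) := by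
      refine eq_maximalIdeal ((Ideal.map_eq_top_or_isMaximal_of_surjective _
        Ideal.Quotient.mk_surjective ‹M.IsMaximal›).resolve_left fun ht => ?_)
      have h := congrArg (Ideal.comap (Ideal.Quotient.mk q)) ht
      rw [Ideal.comap_map_of_surjective _ Ideal.Quotient.mk_surjective, ← RingHom.ker_eq_comap_bot,
        Ideal.mk_ker, sup_eq_left.2 hqM, Ideal.comap_top] at h
      exact Ideal.IsMaximal.ne_top ‹_› h
    rw [← Dim.Integral.ringKrullDim_eq_of_isIntegral (R := S ⧸ P) (A := B ⧸ q),
      height_quotient q ⟨M, inferInstance⟩ hMq hqM hbelow, ← height_comap_eq hindB]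
    refine Eq.trans ?_ (IsLocalization.AtPrime.ringKrullDim_eq_height
      (M.comap (algebraMap A' B)) (Localization.AtPrime (M.comap (algebraMap A' B)))).symm
    exact congrArg _ (PrimeSpectrum.height_eq_orderHeight _).symm
  constructor
  · intro h P hP hPp
    have := hP.1.1
    have hle0 : (⊥ : Ideal B).comap (algebraMap S B) ≤ P := by
      rw [← RingHom.ker_eq_comap_bot]
      exact hkerR.trans (Ideal.map_le_iff_le_comap.mpr hPp.ge)
    obtain ⟨q, -, hq, hqP⟩ := Ideal.exists_ideal_over_prime_of_isIntegral (R := S) P ⊥ hle0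
    have hq0 : q.comap (algebraMap A' B) = ⊥ := by
      have h1 : (q.comap (algebraMap A' B)).comap (algebraMap A A') = p := by
        ext a
        rw [Ideal.mem_comap, Ideal.mem_comap, ← hcomm, ← hPp, ← hqP]
        rfl
      by_contra hne
      have h2 := Ideal.IsIntegral.comap_lt_comap
        (R := A) (A := A') (I := (⊥ : Ideal A')) (J := q.comap (algebraMap A' B)) (bot_lt_iff_ne_bot.2 hne)
      rw [h1, ← RingHom.ker_eq_comap_bot, hker] at h2
      exact lt_irrefl _ h2
    obtain ⟨M, hM, hqM⟩ := Ideal.exists_le_maximal q hq.ne_top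
    obtain ⟨hmax, hdim⟩ := main M q hqM hq0
    rw [← hqP, hdim]
    exact h ⟨_, hmax⟩
  · intro h m'
    have := m'.isMaximal
    have : Module.FaithfullyFlat A' B := inferInstance
    obtain ⟨Q, hQ⟩ := PrimeSpectrum.comap_surjective_of_faithfullyFlat (A := A') (B := B)
      ⟨m'.asIdeal, inferInstance⟩
    obtain ⟨M, hM, hQM⟩ := Ideal.exists_le_maximal Q.asIdeal Q.2.ne_top
    obtain ⟨q, hq, hqM⟩ := Ideal.exists_minimalPrimes_le (I := (⊥ : Ideal B)) (J := M) bot_le
    have := hq.1.1
    have hq0 : q.comap (algebraMap A' B) = ⊥ := by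
      have := (Unram.BranchHenselian.comap_minimalPrime_mem A' B hq)
      rwa [IsDomain.minimalPrimes_eq_singleton_bot, Set.mem_singleton_iff] at this
    obtain ⟨hmax, hdim⟩ := main M q hqM hq0
    let P := q.comap (algebraMap S B)
    have hPp : P.comap (algebraMap A S) = p := by
      ext a
      rw [Ideal.mem_comap, Ideal.mem_comap, hcomm, ← Ideal.mem_comap (f := algebraMap A' B), hq0,
        Ideal.mem_bot, ← RingHom.mem_ker, hker]
    have hPmin : P ∈ minimalPrimes S := by
      obtain ⟨P₀, hP₀, hle⟩ := Ideal.exists_minimalPrimes_le (I := (⊥ : Ideal S)) (J := P) bot_le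
      have := hP₀.1.1
      have h0 : P₀.comap (algebraMap A S) = p :=
        le_antisymm ((Ideal.comap_mono hle).trans hPp.le)
          (hp.2 ⟨Ideal.comap_isPrime _ _, bot_le⟩ ((Ideal.comap_mono hle).trans hPp.le))
      exact eq_of_le_of_comap_eq hind hle (h0.trans hPp.symm) ▸ hP₀
    have he : M.comap (algebraMap A' B) = m'.asIdeal :=
      (m'.isMaximal.eq_of_le hmax.ne_top
        ((congrArg PrimeSpectrum.asIdeal hQ).ge.trans (Ideal.comap_mono hQM))).symm
    have h2 := (h P hPmin hPp).trans hdim.le
    have key : ∀ (I : Ideal A') [I.IsPrime], I = m'.asIdeal →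
        d ≤ ringKrullDim (Localization.AtPrime I) →
        d ≤ ringKrullDim (Localization.AtPrime m'.asIdeal) := by
      rintro I _ rfl h; exact h
    exact key _ he h2

end Branch

/-- The local ring of a prime of a direct factor. -/
theorem ringKrullDim_atPrime_comap {R T : Type u} [CommRing R] [CommRing T] (π : R →+* T)
    (hπ : Function.Surjective π) (e : R) (he : π e = 1) (hk : ∀ x, π x = 0 → x * e = 0)
    (m : Ideal T) [m.IsPrime] :
    ringKrullDim (Localization.AtPrime (m.comap π)) = ringKrullDim (Localization.AtPrime m) := by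
  let f : PrimeSpectrum T → PrimeSpectrum R := PrimeSpectrum.comap π
  have hmono : StrictMono f := fun P Q hPQ => lt_of_le_of_ne (Ideal.comap_mono hPQ.le) fun h =>
    hPQ.ne (PrimeSpectrum.ext (Ideal.comap_injective_of_surjective _ hπ
      (congrArg PrimeSpectrum.asIdeal h)))
  have key : Order.height (⟨m, inferInstance⟩ : PrimeSpectrum T) =
      Order.height (f ⟨m, inferInstance⟩) := by
    refine Order.height_eq_of_strictMono f hmono (fun a b hb => ?_) _
    have hker : RingHom.ker π ≤ b.asIdeal := fun x hx => by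
      refine (b.2.mem_or_mem (show x * e ∈ b.asIdeal by rw [hk x hx]; exact b.asIdeal.zero_mem))
        |>.resolve_right fun h => a.2.ne_top ((Ideal.eq_top_iff_one _).mpr ?_)
      rw [← he]
      exact hb.le h
    refine ⟨⟨b.asIdeal.map π, Ideal.map_isPrime_of_surjective hπ hker⟩, ?_, PrimeSpectrum.ext ?_⟩
    · refine lt_of_le_of_ne ((Ideal.map_mono hb.le).trans Ideal.map_comap_le) fun h =>
        hb.ne (PrimeSpectrum.ext ?_)
      show b.asIdeal = a.asIdeal.comap π
      rw [← congrArg PrimeSpectrum.asIdeal h, Ideal.comap_map_of_surjective _ hπ,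
        ← RingHom.ker_eq_comap_bot, sup_eq_left.2 hker]
    · show (b.asIdeal.map π).comap π = b.asIdeal
      rw [Ideal.comap_map_of_surjective _ hπ, ← RingHom.ker_eq_comap_bot, sup_eq_left.2 hker]
  rw [IsLocalization.AtPrime.ringKrullDim_eq_height (m.comap π),
    IsLocalization.AtPrime.ringKrullDim_eq_height m,
    PrimeSpectrum.height_eq_orderHeight ⟨m, inferInstance⟩, key]
  exact congrArg _ (PrimeSpectrum.height_eq_orderHeight (f ⟨m, inferInstance⟩))

/-- Heights in the normalisation and dimensions of the components of a henselian ind-étale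
faithfully flat algebra. -/
theorem normRed_forall_le_iff (A S : Type u) [CommRing A] [IsNoetherianRing A] [IsLocalRing A]
    [CommRing S]
    [Algebra A S] [Module.FaithfullyFlat A S] [HenselianLocalRing S]
    (hmaxA : ((maximalIdeal S).comap (algebraMap A S)).IsMaximal) (hind : EtPBC.IsIndEtale A S)
    (d : WithBot ℕ∞) :
    (∀ m' : MaximalSpectrum (CAlg2.normRed A),
        d ≤ ringKrullDim (Localization.AtPrime m'.asIdeal)) ↔
      ∀ P ∈ minimalPrimes S, d ≤ ringKrullDim (S ⧸ P) := by
  classical
  have h : (minimalPrimes A).Finite := minimalPrimes.finite_of_isNoetherianRing A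
  have := h.to_subtype
  cases nonempty_fintype (minimalPrimes A)
  obtain ⟨e, -⟩ := Unram.BranchSum.exists_normRed_equiv A h
  let C := fun p : minimalPrimes A => CAlg2.normRed (A ⧸ p.1)
  let π : ∀ p : minimalPrimes A, CAlg2.normRed A →+* C p := fun p =>
    (Pi.evalRingHom C p).comp e.toRingHom
  let ε : minimalPrimes A → CAlg2.normRed A := fun p => e.symm (Pi.single p 1)
  have hπs : ∀ p, Function.Surjective (π p) := fun p x => ⟨e.symm (Pi.single p x), by
    show e (e.symm _) p = x
    rw [e.apply_symm_apply, Pi.single_eq_same]⟩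
  have hε : ∀ p, π p (ε p) = 1 := fun p => by
    show e (e.symm _) p = 1
    rw [e.apply_symm_apply, Pi.single_eq_same]
  have hk : ∀ p x, π p x = 0 → x * ε p = 0 := fun p x hx => e.injective (funext fun q => by
    rw [map_mul, map_zero, Pi.mul_apply, Pi.zero_apply]
    show e x q * e (e.symm _) q = 0
    rw [e.apply_symm_apply]
    by_cases hq : q = p
    · subst hq; rw [show e x q = 0 from hx, zero_mul]
    · rw [Pi.single_eq_of_ne hq, mul_zero])
  have hpieces : (∀ m' : MaximalSpectrum (CAlg2.normRed A),
        d ≤ ringKrullDim (Localization.AtPrime m'.asIdeal)) ↔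
      ∀ p, ∀ m : MaximalSpectrum (C p), d ≤ ringKrullDim (Localization.AtPrime m.asIdeal) := by
    constructor
    · intro hA p m
      rw [← ringKrullDim_atPrime_comap (π p) (hπs p) (ε p) (hε p) (hk p) m.asIdeal]
      exact hA ⟨_, Ideal.comap_isMaximal_of_surjective _ (hπs p) (K := m.asIdeal)⟩
    · intro hC m'
      obtain ⟨p, hp⟩ : ∃ p, ε p ∉ m'.asIdeal := by
        by_contra hall
        push_neg at hall
        refine m'.isMaximal.ne_top ((Ideal.eq_top_iff_one _).mpr ?_)
        have h1 : ∑ p, ε p = 1 := e.injective (by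
          rw [map_sum, map_one]
          simp only [ε, RingEquiv.apply_symm_apply]
          exact Finset.univ_sum_single (fun p : minimalPrimes A => (1 : C p)))
        rw [← h1]
        exact sum_mem fun p _ => hall p
      have hker : RingHom.ker (π p) ≤ m'.asIdeal := fun x hx =>
        ((m'.isMaximal.isPrime.mem_or_mem
          (show x * ε p ∈ m'.asIdeal by rw [hk p x hx]; exact m'.asIdeal.zero_mem)).resolve_right hp)
      have hmax : (m'.asIdeal.map (π p)).IsMaximal := by
        refine (Ideal.map_eq_top_or_isMaximal_of_surjective _ (hπs p) m'.isMaximal).resolve_left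
          fun ht => ?_
        have h := congrArg (Ideal.comap (π p)) ht
        rw [Ideal.comap_map_of_surjective _ (hπs p), ← RingHom.ker_eq_comap_bot,
          sup_eq_left.2 hker, Ideal.comap_top] at h
        exact m'.isMaximal.ne_top h
      have he : (m'.asIdeal.map (π p)).comap (π p) = m'.asIdeal := by
        rw [Ideal.comap_map_of_surjective _ (hπs p), ← RingHom.ker_eq_comap_bot, sup_eq_left.2 hker]
      have key : ∀ (I : Ideal (CAlg2.normRed A)) [I.IsPrime], I = m'.asIdeal →
          d ≤ ringKrullDim (Localization.AtPrime I) →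
          d ≤ ringKrullDim (Localization.AtPrime m'.asIdeal) := by
        rintro I _ rfl h; exact h
      refine key _ he ?_
      rw [ringKrullDim_atPrime_comap (π p) (hπs p) (ε p) (hε p) (hk p)]
      exact hC p ⟨_, hmax⟩
  rw [hpieces]
  have hone : ∀ p : minimalPrimes A,
      (∀ m : MaximalSpectrum (C p), d ≤ ringKrullDim (Localization.AtPrime m.asIdeal)) ↔
      ∀ P ∈ minimalPrimes S, P.comap (algebraMap A S) = p.1 → d ≤ ringKrullDim (S ⧸ P) := fun p => by
    have := p.2.1.1
    let := Unram.BranchHenselian.normAlg A p.1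
    obtain ⟨_, _, _, hker, -⟩ := Unram.BranchHenselian.normalization_props A p.1
    exact forall_le_iff A S (C p) hmaxA hind p.1 hker p.2 d
  exact ⟨fun hC P hP =>
      (hone ⟨_, Unram.BranchHenselian.comap_minimalPrime_mem A S hP⟩).mp (hC _) P hP rfl,
    fun hS p => (hone p).mpr fun P hP _ => hS P hP⟩

/-- A flat local map generating the maximal ideal preserves the dimensions of quotients. -/
theorem ringKrullDim_quotient_map {S E : Type u} [CommRing S] [IsLocalRing S] [IsNoetherianRing S]
    [CommRing E] [IsLocalRing E] [IsNoetherianRing E] [Algebra S E] [Module.Flat S E]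
    [IsLocalHom (algebraMap S E)]
    (hmax : (maximalIdeal S).map (algebraMap S E) = maximalIdeal E) (p : Ideal S) [p.IsPrime] :
    ringKrullDim (E ⧸ p.map (algebraMap S E)) = ringKrullDim (S ⧸ p) := by
  have hI : p.map (algebraMap S E) ≠ ⊤ := ne_top_of_le_ne_top (maximalIdeal.isMaximal E).ne_top
    (hmax ▸ Ideal.map_mono (le_maximalIdeal Ideal.IsPrime.ne_top'))
  have := Ideal.Quotient.nontrivial_iff.mpr hI
  have : IsLocalRing (E ⧸ p.map (algebraMap S E)) :=
    .of_surjective' (Ideal.Quotient.mk _) Ideal.Quotient.mk_surjective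
  have : IsLocalRing (S ⧸ p) := .of_surjective' (Ideal.Quotient.mk _) Ideal.Quotient.mk_surjective
  have : Module.Flat (S ⧸ p) (E ⧸ p.map (algebraMap S E)) :=
    Module.Flat.of_linearEquiv (Algebra.TensorProduct.quotIdealMapEquivQuotTensor E p).toLinearEquiv
  have h1 : (maximalIdeal S).map (Ideal.Quotient.mk p) = maximalIdeal (S ⧸ p) :=
    IsLocalRing.map_maximalIdeal_of_surjective _ Ideal.Quotient.mk_surjective
  have h2 : (maximalIdeal E).map (Ideal.Quotient.mk (p.map (algebraMap S E))) =
      maximalIdeal (E ⧸ p.map (algebraMap S E)) :=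
    IsLocalRing.map_maximalIdeal_of_surjective _ Ideal.Quotient.mk_surjective
  have hm : (maximalIdeal (S ⧸ p)).map (algebraMap (S ⧸ p) (E ⧸ p.map (algebraMap S E))) =
      maximalIdeal (E ⧸ p.map (algebraMap S E)) := by
    rw [← h1, ← h2, ← hmax, Ideal.map_map, Ideal.map_map]
    rfl
  have : IsLocalHom (algebraMap (S ⧸ p) (E ⧸ p.map (algebraMap S E))) :=
    ((IsLocalRing.local_hom_TFAE _).out 0 2 rfl rfl).mpr hm.le
  exact Regular.Descent.ringKrullDim_eq (hm := hm)

/-- Henselization and completion have components of the same dimensions, as far as `≥ 2` goes. -/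
theorem two_le_iff_completion (A S : Type u) [CommRing A] [IsNoetherianRing A] [IsLocalRing A]
    [CommRing S] [IsLocalRing S] [Algebra A S] [IsLocalHom (algebraMap A S)]
    [hS : Hensel.IsHenselization A S] :
    (∀ p ∈ minimalPrimes S, (2 : WithBot ℕ∞) ≤ ringKrullDim (S ⧸ p)) ↔
      ∀ q ∈ minimalPrimes (AdicCompletion (maximalIdeal A) A),
        (2 : WithBot ℕ∞) ≤ ringKrullDim (AdicCompletion (maximalIdeal A) A ⧸ q) := by
  let E := AdicCompletion (maximalIdeal A) A
  obtain ⟨ψ, hψ, -⟩ := hS.universal E (algebraMap A E) inferInstance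
  let := ψ.toAlgebra
  obtain ⟨_, _, hmax, -⟩ := Unram.CompletionBranch.henselization_props A S ψ hψ
  have := hS.henselian
  have : IsNoetherianRing S := Henselian.Permanence.isNoetherianRing A S
  have : IsLocalHom (algebraMap S E) := ((IsLocalRing.local_hom_TFAE _).out 0 2 rfl rfl).mpr hmax.le
  constructor
  · intro h q hq
    by_contra hc
    have hle : ringKrullDim (E ⧸ q) ≤ 1 := by
      revert hc
      generalize ringKrullDim (E ⧸ q) = x
      induction x with
      | bot => exact fun _ => bot_le
      | coe n =>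
        induction n using ENat.recTopCoe with
        | top => exact fun hc => absurd le_top hc
        | coe n =>
          intro hc
          have h1 : n ≤ 1 := by
            by_contra h
            refine hc ?_
            change (((2 : ℕ) : ℕ∞) : WithBot ℕ∞) ≤ ((n : ℕ∞) : WithBot ℕ∞)
            exact WithBot.coe_le_coe.mpr (Nat.cast_le.mpr (by omega))
          change ((n : ℕ∞) : WithBot ℕ∞) ≤ (((1 : ℕ) : ℕ∞) : WithBot ℕ∞)
          exact WithBot.coe_le_coe.mpr (Nat.cast_le.mpr h1)
    obtain ⟨q', hq', hrad⟩ := Unram.CompletionBranch.exists_radical_eq A S ψ hψ q hq hle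
    have := hq'.1.1
    refine hc ?_
    rw [← hrad, ringKrullDim_quotient, PrimeSpectrum.zeroLocus_radical, ← ringKrullDim_quotient]
    exact (h q' hq').trans (ringKrullDim_quotient_map hmax q').ge
  · intro h p hp
    have := hp.1.1
    obtain ⟨Q, hQ, hQp⟩ := Unram.CompletionBranch.exists_minimalPrime_comap_eq S E p hp
    rw [← ringKrullDim_quotient_map hmax p]
    exact (h Q hQ).trans (ringKrullDim_le_of_surjective
      (Ideal.Quotient.factor (Ideal.map_le_iff_le_comap.mpr hQp.ge))
      (Ideal.Quotient.factor_surjective _))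

end Groth.Agent.H24.C2Dim
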