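import Groth.Agent.H24.CompleteFinite
import Groth.Agent.Lib.Henselian.LocalRing
import Groth.Agent.Lib.Cohen.CompleteNagata
import Groth.Agent.Lib.Depth.Assoc
import Groth.Agent.Lib.Depth.Local
import Groth.Agent.Lib.Dim.Integral
import Groth.Agent.H80.PuncturedExt
import Mathlib.RingTheory.Flat.Localization
import Mathlib.RingTheory.TensorProduct.Finite

/-!
# Dimension of the components of a flat algebra over a complete local domain

If `C` is a complete Noetherian local domain of dimension at least two and `B` is flat local over
`C` then every irreducible component of `Spec B` has dimension at least two.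
-/

set_option autoImplicit false
set_option linter.style.haveILetI false

universe u

open IsLocalRing
open scoped TensorProduct

namespace Groth.Agent.H24.C2Flat

open Lib

/-- The quotient of a local ring of `B` by the extension of a prime has smaller dimension. -/
theorem ringKrullDim_localization_quotient_le {B L : Type u} [CommRing B] [CommRing L] [Algebra B L]
    (M : Submonoid B) [IsLocalization M L] (q : Ideal B) (qL : Ideal L)
    (h : qL.comap (algebraMap B L) = q) :
    ringKrullDim (L ⧸ qL) ≤ ringKrullDim (B ⧸ q) := by
  let φ : B ⧸ q →+* L ⧸ qL := Ideal.quotientMap qL (algebraMap B L) h.ge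
  have hinj : Function.Injective (PrimeSpectrum.comap φ) := by
    intro P Q hPQ
    apply PrimeSpectrum.ext
    apply Ideal.comap_injective_of_surjective _ Ideal.Quotient.mk_surjective
    have hP : ∀ T : Ideal (L ⧸ qL), (T.comap (Ideal.Quotient.mk qL)).comap (algebraMap B L) =
        (T.comap φ).comap (Ideal.Quotient.mk q) := fun T => by
      rw [Ideal.comap_comap, Ideal.comap_comap]
      rfl
    rw [← IsLocalization.map_under M L (P.asIdeal.comap (Ideal.Quotient.mk qL)),
      ← IsLocalization.map_under M L (Q.asIdeal.comap (Ideal.Quotient.mk qL))]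
    show Ideal.map _ (Ideal.comap (algebraMap B L) _) = Ideal.map _ (Ideal.comap (algebraMap B L) _)
    rw [hP, hP, show P.asIdeal.comap φ = Q.asIdeal.comap φ from congrArg PrimeSpectrum.asIdeal hPQ]
  exact Order.krullDim_le_of_strictMono (PrimeSpectrum.comap φ)
    (Monotone.strictMono_of_injective
      (fun P Q h => Ideal.comap_mono h : Monotone (PrimeSpectrum.comap φ)) hinj)

/-- A flat local algebra over a normal local domain of dimension at least two. -/
theorem two_le_of_normal {C L : Type u} [CommRing C] [IsDomain C] [IsNoetherianRing C]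
    [IsLocalRing C] [IsIntegrallyClosed C] (hdim : (2 : WithBot ℕ∞) ≤ ringKrullDim C)
    [CommRing L] [IsNoetherianRing L] [IsLocalRing L] [Algebra C L] [IsLocalHom (algebraMap C L)]
    [Module.Flat C L] {q : Ideal L} (hq : q ∈ minimalPrimes L) :
    (2 : WithBot ℕ∞) ≤ ringKrullDim (L ⧸ q) := by
  have hdepth : (2 : ℕ∞) ≤ LocCoh.depth L L := by
    refine (H80.PuncturedExt.two_le_depth hdim).trans ((Depth.Local.idealDepth_le_baseChange (B := L)
      (M := C) (I := maximalIdeal C)).trans ?_)
    rw [Depth.Basic.idealDepth_congr _ (TensorProduct.AlgebraTensorModule.rid C L L)]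
    exact Depth.Basic.idealDepth_mono (((local_hom_TFAE (algebraMap C L)).out 0 2).mp ‹IsLocalHom (algebraMap C L)›)
      (Depth.Basic.smul_top_ne_top (M := L) (Ideal.IsPrime.ne_top' (I := maximalIdeal L)))
  have hann : q ∈ (Module.annihilator L L).minimalPrimes := by
    rwa [Module.annihilator_eq_bot.mpr inferInstance]
  have hass : q ∈ associatedPrimes L L :=
    Module.associatedPrimes.minimalPrimes_annihilator_subset_associatedPrimes L L hann
  refine le_trans ?_ (Depth.Assoc.depth_le_ringKrullDim_quotient L hass)
  exact WithBot.coe_le_coe.mpr hdepth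

/-- A flat local algebra over a complete local domain of dimension at least two. -/
theorem two_le {C B : Type u} [CommRing C] [IsDomain C] [IsNoetherianRing C] [IsLocalRing C]
    [IsAdicComplete (maximalIdeal C) C] (hdim : (2 : WithBot ℕ∞) ≤ ringKrullDim C)
    [CommRing B] [IsNoetherianRing B] [IsLocalRing B] [Algebra C B] [IsLocalHom (algebraMap C B)]
    [Module.Flat C B] {q : Ideal B} (hq : q ∈ minimalPrimes B) :
    (2 : WithBot ℕ∞) ≤ ringKrullDim (B ⧸ q) := by
  classical
  let C' := integralClosure C (FractionRing C)
  haveI : Module.Finite C C' := Cohen.CompleteNagata.isN2 C (FractionRing C) inferInstance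
  haveI : IsNoetherianRing C' := IsNoetherianRing.of_finite C C'
  haveI : FaithfulSMul C C' := (faithfulSMul_iff_algebraMap_injective _ _).mpr fun x y h =>
    IsFractionRing.injective C (FractionRing C) (congrArg Subtype.val h)
  haveI : IsIntegrallyClosed C' := integralClosure.isIntegrallyClosedOfFiniteExtension (FractionRing C)
  haveI : IsLocalRing C' := by
    haveI : HenselianLocalRing C :=
      Henselian.LocalRing.henselianLocalRing_of_henselianRing (R := C)
    have hbij := Henselian.Finite.toPiLocalization_bijective (A := C) (B := C')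
    obtain ⟨M, hM⟩ := Ideal.exists_maximal C'
    refine IsLocalRing.of_unique_max_ideal ⟨M, hM, fun N hN => ?_⟩
    by_contra hne
    obtain ⟨x, hx⟩ := hbij.2 (Pi.single (⟨M, hM⟩ : MaximalSpectrum C') 1)
    have hidem : IsIdempotentElem x := hbij.1 (by rw [map_mul, hx, ← Pi.single_mul, one_mul])
    rcases IsIdempotentElem.iff_eq_zero_or_one.mp hidem with rfl | rfl
    · rw [map_zero] at hx
      exact zero_ne_one ((congrFun hx ⟨M, hM⟩).trans (Pi.single_eq_same _ _))
    · rw [map_one] at hx
      exact one_ne_zero ((congrFun hx ⟨N, hN⟩).trans (Pi.single_eq_of_ne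
        (fun h => hne (congrArg MaximalSpectrum.asIdeal h)) _))
  have hdim' : (2 : WithBot ℕ∞) ≤ ringKrullDim C' :=
    (Dim.Integral.ringKrullDim_eq_of_isIntegral (R := C) (A := C')).symm ▸ hdim
  -- the base change
  let B' := B ⊗[C] C'
  letI : Algebra C' B' := Algebra.TensorProduct.rightAlgebra
  haveI : IsNoetherianRing B' := IsNoetherianRing.of_finite B B'
  haveI : Module.Flat C' B' := Module.Flat.of_linearEquiv (R := C')
    (Algebra.TensorProduct.commRight C C' B).symm.toLinearEquiv
  have hinj : Function.Injective (algebraMap B B') := by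
    intro x y hxy
    have h : Function.Injective ((Algebra.linearMap C C').lTensor B) :=
      Module.Flat.lTensor_preserves_injective_linearMap _ (FaithfulSMul.algebraMap_injective C C')
    apply (TensorProduct.rid C B).symm.injective
    apply h
    simp only [TensorProduct.rid_symm_apply, LinearMap.lTensor_tmul, Algebra.linearMap_apply, map_one]
    exact hxy
  obtain ⟨q₁, hq₁, hq₁q⟩ :=
    Ideal.exists_comap_eq_of_mem_minimalPrimes_of_injective hinj q hq
  obtain ⟨q', hq', hle⟩ := Ideal.exists_minimalPrimes_le (show (⊥ : Ideal B') ≤ q₁ from bot_le)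
  haveI := hq'.1.1
  haveI := hq.1.1
  have hq'q : q'.comap (algebraMap B B') = q :=
    le_antisymm ((Ideal.comap_mono hle).trans hq₁q.le)
      (hq.2 ⟨inferInstance, bot_le⟩ ((Ideal.comap_mono hle).trans hq₁q.le))
  obtain ⟨n, hn, hq'n⟩ := Ideal.exists_le_maximal q' (Ideal.IsPrime.ne_top inferInstance)
  haveI := hn
  let L := Localization.AtPrime n
  haveI : IsNoetherianRing L := IsLocalization.isNoetherianRing n.primeCompl L inferInstance
  haveI : Module.Flat B' L := IsLocalization.flat L n.primeCompl
  haveI : Module.Flat C' L := Module.Flat.trans C' B' L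
  have hnC : n.comap (algebraMap C' B') = maximalIdeal C' := by
    refine IsLocalRing.eq_maximalIdeal
      (Ideal.isMaximal_of_isIntegral_of_isMaximal_comap (R := C) _ ?_)
    have h1 : n.comap (algebraMap B B') = maximalIdeal B :=
      IsLocalRing.eq_maximalIdeal (Ideal.isMaximal_comap_of_isIntegral_of_isMaximal n)
    rw [Ideal.comap_comap, show (algebraMap C' B').comp (algebraMap C C') =
      (algebraMap B B').comp (algebraMap C B) from RingHom.ext fun c => ?_, ← Ideal.comap_comap, h1,
      show (maximalIdeal B).comap (algebraMap C B) = maximalIdeal C from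
        (((local_hom_TFAE (algebraMap C B)).out 0 4).mp ‹IsLocalHom (algebraMap C B)› :)]
    · exact maximalIdeal.isMaximal C
    · show (1 : B) ⊗ₜ[C] algebraMap C C' c = algebraMap C B c ⊗ₜ[C] (1 : C')
      rw [Algebra.algebraMap_eq_smul_one, Algebra.algebraMap_eq_smul_one, TensorProduct.smul_tmul]
  haveI : IsLocalHom (algebraMap C' L) := ⟨fun c hc => by
    rw [IsScalarTower.algebraMap_apply C' B' L,
      IsLocalization.AtPrime.isUnit_to_map_iff L n] at hc
    by_contra hcu
    exact hc (hnC.ge hcu)⟩
  have hdisj : Disjoint (n.primeCompl : Set B') (q' : Set B') :=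
    Set.disjoint_left.mpr fun x hx hxq => hx (hq'n hxq)
  have hqL : q'.map (algebraMap B' L) ∈ minimalPrimes L := by
    refine ⟨⟨IsLocalization.isPrime_of_isPrime_disjoint n.primeCompl L q' inferInstance hdisj, bot_le⟩,
      fun P hP hPle => ?_⟩
    haveI := hP.1
    have h1 : P.comap (algebraMap B' L) ≤ q' :=
      (Ideal.comap_mono hPle).trans
        (IsLocalization.under_map_of_isPrime_disjoint n.primeCompl L inferInstance hdisj).le
    have h2 : q' ≤ P.comap (algebraMap B' L) := hq'.2 ⟨inferInstance, bot_le⟩ h1
    exact Ideal.map_le_iff_le_comap.mpr h2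
  refine le_trans (two_le_of_normal (L := L) hdim' (q := q'.map (algebraMap B' L)) hqL) ?_
  refine le_trans (ringKrullDim_localization_quotient_le n.primeCompl q' _
    (IsLocalization.under_map_of_isPrime_disjoint n.primeCompl L inferInstance hdisj)) ?_
  rw [Dim.Integral.ringKrullDim_quotient_eq_under (R := B) q']
  exact le_of_eq (congrArg (fun I : Ideal B => ringKrullDim (B ⧸ I)) hq'q)

end Groth.Agent.H24.C2Flat
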