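import Mathlib.RingTheory.Length
import Mathlib.RingTheory.FiniteLength
import Mathlib.RingTheory.SimpleModule.Basic
import Mathlib.Algebra.Module.LocalizedModule.Exact
import Mathlib.RingTheory.Localization.AtPrime.Basic
import Mathlib.RingTheory.Spectrum.Maximal.Basic
import Mathlib.RingTheory.Ideal.Quotient.Operations
import Mathlib.Algebra.BigOperators.Finprod

/-!
# Length over the base of a module of finite length over a semilocal algebra
-/

set_option autoImplicit false
set_option linter.style.haveILetI false

universe u

namespace Groth.Agent.H24.SemilocalLength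

variable {B : Type u} [CommRing B]

/-- The sum of the weighted local lengths. -/
noncomputable def total (w : MaximalSpectrum B → ℕ∞) (M : Type u) [AddCommGroup M] [Module B M] : ℕ∞ :=
  ∑ᶠ n : MaximalSpectrum B,
    w n * Module.length (Localization.AtPrime n.asIdeal) (LocalizedModule n.asIdeal.primeCompl M)

theorem length_localization_simple {M : Type u} [AddCommGroup M] [Module B M] {I : Ideal B} (hI : I.IsMaximal)
    (e : M ≃ₗ[B] B ⧸ I) (n : MaximalSpectrum B) :
    (n.asIdeal = I → Module.length (Localization.AtPrime n.asIdeal)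
      (LocalizedModule n.asIdeal.primeCompl M) = 1) ∧
    (n.asIdeal ≠ I → Module.length (Localization.AtPrime n.asIdeal)
      (LocalizedModule n.asIdeal.primeCompl M) = 0) := by
  have hann : ∀ s ∈ I, ∀ x : M, s • x = 0 := fun s hs x => by
    apply e.injective
    rw [map_smul, map_zero]
    obtain ⟨y, hy⟩ := Ideal.Quotient.mk_surjective (e x)
    rw [← hy, Algebra.smul_def, Ideal.Quotient.algebraMap_eq, Ideal.Quotient.eq_zero_iff_mem.2 hs, zero_mul]
  constructor
  · intro hn
    haveI : IsSimpleModule B M := isSimpleModule_iff_quot_maximal.2 ⟨I, hI, ⟨e⟩⟩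
    let L := LocalizedModule n.asIdeal.primeCompl M
    let f := LocalizedModule.mkLinearMap n.asIdeal.primeCompl M
    have hfi : Function.Injective f := by
      refine (injective_iff_map_eq_zero f).2 fun x hx => ?_
      obtain ⟨s, hs⟩ := (IsLocalizedModule.eq_zero_iff n.asIdeal.primeCompl f).1 hx
      by_contra hx0
      have htop : (Submodule.span B {x} : Submodule B M) = ⊤ :=
        (eq_bot_or_eq_top _).resolve_left (by simpa using hx0)
      have : ∀ y : M, (s : B) • y = 0 := fun y => by
        obtain ⟨c, rfl⟩ := Submodule.mem_span_singleton.1 (htop ▸ Submodule.mem_top : y ∈ Submodule.span B {x})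
        rw [smul_comm, show (s : B) • x = 0 from hs, smul_zero]
      have h1 := congrArg e (this (e.symm 1))
      rw [map_smul, e.apply_symm_apply, map_zero, Algebra.smul_def, mul_one,
        Ideal.Quotient.algebraMap_eq, Ideal.Quotient.eq_zero_iff_mem] at h1
      exact s.2 (hn ▸ h1)
    have hfs : Function.Surjective f := by
      intro y
      obtain ⟨⟨x, s⟩, hxs⟩ := IsLocalizedModule.surj n.asIdeal.primeCompl f y
      obtain ⟨t, i, hi, hts⟩ := hI.exists_inv (show (s : B) ∉ I from hn ▸ s.2)
      refine ⟨t • x, ?_⟩
      rw [map_smul, ← hxs, Submonoid.smul_def, smul_smul]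
      have h0 : i • y = 0 := by
        apply (IsLocalizedModule.smul_injective f s)
        show (s : B) • i • y = (s : B) • 0
        rw [smul_zero, smul_comm, show (s : B) • y = f x from hxs, ← map_smul, hann i hi x, map_zero]
      calc (t * (s : B)) • y = (t * (s : B) + i) • y := by rw [add_smul, h0, add_zero]
        _ = y := by rw [hts, one_smul]
    haveI : IsSimpleModule B L := IsSimpleModule.congr (LinearEquiv.ofBijective f ⟨hfi, hfs⟩).symm
    refine le_antisymm ?_ (ENat.one_le_iff_ne_zero.2 ?_)
    · have h1 := Submodule.length_le_length_restrictScalars B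
        (⊤ : Submodule (Localization.AtPrime n.asIdeal) L)
      rw [Submodule.restrictScalars_top, Submodule.topEquiv.length_eq, Submodule.topEquiv.length_eq,
        Module.length_eq_one B L] at h1
      exact h1
    · rw [ne_eq, Module.length_eq_zero_iff, not_subsingleton_iff_nontrivial]
      exact IsSimpleModule.nontrivial B L
  · intro hn
    have hnot : ¬ I ≤ n.asIdeal := fun h => hn (hI.eq_of_le n.isMaximal.ne_top h).symm
    obtain ⟨s, hs, hsn⟩ := SetLike.not_le_iff_exists.1 hnot
    rw [Module.length_eq_zero_iff, LocalizedModule.subsingleton_iff]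
    exact fun x => ⟨s, hsn, hann s hs x⟩

theorem total_simple [Finite (MaximalSpectrum B)] (w : MaximalSpectrum B → ℕ∞) {M : Type u}
    [AddCommGroup M] [Module B M] {I : Ideal B} (hI : I.IsMaximal) (e : M ≃ₗ[B] B ⧸ I) :
    total w M = w ⟨I, hI⟩ := by
  rw [total, finsum_eq_single _ ⟨I, hI⟩ fun n hn => by
    rw [(length_localization_simple hI e n).2 (fun h => hn (MaximalSpectrum.ext h)), mul_zero],
    (length_localization_simple hI e ⟨I, hI⟩).1 rfl, mul_one]

theorem total_add [Finite (MaximalSpectrum B)] (w : MaximalSpectrum B → ℕ∞) {M : Type u}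
    [AddCommGroup M] [Module B M] (N : Submodule B M) :
    total w M = total w N + total w (M ⧸ N) := by
  cases nonempty_fintype (MaximalSpectrum B)
  simp only [total, finsum_eq_sum_of_fintype, ← Finset.sum_add_distrib, ← mul_add]
  refine Finset.sum_congr rfl fun n _ => congrArg _ ?_
  exact Module.length_eq_add_of_exact (LocalizedModule.map n.asIdeal.primeCompl N.subtype)
    (LocalizedModule.map n.asIdeal.primeCompl N.mkQ)
    (LocalizedModule.map_injective _ _ Subtype.val_injective)
    (LocalizedModule.map_surjective _ _ (Submodule.mkQ_surjective N))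
    (LocalizedModule.map_exact _ _ _ (LinearMap.exact_subtype_mkQ N))

variable {A : Type u} [CommRing A] [Algebra A B]

theorem length_eq_total [IsLocalRing A] [Finite (MaximalSpectrum B)]
    (hover : ∀ n : MaximalSpectrum B, n.asIdeal.comap (algebraMap A B) = IsLocalRing.maximalIdeal A)
    (hfin : ∀ n : MaximalSpectrum B,
      Module.Finite (A ⧸ n.asIdeal.comap (algebraMap A B)) (B ⧸ n.asIdeal))
    (M : Type u) [AddCommGroup M] [Module B M] [Module A M] [IsScalarTower A B M]
    (hM : IsFiniteLength B M) :
    Module.length A M = total (fun n : MaximalSpectrum B =>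
      (Module.finrank (A ⧸ n.asIdeal.comap (algebraMap A B)) (B ⧸ n.asIdeal) : ℕ∞)) M := by
  revert ‹Module A M›
  induction hM with
  | @of_subsingleton M _ _ _ =>
    intro _ _
    rw [Module.length_eq_zero, total, finsum_eq_zero_of_forall_eq_zero fun n => ?_]
    haveI : Subsingleton (LocalizedModule n.asIdeal.primeCompl M) :=
      LocalizedModule.subsingleton_iff.2 fun m => ⟨1, n.asIdeal.primeCompl.one_mem, Subsingleton.elim _ _⟩
    rw [Module.length_eq_zero, mul_zero]
  | @of_simple_quotient M _ _ N _ _ ih =>
    intro _ _
    rw [total_add _ N, ← ih]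
    have hl := Module.length_eq_add_of_exact (N.subtype.restrictScalars A) (N.mkQ.restrictScalars A)
      Subtype.val_injective (Submodule.mkQ_surjective N) (LinearMap.exact_subtype_mkQ N)
    rw [hl]
    congr 1
    obtain ⟨I, hI, ⟨e⟩⟩ := isSimpleModule_iff_quot_maximal.1 (inferInstance : IsSimpleModule B (M ⧸ N))
    rw [total_simple _ hI e, (e.restrictScalars A).length_eq]
    let p := I.comap (algebraMap A B)
    haveI : p.IsMaximal := by rw [show p = IsLocalRing.maximalIdeal A from hover ⟨I, hI⟩]; infer_instance
    letI : Field (A ⧸ p) := Ideal.Quotient.field p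
    haveI : Module.Finite (A ⧸ p) (B ⧸ I) := hfin ⟨I, hI⟩
    haveI : IsScalarTower A (A ⧸ p) (B ⧸ I) := IsScalarTower.of_algebraMap_eq fun a => rfl
    rw [Module.length_eq_of_surjective (R := A ⧸ p) (S := A) (M := B ⧸ I) Ideal.Quotient.mk_surjective,
      Module.length_eq_finrank]

/-- The same with the weights written as lengths, with no hypothesis on the base. -/
theorem length_eq_total' [Finite (MaximalSpectrum B)]
    (M : Type u) [AddCommGroup M] [Module B M] [Module A M] [IsScalarTower A B M]
    (hM : IsFiniteLength B M) :
    Module.length A M = total (fun n : MaximalSpectrum B => Module.length A (B ⧸ n.asIdeal)) M := by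
  revert ‹Module A M›
  induction hM with
  | @of_subsingleton M _ _ _ =>
    intro _ _
    rw [Module.length_eq_zero, total, finsum_eq_zero_of_forall_eq_zero fun n => ?_]
    haveI : Subsingleton (LocalizedModule n.asIdeal.primeCompl M) :=
      LocalizedModule.subsingleton_iff.2 fun m => ⟨1, n.asIdeal.primeCompl.one_mem, Subsingleton.elim _ _⟩
    rw [(Module.length_eq_zero_iff (R := Localization.AtPrime n.asIdeal) (M := LocalizedModule n.asIdeal.primeCompl M)).2 this, mul_zero]
  | @of_simple_quotient M _ _ N _ _ ih =>
    intro _ _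
    rw [total_add _ N, ← ih]
    rw [Module.length_eq_add_of_exact (N.subtype.restrictScalars A) (N.mkQ.restrictScalars A)
      Subtype.val_injective (Submodule.mkQ_surjective N) (LinearMap.exact_subtype_mkQ N)]
    obtain ⟨I, hI, ⟨e⟩⟩ := isSimpleModule_iff_quot_maximal.1 (inferInstance : IsSimpleModule B (M ⧸ N))
    rw [total_simple _ hI e, (e.restrictScalars A).length_eq]

end Groth.Agent.H24.SemilocalLength
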