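import Groth.Agent.H24.RankLength
import Groth.Agent.H24.SemilocalLength
import Mathlib.RingTheory.Localization.BaseChange
import Mathlib.LinearAlgebra.TensorProduct.Quotient
import Mathlib.LinearAlgebra.TensorProduct.Pi
import Mathlib.RingTheory.Algebraic.Integral
import Mathlib.RingTheory.Localization.Module
import Mathlib.RingTheory.HopkinsLevitzki

/-!
# The degree formula for algebras over a one-dimensional local domain
-/

set_option autoImplicit false
set_option linter.style.haveILetI false

universe u

open Pointwise TensorProduct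

namespace Groth.Agent.H24.DegreeFormula

open RankLength

theorem length_add_eq {A : Type u} [CommRing A] {B : Type u} [AddCommGroup B] [Module A B] (x : A)
    (hx : ∀ b : B, x • b = 0 → b = 0) (N : Submodule A B) :
    Module.length A (B ⧸ N) + Module.length A (B ⧸ Ideal.span {x} • (⊤ : Submodule A B)) =
      Module.length A (N ⧸ Ideal.span {x} • (⊤ : Submodule A N)) + Module.length A (B ⧸ N) := by
  let m := LinearMap.lsmul A B x
  let xN := N.map m
  have hle : xN ≤ N := by
    rintro _ ⟨y, hy, rfl⟩
    exact N.smul_mem x hy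
  have hle2 : xN ≤ Ideal.span {x} • (⊤ : Submodule A B) := by
    rintro _ ⟨y, -, rfl⟩
    exact RankLength.smul_mem x y
  let f1 := N.mapQ xN m (fun y hy => ⟨y, hy, rfl⟩)
  let g1 := Submodule.factor hle2
  have e1 := Module.length_eq_add_of_exact f1 g1 (by
      refine (injective_iff_map_eq_zero f1).2 fun z hz => ?_
      obtain ⟨z, rfl⟩ := Submodule.Quotient.mk_surjective _ z
      obtain ⟨v, hv, hvz⟩ := (Submodule.Quotient.mk_eq_zero xN).1 hz
      refine (Submodule.Quotient.mk_eq_zero N).2 ?_
      have : v - z = 0 := hx _ (by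
        show x • (v - z) = 0
        rw [smul_sub, sub_eq_zero]; exact hvz)
      rwa [← sub_eq_zero.1 this]) (Submodule.factor_surjective hle2) (by
      intro y
      obtain ⟨y, rfl⟩ := Submodule.Quotient.mk_surjective _ y
      constructor
      · intro h
        obtain ⟨w, hw⟩ := RankLength.span_smul_top x ((Submodule.Quotient.mk_eq_zero _).1 h)
        exact ⟨Submodule.Quotient.mk w, congrArg Submodule.Quotient.mk hw⟩
      · rintro ⟨z, hz⟩
        obtain ⟨z, rfl⟩ := Submodule.Quotient.mk_surjective _ z
        rw [← hz]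
        exact (Submodule.Quotient.mk_eq_zero _).2 (RankLength.smul_mem x z))
  let f2 : (N ⧸ Ideal.span {x} • (⊤ : Submodule A N)) →ₗ[A] B ⧸ xN :=
    Submodule.mapQ _ _ N.subtype (fun y hy => by
      obtain ⟨w, rfl⟩ := RankLength.span_smul_top x hy
      exact ⟨w, w.2, rfl⟩)
  let g2 := Submodule.factor hle
  have e2 := Module.length_eq_add_of_exact f2 g2 (by
      refine (injective_iff_map_eq_zero f2).2 fun z hz => ?_
      obtain ⟨z, rfl⟩ := Submodule.Quotient.mk_surjective _ z
      obtain ⟨v, hv, hvz⟩ := (Submodule.Quotient.mk_eq_zero xN).1 hz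
      refine (Submodule.Quotient.mk_eq_zero _).2 ?_
      have : z = x • (⟨v, hv⟩ : N) := Subtype.ext hvz.symm
      rw [this]
      exact RankLength.smul_mem x _) (Submodule.factor_surjective hle) (by
      intro y
      obtain ⟨y, rfl⟩ := Submodule.Quotient.mk_surjective _ y
      constructor
      · intro h
        exact ⟨Submodule.Quotient.mk ⟨y, (Submodule.Quotient.mk_eq_zero N).1 h⟩, rfl⟩
      · rintro ⟨z, hz⟩
        obtain ⟨z, rfl⟩ := Submodule.Quotient.mk_surjective _ z
        rw [← hz]
        exact (Submodule.Quotient.mk_eq_zero N).2 z.2)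
  rw [← e1, e2]

theorem length_quotient_pi {A : Type u} [CommRing A] (x : A) (d : ℕ) :
    Module.length A ((Fin d → A) ⧸ Ideal.span {x} • (⊤ : Submodule A (Fin d → A))) =
      d * Module.length A (A ⧸ Ideal.span {x}) := by
  let e : ((A ⧸ Ideal.span {x}) ⊗[A] (Fin d → A)) ≃ₗ[A] Fin d → A ⧸ Ideal.span {x} :=
    TensorProduct.piScalarRight A A (A ⧸ Ideal.span {x}) (Fin d)
  rw [← ((TensorProduct.quotTensorEquivQuotSMul (Fin d → A) (Ideal.span {x}))).length_eq,
    e.length_eq, Module.length_pi, ENat.card_eq_coe_fintype_card, Fintype.card_fin]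

theorem length_localized_quotient {B : Type u} [CommRing B] (n : MaximalSpectrum B) (y : B) :
    Module.length (Localization.AtPrime n.asIdeal)
      (LocalizedModule n.asIdeal.primeCompl (B ⧸ Ideal.span {y})) =
    Module.length (Localization.AtPrime n.asIdeal) (Localization.AtPrime n.asIdeal ⧸
      Ideal.span ({algebraMap B (Localization.AtPrime n.asIdeal) y} : Set _)) := by
  let S := n.asIdeal.primeCompl
  let Ln := Localization.AtPrime n.asIdeal
  let e1 : LocalizedModule S (B ⧸ Ideal.span {y}) ≃ₗ[B] Ln ⊗[B] (B ⧸ Ideal.span {y}) :=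
    (LocalizedModule.equivTensorProduct S (B ⧸ Ideal.span {y})).restrictScalars B
  let e2 : Ln ⊗[B] (B ⧸ Ideal.span {y}) ≃ₗ[B] Ln ⧸ Ideal.span ({algebraMap B Ln y} : Set Ln) :=
    (TensorProduct.tensorQuotEquivQuotSMul Ln (Ideal.span {y})).trans
      ((Submodule.quotEquivOfEq _ ((Ideal.span ({algebraMap B Ln y} : Set Ln)).restrictScalars B) (by
        rw [Ideal.smul_top_eq_map, Ideal.map_span, Set.image_singleton])).trans
        (Submodule.Quotient.restrictScalarsEquiv B _))
  exact ((e1.trans e2).extendScalarsOfIsLocalization S Ln).length_eq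

variable {A B K L : Type u} [CommRing A] [IsDomain A] [CommRing B] [IsDomain B] [Algebra A B] [Field K]
  [Field L] [Algebra A K] [IsFractionRing A K] [Algebra B L] [IsFractionRing B L] [Algebra K L]
  [Algebra A L] [IsScalarTower A K L] [IsScalarTower A B L] [FiniteDimensional K L]

variable (K L)
include K L

theorem injective : Function.Injective (algebraMap A B) := by
  have h : Function.Injective (algebraMap A L) := by
    rw [IsScalarTower.algebraMap_eq A K L]
    exact (algebraMap K L).injective.comp (IsFractionRing.injective A K)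
  rw [IsScalarTower.algebraMap_eq A B L] at h
  rw [RingHom.coe_comp] at h
  exact h.of_comp

theorem exists_dvd {q : B} (hq : q ≠ 0) :
    ∃ a : A, a ≠ 0 ∧ q ∣ algebraMap A B a := by
  have h1 : IsAlgebraic A (algebraMap B L q) :=
    (IsFractionRing.isAlgebraic_iff A K L).2 (Algebra.IsAlgebraic.isAlgebraic _)
  have h2 : IsAlgebraic A q :=
    (isAlgebraic_algebraMap_iff (IsFractionRing.injective B L)).1 h1
  exact h2.exists_nonzero_dvd (mem_nonZeroDivisors_of_ne_zero hq)

theorem exists_smul_mem (l : L) : ∃ a : A, a ≠ 0 ∧ ∃ b : B, algebraMap B L b = a • l := by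
  obtain ⟨p, q, hq, rfl⟩ := IsFractionRing.div_surjective (A := B) l
  obtain ⟨a, ha, t, hat⟩ := exists_dvd (A := A) (K := K) (L := L) (nonZeroDivisors.ne_zero hq)
  refine ⟨a, ha, p * t, ?_⟩
  rw [Algebra.smul_def, IsScalarTower.algebraMap_apply A B L, hat, map_mul, map_mul]
  field_simp [(map_ne_zero_iff _ (IsFractionRing.injective B L)).2 (nonZeroDivisors.ne_zero hq)]

/-- The embedding in `Kᵈ`. -/
noncomputable def toPi : B →ₗ[A] Fin (Module.finrank K L) → K :=
  ((Module.finBasis K L).equivFun.toLinearMap.restrictScalars A).comp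
    (IsScalarTower.toAlgHom A B L).toLinearMap

theorem toPi_injective : Function.Injective (toPi K L : B →ₗ[A] Fin (Module.finrank K L) → K) :=
  fun _ _ h => IsFractionRing.injective B L ((Module.finBasis K L).equivFun.injective h)

theorem exists_lattice : ∃ v : Fin (Module.finrank K L) → B,
    LinearIndependent A v ∧ ∀ b : B, ∃ s : A, s ≠ 0 ∧ s • b ∈ Submodule.span A (Set.range v) := by
  classical
  choose a ha v hv using fun i => exists_smul_mem (A := A) (B := B) (K := K) (L := L) (Module.finBasis K L i)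
  refine ⟨v, ?_, fun b => ?_⟩
  · rw [Fintype.linearIndependent_iff]
    intro g hg i
    have h1 := congrArg (IsScalarTower.toAlgHom A B L).toLinearMap hg
    simp only [map_sum, map_smul, map_zero, AlgHom.toLinearMap_apply, IsScalarTower.toAlgHom_apply,
      hv, smul_smul] at h1
    simp only [← IsScalarTower.algebraMap_smul K (g _ * a _)] at h1
    have h2 := Fintype.linearIndependent_iff.1 (Module.finBasis K L).linearIndependent _ h1 i
    rw [map_eq_zero_iff _ (IsFractionRing.injective A K), mul_eq_zero] at h2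
    exact h2.resolve_right (ha i)
  · let c := fun i => (Module.finBasis K L).repr (algebraMap B L b) i / algebraMap A K (a i)
    obtain ⟨s, hs⟩ := IsLocalization.exist_integer_multiples_of_finset (nonZeroDivisors A)
      (Finset.univ.image c)
    choose t ht using fun i => hs (c i) (Finset.mem_image_of_mem _ (Finset.mem_univ i))
    refine ⟨s, nonZeroDivisors.ne_zero s.2, ?_⟩
    rw [Submodule.mem_span_range_iff_exists_fun]
    refine ⟨t, IsFractionRing.injective B L ?_⟩
    show (IsScalarTower.toAlgHom A B L).toLinearMap _ = (IsScalarTower.toAlgHom A B L).toLinearMap _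
    simp only [map_sum, map_smul, AlgHom.toLinearMap_apply, IsScalarTower.toAlgHom_apply, hv]
    conv_rhs => rw [← (Module.finBasis K L).sum_repr (algebraMap B L b), Finset.smul_sum]
    refine Finset.sum_congr rfl fun i _ => ?_
    rw [smul_smul, ← IsScalarTower.algebraMap_smul K, ← IsScalarTower.algebraMap_smul K (s : A), smul_smul,
      map_mul, ht i]
    congr 1
    rw [Algebra.smul_def, mul_assoc]
    simp only [c]
    rw [div_mul_cancel₀ _ ((map_ne_zero_iff _ (IsFractionRing.injective A K)).2 (ha i))]

theorem length_le [IsNoetherianRing A] [Ring.KrullDimLE 1 A] (N : Submodule A B) {x : A} (hx : x ≠ 0) :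
    Module.length A (N ⧸ Ideal.span {x} • (⊤ : Submodule A N)) ≤
      Module.finrank K L * Ring.ord A x := by
  let g := (toPi K L : B →ₗ[A] Fin (Module.finrank K L) → K)
  let e : N ≃ₗ[A] N.map g := Submodule.equivMapOfInjective g (toPi_injective K L) N
  rw [(Submodule.Quotient.equiv _ (Ideal.span {x} • ⊤) e
    (by rw [Submodule.map_smul'', Submodule.map_top, e.range])).length_eq]
  exact RankLength.length_le _ _ hx

theorem length_top_le [IsNoetherianRing A] [Ring.KrullDimLE 1 A] {x : A} (hx : x ≠ 0) :
    Module.length A (B ⧸ Ideal.span {x} • (⊤ : Submodule A B)) ≤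
      Module.finrank K L * Ring.ord A x := by
  refine le_trans (le_of_eq ?_) (length_le K L (⊤ : Submodule A B) hx)
  exact (Submodule.Quotient.equiv _ _ Submodule.topEquiv.symm
    (by rw [Submodule.map_smul'', Submodule.map_top, LinearEquiv.range])).length_eq

theorem top_ne [IsNoetherianRing A] [Ring.KrullDimLE 1 A] {x : A} (hx : x ≠ 0) :
    Module.length A (B ⧸ Ideal.span {x} • (⊤ : Submodule A B)) ≠ ⊤ :=
  ne_top_of_le_ne_top (WithTop.mul_ne_top (ENat.coe_ne_top _)
    (Ring.ord_ne_top (mem_nonZeroDivisors_of_ne_zero hx))) (length_top_le K L hx)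

theorem length_top_eq [IsNoetherianRing A] [Ring.KrullDimLE 1 A] [Module.Finite A B] {x : A}
    (hx : x ≠ 0) :
    Module.length A (B ⧸ Ideal.span {x} • (⊤ : Submodule A B)) =
      Module.finrank K L * Ring.ord A x := by
  classical
  obtain ⟨v, hli, hfull⟩ := exists_lattice (A := A) (B := B) K L
  obtain ⟨t, ht⟩ := (Module.Finite.fg_top : (⊤ : Submodule A B).FG)
  choose s hs hsmem using hfull
  let σ := ∏ b ∈ t, s b
  have hσ : σ ≠ 0 := Finset.prod_ne_zero_iff.2 fun b _ => hs b
  let N := Submodule.span A (Set.range v)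
  have hall : Ideal.span {σ} • (⊤ : Submodule A B) ≤ N := by
    rw [← ht, Submodule.span_smul_span, Submodule.span_le]
    intro z hz
    obtain ⟨σ', hσ', b, hb, rfl⟩ := Set.mem_smul.1 hz
    rw [Set.mem_singleton_iff.1 hσ']
    show σ • b ∈ N
    rw [show σ = (∏ c ∈ t.erase b, s c) * s b from (Finset.prod_erase_mul _ _ hb).symm, mul_smul]
    exact N.smul_mem _ (hsmem b)
  have hfin : Module.length A (B ⧸ N) ≠ ⊤ :=
    ne_top_of_le_ne_top (top_ne K L hσ)
      (Module.length_le_of_surjective (Submodule.factor hall) (Submodule.factor_surjective hall))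
  have h := length_add_eq x (fun b hb => by
    rw [Algebra.smul_def, mul_eq_zero] at hb
    exact hb.resolve_left ((map_ne_zero_iff _ (injective (K := K) (L := L))).2 hx)) N
  rw [add_comm] at h
  refine ((ENat.add_left_injective_of_ne_top hfin) h).trans ?_
  let b0 : Module.Basis (Fin (Module.finrank K L)) A N := Module.Basis.span hli
  rw [(Submodule.Quotient.equiv (Ideal.span {x} • (⊤ : Submodule A N)) (Ideal.span {x} • ⊤) b0.equivFun
    (by rw [Submodule.map_smul'', Submodule.map_top, LinearEquiv.range])).length_eq, length_quotient_pi]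
  rfl

theorem finite_of_length_eq [IsNoetherianRing A] [IsLocalRing A] [Ring.KrullDimLE 1 A] {x : A}
    (hx : x ≠ 0) (hxm : x ∈ IsLocalRing.maximalIdeal A)
    (heq : Module.length A (B ⧸ Ideal.span {x} • (⊤ : Submodule A B)) =
      Module.finrank K L * Ring.ord A x) : Module.Finite A B := by
  classical
  obtain ⟨v, -, hfull⟩ := exists_lattice (A := A) (B := B) K L
  let Q := B ⧸ Ideal.span {x} • (⊤ : Submodule A B)
  have htop := top_ne (A := A) (B := B) K L hx
  obtain ⟨hN, -⟩ := isFiniteLength_iff_isNoetherian_isArtinian.1 (Module.length_ne_top_iff.1 htop)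
  obtain ⟨t, ht⟩ := hN.noetherian (⊤ : Submodule A Q)
  choose lift hlift using fun q : Q => Submodule.Quotient.mk_surjective _ q
  let N := Submodule.span A (Set.range v ∪ lift '' (t : Set Q))
  have hNfg : N.FG := Submodule.fg_span ((Set.finite_range v).union (t.finite_toSet.image _))
  let f := RankLength.quotMap x N.subtype
  have hf : Function.Surjective f := by
    rw [← LinearMap.range_eq_top, eq_top_iff, ← ht, Submodule.span_le]
    intro q hq
    exact ⟨Submodule.Quotient.mk ⟨lift q, Submodule.subset_span (Or.inr ⟨q, hq, rfl⟩)⟩, hlift q⟩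
  have hinj : Function.Injective f := by
    have h1 := Module.length_eq_add_of_exact (LinearMap.ker f).subtype f Subtype.val_injective hf
      (LinearMap.exact_subtype_ker_map f)
    have h2 := length_le (A := A) (B := B) K L N hx
    rw [h1, heq] at h2
    have h0 : Module.length A (LinearMap.ker f) = 0 := by
      have hne : (Module.finrank K L : ℕ∞) * Ring.ord A x ≠ ⊤ := heq ▸ htop
      obtain ⟨n, hn⟩ := ENat.ne_top_iff_exists.1 hne
      rw [← hn] at h2
      have h3 : Module.length A (LinearMap.ker f) + (n : ℕ∞) ≤ 0 + (n : ℕ∞) := by rwa [zero_add]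
      exact le_antisymm ((ENat.add_le_add_iff_right (ENat.coe_ne_top n)).1 h3) bot_le
    rw [← LinearMap.ker_eq_bot, eq_bot_iff]
    haveI := Module.length_eq_zero_iff.1 h0
    intro z hz
    exact (Submodule.mem_bot A).2 (congrArg Subtype.val (Subsingleton.elim (⟨z, hz⟩ : LinearMap.ker f) 0))
  have hstep : ∀ b : B, x • b ∈ N → b ∈ N := by
    intro b hb
    have h0 : f (Submodule.Quotient.mk ⟨x • b, hb⟩) = 0 :=
      (Submodule.Quotient.mk_eq_zero _).2 (RankLength.smul_mem x b)
    obtain ⟨w, hw⟩ := RankLength.span_smul_top x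
      ((Submodule.Quotient.mk_eq_zero _).1 (hinj (h0.trans (map_zero f).symm)))
    have h1 : x • ((w : B) - b) = 0 := by
      rw [smul_sub, sub_eq_zero]; exact congrArg Subtype.val hw
    rw [Algebra.smul_def, mul_eq_zero] at h1
    rw [← sub_eq_zero.1 (h1.resolve_left ((map_ne_zero_iff _ (injective (K := K) (L := L))).2 hx))]
    exact w.2
  have hstep' : ∀ (n : ℕ) (b : B), x ^ n • b ∈ N → b ∈ N := by
    intro n
    induction n with
    | zero => intro b hb; simpa using hb
    | succ n ih => intro b hb; exact ih b (hstep _ (by rwa [← mul_smul, ← pow_succ']))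
  suffices N = ⊤ by exact ⟨this ▸ hNfg⟩
  refine eq_top_iff.2 fun b _ => ?_
  obtain ⟨s, hs, hsb⟩ := hfull b
  have hpow : x ∈ (Ideal.span {s}).radical := by
    rw [Ideal.radical_eq_sInf, Submodule.mem_sInf]
    rintro (P : Ideal A) ⟨hsP, hP⟩
    have hP0 : P ≠ ⊥ := fun h => hs (by
      have h1 := hsP (Ideal.mem_span_singleton_self s)
      rw [h] at h1; exact h1)
    rw [IsLocalRing.eq_maximalIdeal (Ring.krullDimLE_one_iff_of_noZeroDivisors.1 ‹_› P hP0 hP)]
    exact hxm
  obtain ⟨n, hn⟩ := hpow
  obtain ⟨c, hc⟩ := Ideal.mem_span_singleton'.1 hn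
  refine hstep' n b ?_
  rw [← hc, mul_smul]
  exact N.smul_mem _ (Submodule.span_mono Set.subset_union_left hsb)

theorem finite_maximalSpectrum [IsNoetherianRing A] [IsLocalRing A] [Ring.KrullDimLE 1 A] {x : A}
    (hx : x ≠ 0) (hxm : x ∈ IsLocalRing.maximalIdeal A) :
    IsArtinianRing (B ⧸ Ideal.span {algebraMap A B x}) ∧ IsFiniteLength B (B ⧸ Ideal.span {algebraMap A B x}) ∧
      Finite (MaximalSpectrum B) ∧
      Module.length A (B ⧸ Ideal.span {x} • (⊤ : Submodule A B)) =
        Module.length A (B ⧸ Ideal.span {algebraMap A B x}) := by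
  classical
  let J : Ideal B := Ideal.span {algebraMap A B x}
  let e : (B ⧸ Ideal.span ({x} : Set A) • (⊤ : Submodule A B)) ≃ₗ[A] B ⧸ J :=
    (Submodule.quotEquivOfEq _ (J.restrictScalars A) (by
      rw [Ideal.smul_top_eq_map, Ideal.map_span, Set.image_singleton])).trans
      (Submodule.Quotient.restrictScalarsEquiv A J)
  have hfl : IsFiniteLength A (B ⧸ J) :=
    Module.length_ne_top_iff.1 (e.length_eq ▸ top_ne K L hx)
  obtain ⟨hN, hA⟩ := isFiniteLength_iff_isNoetherian_isArtinian.1 hfl
  haveI hart : IsArtinianRing (B ⧸ J) := isArtinian_of_tower A hA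
  refine ⟨hart, isFiniteLength_iff_isNoetherian_isArtinian.2 ⟨isNoetherian_of_tower A hN, isArtinian_of_tower A hA⟩,
    ?_, e.length_eq⟩
  have key : ∀ m : MaximalSpectrum B, m.asIdeal = ⊥ ∨ J ≤ m.asIdeal := by
    intro m
    haveI := m.isMaximal.isPrime
    refine or_iff_not_imp_left.2 fun hm => ?_
    obtain ⟨q, hq, hq0⟩ := (Submodule.ne_bot_iff _).1 hm
    obtain ⟨a, ha, hdvd⟩ := exists_dvd (A := A) (K := K) (L := L) hq0
    have hP0 : m.asIdeal.comap (algebraMap A B) ≠ ⊥ := fun h => ha (by
      have h1 : a ∈ m.asIdeal.comap (algebraMap A B) := Ideal.mem_comap.2 (m.asIdeal.mem_of_dvd hdvd hq)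
      rw [h] at h1; exact h1)
    have h2 := IsLocalRing.eq_maximalIdeal
      (Ring.krullDimLE_one_iff_of_noZeroDivisors.1 ‹_› _ hP0 inferInstance)
    exact (Ideal.span_singleton_le_iff_mem _).2
      (show x ∈ m.asIdeal.comap (algebraMap A B) by rw [h2]; exact hxm)
  have hfin : {I : Ideal B | I.IsMaximal}.Finite := by
    refine ((Set.finite_range fun m : MaximalSpectrum (B ⧸ J) => m.asIdeal.comap (Ideal.Quotient.mk J)).union
      (Set.finite_singleton ⊥)).subset fun I hI => ?_
    rcases key ⟨I, hI⟩ with h | h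
    · exact Or.inr h
    · haveI : I.IsMaximal := hI
      refine Or.inl ⟨⟨I.map (Ideal.Quotient.mk J), Ideal.IsMaximal.map_of_surjective_of_ker_le
        Ideal.Quotient.mk_surjective (by rw [Ideal.mk_ker]; exact h)⟩, ?_⟩
      show Ideal.comap _ (Ideal.map _ I) = I
      rw [Ideal.comap_map_quotientMk, sup_eq_right.2 h]
  haveI := hfin.to_subtype
  exact Finite.of_injective (fun m : MaximalSpectrum B => (⟨m.asIdeal, m.isMaximal⟩ : {I : Ideal B | I.IsMaximal}))
    fun m m' h => MaximalSpectrum.ext (congrArg Subtype.val h)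

end Groth.Agent.H24.DegreeFormula
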