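import Groth.Agent.Lib.LocalFlat.SmulTop
import Groth.Agent.Lib.LocalFlat.Criterion
import Mathlib.RingTheory.LocalRing.ResidueField.Ideal
import Mathlib.RingTheory.Flat.Stability
import Mathlib.Algebra.Module.Torsion.Basic
import Mathlib.LinearAlgebra.Basis.VectorSpace

/-!
# Descent of flatness along maps inducing the adic topology

Over a local ring with nilpotent maximal ideal flatness descends along every injective ring map;
with the local criterion this gives descent along `A → A'` whenever the topology is induced.
-/

set_option autoImplicit false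
set_option linter.style.haveILetI false

universe u v w

open IsLocalRing
open scoped TensorProduct

namespace Groth.Agent.H24.FlatDescent

open Lib.LocalFlat

/-- Over a local ring with nilpotent maximal ideal flatness descends along injective maps. -/
theorem flat_of_injective {R : Type u} [CommRing R] [IsLocalRing R]
    (hnil : IsNilpotent (maximalIdeal R)) {R' : Type v} [CommRing R'] [Algebra R R']
    (hinj : Function.Injective (algebraMap R R')) {M : Type w} [AddCommGroup M] [Module R M]
    [Module.Flat R' (R' ⊗[R] M)] : Module.Flat R M := by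
  classical
  let N := M ⧸ (maximalIdeal R • ⊤ : Submodule R M)
  haveI : Module.Free (R ⧸ maximalIdeal R) N := by
    letI : Field (R ⧸ maximalIdeal R) := Ideal.Quotient.field _
    exact Module.Free.of_divisionRing _ _
  let b := Module.Free.chooseBasis (R ⧸ maximalIdeal R) N
  let ι := Module.Free.ChooseBasisIndex (R ⧸ maximalIdeal R) N
  choose g hg using fun i : ι => Submodule.mkQ_surjective _ (b i)
  let u : (ι →₀ R) →ₗ[R] M := Finsupp.linearCombination R g
  let w : M →ₗ[R] ι →₀ (R ⧸ maximalIdeal R) :=
    (b.repr.toLinearMap.restrictScalars R).comp (Submodule.mkQ _)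
  have hwu : ∀ (x : ι →₀ R) (i : ι), w (u x) i = Ideal.Quotient.mk _ (x i) := by
    intro x
    induction x using Finsupp.induction_linear with
    | zero => simp
    | add x y hx hy => intro i; simp [hx, hy]
    | single j a =>
      intro i
      simp only [u, w, Finsupp.linearCombination_single, LinearMap.comp_apply, map_smul,
        LinearMap.restrictScalars_apply, hg, LinearEquiv.coe_coe, Module.Basis.repr_self,
        Finsupp.smul_apply, Finsupp.single_apply]
      split_ifs with h <;> simp [Algebra.smul_def]
  have hker : LinearMap.ker (w.comp u) ≤ maximalIdeal R • (⊤ : Submodule R (ι →₀ R)) := by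
    intro x hx
    rw [← Finsupp.sum_single x]
    refine sum_mem fun i _ => ?_
    have hi : x i ∈ maximalIdeal R := Ideal.Quotient.eq_zero_iff_mem.mp (by
      rw [← hwu]; exact DFunLike.congr_fun (LinearMap.mem_ker.mp hx) i)
    rw [← mul_one (x i), ← smul_eq_mul, ← Finsupp.smul_single]
    exact Submodule.smul_mem_smul hi Submodule.mem_top
  have hwusurj : Function.Surjective (w.comp u) := by
    intro y
    let s : R ⧸ maximalIdeal R → R := fun q =>
      if q = 0 then 0 else Function.surjInv Ideal.Quotient.mk_surjective q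
    refine ⟨Finsupp.mapRange s (if_pos rfl) y, Finsupp.ext fun i => ?_⟩
    rw [LinearMap.comp_apply, hwu, Finsupp.mapRange_apply]
    simp only [s]
    split_ifs with h
    · rw [map_zero, h]
    · exact Function.surjInv_eq _ _
  have hu : Function.Surjective u := by
    refine SmulTop.surjective_of_nilpotent hnil u fun y => ?_
    obtain ⟨x, hx⟩ := hwusurj (w y)
    refine ⟨x, ?_⟩
    rw [← Submodule.Quotient.eq]
    have h := hx.symm
    simp only [w, LinearMap.comp_apply, LinearMap.restrictScalars_apply, LinearEquiv.coe_coe] at h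
    exact b.repr.injective h
  -- base change of `u` is injective
  have hu' : Function.Injective (u.baseChange R') := by
    refine SmulTop.injective_of_nilpotent (I := (maximalIdeal R).map (algebraMap R R')) ?_ _
      (LinearMap.lTensor_surjective R' hu) fun z hz => ?_
    · obtain ⟨k, hk⟩ := hnil
      exact ⟨k, by rw [← Ideal.map_pow, hk, Ideal.zero_eq_bot, Ideal.map_bot]; rfl⟩
    · have h0 : (w.comp u).lTensor R' z = 0 := by
        rw [LinearMap.lTensor_comp, LinearMap.comp_apply]
        exact (congrArg (w.lTensor R') hz).trans (map_zero _)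
      have hex : Function.Exact (LinearMap.ker (w.comp u)).subtype (w.comp u) :=
        LinearMap.exact_subtype_ker_map (w.comp u)
      obtain ⟨y, rfl⟩ := ((lTensor_exact (R := R) (M := ↥(LinearMap.ker (w.comp u))) (N := ι →₀ R)
        (P := ι →₀ (R ⧸ maximalIdeal R)) R' hex hwusurj) z).1 h0
      clear hz h0
      induction y using TensorProduct.induction_on with
      | zero => simp
      | add a c ha hc => rw [map_add]; exact add_mem ha hc
      | tmul r x =>
        rw [LinearMap.lTensor_tmul]
        refine Submodule.smul_induction_on (p := fun v => r ⊗ₜ[R] v ∈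
          (maximalIdeal R).map (algebraMap R R') • (⊤ : Submodule R' (R' ⊗[R] (ι →₀ R))))
          (hker x.2) (fun a ha v _ => ?_) fun a c ha hc => ?_
        · rw [TensorProduct.tmul_smul, ← algebraMap_smul R' a]
          exact Submodule.smul_mem_smul (Ideal.mem_map_of_mem _ ha) Submodule.mem_top
        · rw [TensorProduct.tmul_add]; exact add_mem ha hc
  have hinjF : Function.Injective (fun x : ι →₀ R => (1 : R') ⊗ₜ[R] x) := by
    intro x y hxy
    refine Finsupp.ext fun i => hinj ?_
    have h := congrArg (LinearMap.lTensor R' (Finsupp.lapply (R := R) (M := R) i)) hxy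
    simp only [LinearMap.lTensor_tmul, Finsupp.lapply_apply] at h
    have h2 := congrArg (TensorProduct.rid R R') h
    simpa [Algebra.smul_def] using h2
  have huinj : Function.Injective u := fun x y hxy => hinjF (hu' (by
    simp only [LinearMap.baseChange_tmul, hxy]))
  exact Module.Flat.of_linearEquiv (LinearEquiv.ofBijective u ⟨huinj, hu⟩).symm

/-- Flatness is stable under further base change. -/
theorem flat_baseChange (A : Type u) (B C : Type v) [CommRing A] [CommRing B] [CommRing C]
    [Algebra A B] [Algebra A C] [Algebra B C] [IsScalarTower A B C] (M : Type w) [AddCommGroup M]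
    [Module A M] [Module.Flat B (B ⊗[A] M)] : Module.Flat C (C ⊗[A] M) :=
  Module.Flat.of_linearEquiv
    (TensorProduct.AlgebraTensorModule.cancelBaseChange A B C C M).symm

variable {A B : Type u} [CommRing A] [IsNoetherianRing A] [IsLocalRing A] [CommRing B]
  [IsNoetherianRing B] [IsLocalRing B] [Algebra A B] [IsLocalHom (algebraMap A B)]

/-- Flatness descends along `A → A'` if the topology of `A` is induced by powers of an ideal. -/
theorem flat_of_induced {A' : Type u} [CommRing A'] [Algebra A A'] (r : Ideal A')
    (hrad : (maximalIdeal A).map (algebraMap A A') ≤ r)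
    (htop : ∀ n : ℕ, ∃ N : ℕ, (r ^ N).comap (algebraMap A A') ≤ maximalIdeal A ^ n)
    [Module.Flat A' (A' ⊗[A] B)] : Module.Flat A B := by
  refine Criterion.flat_of_flat_quotient_pow B (maximalIdeal A)
    (Criterion.map_le_jacobson_bot_of_isLocalHom (maximalIdeal.isMaximal A).ne_top) fun n => ?_
  obtain ⟨N, hN⟩ := htop (n + 1)
  let J := (r ^ N).comap (algebraMap A A')
  have hJ : J ≤ maximalIdeal A := hN.trans (Ideal.pow_le_self (Nat.succ_ne_zero n))
  letI : Algebra (A ⧸ J) (A' ⧸ r ^ N) :=
    (Ideal.quotientMap (r ^ N) (algebraMap A A') le_rfl).toAlgebra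
  haveI : IsScalarTower A (A ⧸ J) (A' ⧸ r ^ N) := IsScalarTower.of_algebraMap_eq fun a => rfl
  haveI : Nontrivial (A ⧸ J) := Ideal.Quotient.nontrivial_iff.mpr
    fun h => (maximalIdeal.isMaximal A).ne_top (eq_top_iff.mpr (h ▸ hJ))
  haveI : IsLocalRing (A ⧸ J) :=
    IsLocalRing.of_surjective' (Ideal.Quotient.mk J) Ideal.Quotient.mk_surjective
  haveI : Module.Flat (A' ⧸ r ^ N) ((A' ⧸ r ^ N) ⊗[A] B) := flat_baseChange A A' _ B
  haveI : Module.Flat (A' ⧸ r ^ N) ((A' ⧸ r ^ N) ⊗[A ⧸ J] ((A ⧸ J) ⊗[A] B)) :=
    Module.Flat.of_linearEquiv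
      (TensorProduct.AlgebraTensorModule.cancelBaseChange A (A ⧸ J) (A' ⧸ r ^ N) (A' ⧸ r ^ N) B)
  haveI : Module.Flat (A ⧸ J) ((A ⧸ J) ⊗[A] B) := by
    refine flat_of_injective ⟨N, ?_⟩ (R' := A' ⧸ r ^ N) Ideal.quotientMap_injective
    rw [Ideal.zero_eq_bot, ← IsLocalRing.map_maximalIdeal_of_surjective (Ideal.Quotient.mk J)
      Ideal.Quotient.mk_surjective, ← Ideal.map_pow, Ideal.map_eq_bot_iff_le_ker, Ideal.mk_ker,
      ← Ideal.map_le_iff_le_comap, Ideal.map_pow]
    exact Ideal.pow_right_mono hrad N
  have hle : J ≤ maximalIdeal A ^ n := hN.trans (Ideal.pow_le_pow_right (Nat.le_succ n))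
  letI : Algebra (A ⧸ J) (A ⧸ maximalIdeal A ^ n) := (Ideal.Quotient.factor hle).toAlgebra
  haveI : IsScalarTower A (A ⧸ J) (A ⧸ maximalIdeal A ^ n) :=
    IsScalarTower.of_algebraMap_eq fun a => rfl
  exact flat_baseChange A (A ⧸ J) _ B

end Groth.Agent.H24.FlatDescent
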