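import Groth.Agent.Lib.CohDelta.KBC.Powers
import Groth.Prelude.Def_Formal
import Mathlib.FieldTheory.IsSepClosed
import Mathlib.FieldTheory.Galois.Infinite
import Mathlib.RingTheory.Artinian.Ring

/-!
# Galois invariant summands of indecomposable modules
-/

set_option autoImplicit false
set_option linter.style.haveILetI false
universe u

open CategoryTheory CategoryTheory.Limits AlgebraicGeometry

noncomputable section

namespace Groth.Agent.H24.GalIso

open W4c1astiltbs12 Groth.Agent.Lib Groth.Agent.Lib.CohDelta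

variable {k : Type u} [Field k] {X : Scheme.{u}} (p : X ⟶ Spec (CommRingCat.of k))
  (K : Type u) [Field K] [Algebra k K] (σ : K ≃ₐ[k] K)

attribute [local instance] KBC.overK

theorem pullback_smulΓ {X Y : Scheme.{u}} (f : X ⟶ Y) (N : Y.Modules) (r : Coh.Γtop Y) :
    (Scheme.Modules.pullback f).map (Formal.smulModΓ N r) =
      Formal.smulModΓ ((Scheme.Modules.pullback f).obj N) (f.appTop r) := by
  apply ((Scheme.Modules.pullbackPushforwardAdjunction f).homEquiv _ _).injective
  rw [Adjunction.homEquiv_unit, Adjunction.homEquiv_unit]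
  refine ((Scheme.Modules.pullbackPushforwardAdjunction f).unit.naturality _).symm.trans ?_
  ext U s
  let η := (Scheme.Modules.pullbackPushforwardAdjunction f).unit.app N
  show η.app U ((Formal.smulModΓ N r).app U s) =
    (Formal.smulModΓ ((Scheme.Modules.pullback f).obj N) (f.appTop r)).app (f ⁻¹ᵁ U) (η.app U s)
  rw [KLin.smulModΓ_app_apply]
  erw [KLin.smulModΓ_app_apply]
  rw [Scheme.Modules.Hom.app_smul]
  let P := (Scheme.Modules.pullback f).obj N
  let x : Γ(P, f ⁻¹ᵁ U) := η.app U s
  show (f.app U (Y.presheaf.map (homOfLE (le_top (a := U))).op r)) • x = _ • x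
  exact congrArg (· • x) (ConcreteCategory.congr_hom (f.naturality (homOfLE (le_top (a := U))).op) r)

/-- Direct image along an isomorphism is an equivalence. -/
theorem isEquivalence_pushforward {Y S : Scheme.{u}} (e : Y ⟶ S) [IsIso e] :
    (Scheme.Modules.pushforward e).IsEquivalence :=
  (CategoryTheory.Equivalence.mk (Scheme.Modules.pushforward e) (Scheme.Modules.pushforward (inv e))
    ((Scheme.Modules.pushforwardId Y).symm ≪≫ Scheme.Modules.pushforwardCongr (IsIso.hom_inv_id e).symm ≪≫
      (Scheme.Modules.pushforwardComp e (inv e)).symm)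
    ((Scheme.Modules.pushforwardComp (inv e) e) ≪≫ Scheme.Modules.pushforwardCongr (IsIso.inv_hom_id e) ≪≫
      Scheme.Modules.pushforwardId S)).isEquivalence_functor

theorem galAct_proj : galAct p K σ ≫ proj p K = proj p K := by
  rw [galAct, proj, pullback.lift_fst, Category.comp_id]

theorem galAct_to : galAct p K σ ≫ W4bk4gw11416.baseChangeTo p K =
    W4bk4gw11416.baseChangeTo p K ≫ Spec.map (CommRingCat.ofHom (σ : K →+* K)) :=
  pullback.lift_snd _ _ _

theorem galAct_appTop (c : K) :
    (galAct p K σ).appTop (Coh.toGlobal (W4bk4gw11416.baseChangeTo p K) c) =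
      Coh.toGlobal (W4bk4gw11416.baseChangeTo p K) (σ c) := by
  have e1 : Coh.toGlobal (galAct p K σ ≫ W4bk4gw11416.baseChangeTo p K) c =
      (galAct p K σ).appTop (Coh.toGlobal (W4bk4gw11416.baseChangeTo p K) c) := rfl
  rw [← e1, galAct_to]
  show (_ ≫ (W4bk4gw11416.baseChangeTo p K).appTop).hom _ = (W4bk4gw11416.baseChangeTo p K).appTop.hom _
  exact congrArg (W4bk4gw11416.baseChangeTo p K).appTop.hom (ConcreteCategory.congr_hom
      (Scheme.ΓSpecIso_inv_naturality (CommRingCat.ofHom (σ : K →+* K))) c).symm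

theorem galAct_comp (τ : K ≃ₐ[k] K) :
    galAct p K σ ≫ galAct p K τ = galAct p K (σ * τ) := by
  apply pullback.hom_ext
  · rw [Category.assoc]
    exact (congrArg (galAct p K σ ≫ ·) (galAct_proj p K τ)).trans
      ((galAct_proj p K σ).trans (galAct_proj p K _).symm)
  · rw [Category.assoc]
    refine (congrArg (galAct p K σ ≫ ·) (galAct_to p K τ)).trans ?_
    rw [← Category.assoc]
    refine (congrArg (· ≫ Spec.map (CommRingCat.ofHom (τ : K →+* K))) (galAct_to p K σ)).trans ?_
    rw [Category.assoc, ← Spec.map_comp, ← CommRingCat.ofHom_comp]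
    exact (galAct_to p K (σ * τ)).symm

theorem galAct_one : galAct p K (1 : K ≃ₐ[k] K) = 𝟙 _ := by
  apply pullback.hom_ext
  · exact (galAct_proj p K _).trans (Category.id_comp _).symm
  · refine (galAct_to p K _).trans ?_
    rw [show ((1 : K ≃ₐ[k] K) : K →+* K) = RingHom.id K from rfl, CommRingCat.ofHom_id, Spec.map_id]
    simp

theorem isIso_galAct : IsIso (galAct p K σ) :=
  ⟨galAct p K σ⁻¹, by rw [galAct_comp, mul_inv_cancel, galAct_one],
    by rw [galAct_comp, inv_mul_cancel, galAct_one]⟩

theorem isEquivalence_pullback : (Scheme.Modules.pullback (galAct p K σ)).IsEquivalence := by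
  haveI := isIso_galAct p K σ
  haveI := isEquivalence_pushforward (galAct p K σ)
  exact (Scheme.Modules.pullbackPushforwardAdjunction _).isEquivalence_left_of_isEquivalence_right

/-- Pullback to `X_K` is invariant under the Galois action. -/
def θ : Scheme.Modules.pullback (proj p K) ⋙ Scheme.Modules.pullback (galAct p K σ) ≅
    Scheme.Modules.pullback (proj p K) :=
  Scheme.Modules.pullbackComp _ _ ≪≫ Scheme.Modules.pullbackCongr (galAct_proj p K σ)

/-- The components of `θ`. -/
def θh (M : X.Modules) :
    (Scheme.Modules.pullback (galAct p K σ)).obj (bcMod p K M) ⟶ bcMod p K M := (θ p K σ).hom.app M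

/-- The components of the inverse of `θ`. -/
def θi (M : X.Modules) :
    bcMod p K M ⟶ (Scheme.Modules.pullback (galAct p K σ)).obj (bcMod p K M) := (θ p K σ).inv.app M

theorem θi_θh (M : X.Modules) : θi p K σ M ≫ θh p K σ M = 𝟙 (bcMod p K M) :=
  (θ p K σ).inv_hom_id_app M

/-- The semilinear action on morphisms of pullbacks. -/
def act {M : X.Modules} (φ : bcMod p K M ⟶ bcMod p K M) : bcMod p K M ⟶ bcMod p K M :=
  θi p K σ M ≫ (Scheme.Modules.pullback (galAct p K σ)).map φ ≫ θh p K σ M

theorem act_pb {M : X.Modules} (h : M ⟶ M) : act p K σ (KBC.pbMap p K h) = KBC.pbMap p K h := by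
  rw [act]
  refine (congrArg (θi p K σ M ≫ ·) ((θ p K σ).hom.naturality h)).trans ?_
  exact (Category.assoc _ _ _).symm.trans
    ((congrArg (· ≫ KBC.pbMap p K h) (θi_θh p K σ M)).trans (Category.id_comp _))

theorem act_add {M : X.Modules} (φ ψ : bcMod p K M ⟶ bcMod p K M) :
    act p K σ (φ + ψ) = act p K σ φ + act p K σ ψ := by
  haveI := KBC.additive_pullback (galAct p K σ)
  simp only [act, Functor.map_add, Preadditive.add_comp, Preadditive.comp_add]

theorem map_smul_galAct {M N : (W4bk4gw11416.baseChange p K).Modules} (c : K) (φ : M ⟶ N) :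
    (Scheme.Modules.pullback (galAct p K σ)).map (c • φ) =
      σ c • (Scheme.Modules.pullback (galAct p K σ)).map φ := by
  rw [KLin.smul_def, KLin.smul_def, Functor.map_comp, Formal.smulMod, Formal.smulMod]
  refine congrArg (· ≫ _) ?_
  refine (pullback_smulΓ _ _ _).trans ?_
  exact congrArg (Formal.smulModΓ _) (galAct_appTop p K σ c)

theorem act_smul {M : X.Modules} (c : K) (φ : bcMod p K M ⟶ bcMod p K M) :
    act p K σ (c • φ) = σ c • act p K σ φ := by
  rw [act, act, map_smul_galAct, Linear.smul_comp, Linear.comp_smul]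

/-- A nil left ideal closed under composition has no idempotents in its span after base change. -/
theorem eq_zero_of_mem_span [IsProper p] {M : X.Modules} (hM : Coh.IsCoh M)
    (J : Ideal (End M)) (hJ : ∀ h ∈ J, IsNilpotent h)
    {P : bcMod p K M ⟶ bcMod p K M} (hP : P ≫ P = P)
    (hPJ : P ∈ Submodule.span K ((fun h : End M => KBC.pbMap p K h) '' J)) : P = 0 := by
  letI : X.Over (Spec (CommRingCat.of k)) := ⟨p⟩
  haveI : IsProper (X ↘ Spec (CommRingCat.of k)) := ‹IsProper p›
  haveI : IsLocallyNoetherian X := LocallyOfFiniteType.isLocallyNoetherian p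
  haveI : FiniteDimensional k (End M) := ArtinFun.HomFinite.finite_hom (k := k) hM hM
  haveI : IsArtinianRing (End M) := IsArtinianRing.of_finite k (End M)
  have hle : J ≤ Ring.jacobson (End M) := fun x hx => by
    rw [← Ideal.jacobson_bot, Ideal.mem_jacobson_iff]
    intro y
    obtain ⟨v, hv⟩ := (hJ _ (J.mul_mem_left y hx)).isUnit_one_add
    refine ⟨↑v⁻¹, ?_⟩
    have : (↑v⁻¹ : End M) * (1 + y * x) = 1 := by rw [← hv, Units.inv_mul]
    rw [mul_add, mul_one] at this
    rw [Ideal.mem_bot, mul_assoc, add_comm _ (↑v⁻¹ : End M), this, sub_self]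
  obtain ⟨N, hN⟩ : IsNilpotent (Ring.jacobson (End M)) := IsSemiprimaryRing.isNilpotent
  have hstep : ∀ n : ℕ, P ∈ Submodule.span K ((fun h : End M => KBC.pbMap p K h) '' ↑(J ^ (n + 1))) := by
    intro n
    induction n with
    | zero => rw [Nat.zero_add, Submodule.pow_one]; exact hPJ
    | succ n ih =>
      rw [← hP]
      let S := Submodule.span K ((fun h : End M => KBC.pbMap p K h) '' ↑(J ^ (n + 1 + 1)))
      have key : ∀ a ∈ Submodule.span K ((fun h : End M => KBC.pbMap p K h) '' (J : Set (End M))),
          ∀ b ∈ Submodule.span K ((fun h : End M => KBC.pbMap p K h) '' ↑(J ^ (n + 1))), a ≫ b ∈ S := by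
        intro a ha b hb
        induction ha using Submodule.span_induction with
        | mem a ha =>
          obtain ⟨g, hg, rfl⟩ := ha
          induction hb using Submodule.span_induction with
          | mem b hb =>
            obtain ⟨j, hj, rfl⟩ := hb
            refine Submodule.subset_span ⟨j * g, ?_, Functor.map_comp _ _ _⟩
            rw [SetLike.mem_coe, Submodule.pow_succ]
            exact Ideal.mul_mem_mul hj hg
          | zero => rw [Limits.comp_zero]; exact S.zero_mem
          | add b b' _ _ h h' => rw [Preadditive.comp_add]; exact S.add_mem h h'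
          | smul c b _ h => rw [Linear.comp_smul]; exact S.smul_mem c h
        | zero => rw [Limits.zero_comp]; exact S.zero_mem
        | add a a' _ _ h h' => rw [Preadditive.add_comp]; exact S.add_mem h h'
        | smul c a _ h => rw [Linear.smul_comp]; exact S.smul_mem c h
      exact key P hPJ P ih
  have hbot : J ^ (N + 1) = ⊥ := by
    refine le_bot_iff.mp ?_
    calc J ^ (N + 1) ≤ Ring.jacobson (End M) ^ (N + 1) := Ideal.pow_right_mono hle _
      _ = ⊥ := by rw [Submodule.pow_succ, hN]; exact Ideal.bot_mul _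
  have h := hstep N
  rw [hbot] at h
  haveI := (Scheme.Modules.pullbackPushforwardAdjunction (proj p K)).left_adjoint_additive
  have h0 : (fun h : End M => KBC.pbMap p K h) '' ↑(⊥ : Ideal (End M)) = {0} := by
    rw [Submodule.bot_coe, Set.image_singleton]
    exact congrArg ({·}) (Functor.map_zero _ _ _)
  rw [h0, Submodule.span_zero_singleton] at h
  exact (Submodule.mem_bot K).mp h

variable {K}

/-- A Galois stable condition closed under linear combinations is spanned by its rational part. -/
theorem mem_span_of_stable [IsProper p] [IsSepClosure k K] {M : X.Modules} (hM : Coh.IsCoh M)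
    (J : Submodule K (bcMod p K M ⟶ bcMod p K M))
    (hσ : ∀ (σ : K ≃ₐ[k] K), ∀ φ ∈ J, act p K σ φ ∈ J)
    {φ : bcMod p K M ⟶ bcMod p K M} (hφ : φ ∈ J) :
    φ ∈ Submodule.span K ((fun h : End M => KBC.pbMap p K h) '' {h | KBC.pbMap p K h ∈ J}) := by
  classical
  letI : X.Over (Spec (CommRingCat.of k)) := ⟨p⟩
  haveI : IsProper (X ↘ Spec (CommRingCat.of k)) := ‹IsProper p›
  haveI : IsLocallyNoetherian X := LocallyOfFiniteType.isLocallyNoetherian p
  haveI : CompactSpace X := QuasiCompact.compactSpace_of_compactSpace p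
  haveI : FiniteDimensional k (M ⟶ M) := ArtinFun.HomFinite.finite_hom (k := k) hM hM
  haveI := (Scheme.Modules.pullbackPushforwardAdjunction (proj p K)).left_adjoint_additive
  haveI : M.IsQuasicoherent := hM.1
  haveI : IsGalois k K := inferInstance
  let J₀ : Submodule k (M ⟶ M) :=
    { carrier := {h | KBC.pbMap p K h ∈ J}
      add_mem' := fun {a b} ha hb => by
        show (Scheme.Modules.pullback (proj p K)).map (a + b) ∈ J
        rw [Functor.map_add]; exact J.add_mem ha hb
      zero_mem' := by
        show (Scheme.Modules.pullback (proj p K)).map 0 ∈ J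
        rw [Functor.map_zero]; exact J.zero_mem
      smul_mem' := fun c a ha => by
        show KBC.pbMap p K (c • a) ∈ J
        rw [KBC.pbMap_smul p K rfl]; exact J.smul_mem _ ha }
  let T := Submodule.span K ((fun h : End M => KBC.pbMap p K h) '' {h | KBC.pbMap p K h ∈ J})
  have hT : T ≤ J := Submodule.span_le.mpr (by rintro _ ⟨h, hh, rfl⟩; exact hh)
  obtain ⟨W, hW⟩ := J₀.exists_isCompl
  let w := Module.finBasis k W
  -- no combination of a basis of a complement lies in `J`
  have hind : ∀ (s : Finset (Fin (Module.finrank k W))) (c : Fin (Module.finrank k W) → K),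
      ∑ i ∈ s, c i • KBC.pbMap p K (w i : M ⟶ M) ∈ J → ∀ i ∈ s, c i = 0 := by
    intro s
    induction s using Finset.induction with
    | empty => intro c _ i hi; simp at hi
    | @insert a s has ih =>
      intro c hc
      have hca : c a = 0 := by
        by_contra hne
        let d : Fin (Module.finrank k W) → K := fun i => (c a)⁻¹ * c i
        have hd : ∑ i ∈ insert a s, d i • KBC.pbMap p K (w i : M ⟶ M) ∈ J := by
          have := J.smul_mem (c a)⁻¹ hc
          simpa [Finset.smul_sum, smul_smul, d] using this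
        have hda : d a = 1 := inv_mul_cancel₀ hne
        have hfix : ∀ i ∈ insert a s, ∀ σ : K ≃ₐ[k] K, σ (d i) = d i := by
          intro i hi σ
          let A : (bcMod p K M ⟶ bcMod p K M) →+ (bcMod p K M ⟶ bcMod p K M) :=
            AddMonoidHom.mk' (act p K σ) (act_add p K σ)
          have hs := hσ σ _ hd
          rw [show act p K σ (∑ i ∈ insert a s, d i • KBC.pbMap p K (w i : M ⟶ M)) =
              ∑ i ∈ insert a s, σ (d i) • KBC.pbMap p K (w i : M ⟶ M) from
            (map_sum A _ _).trans (Finset.sum_congr rfl fun i _ =>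
              (act_smul p K σ _ _).trans (congrArg (_ • ·) (act_pb p K σ _)))] at hs
          have hdiff := J.sub_mem hs hd
          rw [← Finset.sum_sub_distrib, Finset.sum_insert has, hda, map_one, sub_self, zero_add] at hdiff
          simp only [← sub_smul] at hdiff
          rcases Finset.mem_insert.mp hi with rfl | hi
          · rw [hda, map_one]
          · exact sub_eq_zero.mp (ih _ hdiff i hi)
        have hr : ∀ i : Fin (Module.finrank k W), ∃ r : k, i ∈ insert a s → algebraMap k K r = d i := by
          intro i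
          by_cases hi : i ∈ insert a s
          · obtain ⟨r, hr⟩ := (InfiniteGalois.mem_range_algebraMap_iff_fixed (k := k) (d i)).mpr (hfix i hi)
            exact ⟨r, fun _ => hr⟩
          · exact ⟨0, fun h => absurd h hi⟩
        choose r hr using hr
        have hmem : (∑ i ∈ insert a s, r i • (w i : M ⟶ M)) ∈ J₀ := by
          show (Scheme.Modules.pullback (proj p K)).map _ ∈ J
          rw [Functor.map_sum]
          convert hd using 1
          refine Finset.sum_congr rfl fun i hi => ?_
          rw [← hr i hi]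
          exact KBC.pbMap_smul p K rfl _ _
        have hW' : (∑ i ∈ insert a s, r i • (w i : M ⟶ M)) ∈ W :=
          W.sum_mem fun i _ => W.smul_mem _ (w i).2
        have h0 : ∑ i ∈ insert a s, r i • w i = 0 := Subtype.ext (by
          rw [Submodule.coe_sum]
          simpa using Submodule.disjoint_def.mp hW.disjoint _ hmem hW')
        have ha0 := linearIndependent_iff'.mp w.linearIndependent _ _ h0 a (Finset.mem_insert_self _ _)
        have := hr a (Finset.mem_insert_self _ _)
        rw [ha0, map_zero, hda] at this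
        exact zero_ne_one this
      intro i hi
      rw [Finset.sum_insert has, hca, zero_smul, zero_add] at hc
      rcases Finset.mem_insert.mp hi with rfl | hi
      · exact hca
      · exact ih c hc i hi
  obtain ⟨S, h, hh⟩ := KBC.exists_sum p K (Module.Basis.ofVectorSpace k K) hM φ
  -- modulo `T` every morphism is a combination of the basis of the complement
  have hdec : ∀ g : M ⟶ M, ∃ r : Fin (Module.finrank k W) → k,
      KBC.pbMap p K g - ∑ i, algebraMap k K (r i) • KBC.pbMap p K (w i : M ⟶ M) ∈ T := by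
    intro g
    obtain ⟨j, hj, v, hv, rfl⟩ := Submodule.mem_sup.mp (hW.sup_eq_top ▸ Submodule.mem_top : g ∈ J₀ ⊔ W)
    refine ⟨w.repr ⟨v, hv⟩, ?_⟩
    have hsum := congrArg Subtype.val (w.sum_repr ⟨v, hv⟩)
    rw [Submodule.coe_sum] at hsum
    have e : ∑ i, algebraMap k K (w.repr ⟨v, hv⟩ i) • KBC.pbMap p K (w i : M ⟶ M) = KBC.pbMap p K v := by
      conv_rhs => rw [show v = ∑ i, ((w.repr ⟨v, hv⟩ i • w i : W) : M ⟶ M) from hsum.symm]
      simp only [KBC.pbMap, Functor.map_sum]
      exact Finset.sum_congr rfl fun i _ => (KBC.pbMap_smul p K rfl _ _).symm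
    rw [e]
    simp only [KBC.pbMap, Functor.map_add, add_sub_cancel_right]
    exact Submodule.subset_span ⟨j, hj, rfl⟩
  choose r hr using hdec
  let b := Module.Basis.ofVectorSpace k K
  let c : Fin (Module.finrank k W) → K := fun i => ∑ l ∈ S, b l * algebraMap k K (r (h l) i)
  have hmod : φ - ∑ i, c i • KBC.pbMap p K (w i : M ⟶ M) ∈ T := by
    have : φ - ∑ i, c i • KBC.pbMap p K (w i : M ⟶ M) = ∑ l ∈ S, b l •
        (KBC.pbMap p K (h l) - ∑ i, algebraMap k K (r (h l) i) • KBC.pbMap p K (w i : M ⟶ M)) := by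
      simp only [smul_sub, Finset.smul_sum, smul_smul, Finset.sum_sub_distrib, c, Finset.sum_smul]
      rw [← hh, Finset.sum_comm]
    rw [this]
    exact T.sum_mem fun l _ => T.smul_mem _ (hr _)
  have hc := hind Finset.univ c (by simpa using J.sub_mem hφ (hT hmod))
  simpa [fun i => hc i (Finset.mem_univ i)] using hmod

variable (K)

/-- All Galois invariant summands of a split indecomposable module are isomorphic. -/
theorem summands_iso [IsProper p] [IsSepClosure k K] {M : X.Modules} (hM : Coh.IsCoh M)
    (hMi : KS.Ind M) {n : ℕ} (Ls : Fin n → (W4bk4gw11416.baseChange p K).Modules)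
    (hg : ∀ i, KS.Good (Ls i)) (e : bcMod p K M ≅ ∐ Ls) (i₀ : Fin n)
    (hinv : ∀ σ : K ≃ₐ[k] K, Nonempty ((Scheme.Modules.pullback (galAct p K σ)).obj (Ls i₀) ≅ Ls i₀))
    (i : Fin n) : Nonempty (Ls i ≅ Ls i₀) := by
  classical
  letI : X.Over (Spec (CommRingCat.of k)) := ⟨p⟩
  haveI : IsLocallyNoetherian X := LocallyOfFiniteType.isLocallyNoetherian p
  haveI := (Scheme.Modules.pullbackPushforwardAdjunction (proj p K)).left_adjoint_additive
  haveI : IsProper (X ↘ Spec (CommRingCat.of k)) := ‹IsProper p›
  haveI : FiniteDimensional k (End M) := ArtinFun.HomFinite.finite_hom (k := k) hM hM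
  let inc : ∀ j, Ls j ⟶ bcMod p K M := fun j => Sigma.ι Ls j ≫ e.inv
  let prj : ∀ j, bcMod p K M ⟶ Ls j := fun j => e.hom ≫ Sigma.π Ls j
  have hip : ∀ j, inc j ≫ prj j = 𝟙 _ := fun j => by simp [inc, prj]
  let L := Ls i₀
  let J : Submodule K (bcMod p K M ⟶ bcMod p K M) :=
    { carrier := {φ | ∀ (a : L ⟶ bcMod p K M) (b : bcMod p K M ⟶ L), ¬ IsIso (a ≫ φ ≫ b)}
      add_mem' := fun {φ ψ} hφ hψ a b h => by
        rw [Preadditive.add_comp, Preadditive.comp_add] at h
        rcases (hg i₀).2 _ _ h with h | h
        exacts [hφ a b h, hψ a b h]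
      zero_mem' := fun a b h => (hg i₀).1.1 (by
        rw [Limits.zero_comp, Limits.comp_zero] at h
        exact IsZero.of_mono_eq_zero (0 : L ⟶ L) rfl)
      smul_mem' := fun c φ hφ a b h => hφ (c • a) b (by
        rwa [Linear.smul_comp, ← Linear.comp_smul, ← Linear.smul_comp]) }
  have hJl : ∀ φ ∈ J, ∀ ψ, ψ ≫ φ ∈ J := fun φ hφ ψ a b h => hφ (a ≫ ψ) b (by simpa using h)
  have hJ1 : 𝟙 (bcMod p K M) ∉ J := fun h => h (inc i₀) (prj i₀) (by
    rw [Category.id_comp, hip]; infer_instance)
  have hJσ : ∀ σ : K ≃ₐ[k] K, ∀ φ ∈ J, act p K σ φ ∈ J := by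
    intro σ φ hφ a b h
    obtain ⟨v⟩ := hinv σ
    haveI := isEquivalence_pullback p K σ
    let F := Scheme.Modules.pullback (galAct p K σ)
    let a' := F.preimage (v.hom ≫ a ≫ θi p K σ M)
    let b' := F.preimage (θh p K σ M ≫ b ≫ v.inv)
    refine hφ a' b' ?_
    have e' : F.map (a' ≫ φ ≫ b') = v.hom ≫ (a ≫ act p K σ φ ≫ b) ≫ v.inv := by
      rw [Functor.map_comp, Functor.map_comp, Functor.map_preimage, Functor.map_preimage, act]
      simp only [Category.assoc]
      rfl
    haveI : IsIso (F.map (a' ≫ φ ≫ b')) := by rw [e']; infer_instance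
    exact isIso_of_reflects_iso _ F
  let J₀ : Ideal (End M) :=
    { carrier := {h | KBC.pbMap p K h ∈ J}
      add_mem' := fun {a b} ha hb => by
        show (Scheme.Modules.pullback (proj p K)).map (a + b) ∈ J
        rw [Functor.map_add]; exact J.add_mem ha hb
      zero_mem' := by
        show (Scheme.Modules.pullback (proj p K)).map 0 ∈ J
        rw [Functor.map_zero]; exact J.zero_mem
      smul_mem' := fun r a ha => by
        show KBC.pbMap p K (a ≫ r) ∈ J
        intro x y h
        refine ha x (KBC.pbMap p K r ≫ y) ?_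
        simpa [KBC.pbMap] using h }
  have hnil : ∀ h ∈ J₀, IsNilpotent h := fun h hh => by
    rcases KS.isUnit_or_isNilpotent (k := k) (R := End M)
      (fun x hx => KS.idempotent_trivial hMi x hx.eq) h with hu | hn
    · refine absurd ?_ hJ1
      have hi := (isUnit_iff_isIso _).mp hu
      have := hJl _ hh (KBC.pbMap p K (inv h))
      rwa [KBC.pbMap, KBC.pbMap, ← Functor.map_comp, IsIso.inv_hom_id, CategoryTheory.Functor.map_id] at this
    · exact hn
  by_contra hne
  refine (hg i).1.1 ((IsZero.iff_id_eq_zero _).mpr ?_)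
  have hPJ : prj i ≫ inc i ∈ J := fun a b h => by
    let s : L ⟶ Ls i := a ≫ prj i
    let t : Ls i ⟶ L := inc i ≫ b
    have hst : IsIso (s ≫ t) := by simpa [s, t] using h
    let t' := t ≫ inv (s ≫ t)
    have h1 : s ≫ t' = 𝟙 L := by simp [t', ← Category.assoc]
    rcases KS.idempotent_trivial (hg i).1 (t' ≫ s)
      (by rw [Category.assoc, ← Category.assoc s, h1, Category.id_comp]) with h2 | h2
    · refine (hg i₀).1.1 ((IsZero.iff_id_eq_zero _).mpr ?_)
      calc 𝟙 L = (s ≫ t') ≫ s ≫ t' := by rw [h1, Category.id_comp]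
        _ = s ≫ (t' ≫ s) ≫ t' := by simp only [Category.assoc]
        _ = 0 := by rw [h2, Limits.zero_comp, Limits.comp_zero]
    · exact hne ⟨⟨t', s, h2, h1⟩⟩
  have hz := eq_zero_of_mem_span p K hM J₀ hnil (P := prj i ≫ inc i)
    (by rw [Category.assoc, ← Category.assoc (inc i), hip, Category.id_comp])
    (mem_span_of_stable p hM J hJσ hPJ)
  calc 𝟙 (Ls i) = inc i ≫ (prj i ≫ inc i) ≫ prj i := by simp [hip i]
    _ = 0 := by rw [hz, Limits.zero_comp, Limits.comp_zero]

end Groth.Agent.H24.GalIso
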