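import Groth.Agent.Lib.CohDelta.KBC.Simple
import Groth.Agent.H90.ConnFun

set_option autoImplicit false
set_option linter.style.haveILetI false
universe u

open CategoryTheory CategoryTheory.Limits AlgebraicGeometry ZeroObject

noncomputable section

namespace Groth.Agent.H24.GalIso

open Groth.Agent.Lib CohDelta W4c1astiltbs12 TensorMod.Basic CurveBundle

variable {Y : Scheme.{u}}

/-- An invertible module on a connected scheme is indecomposable. -/
theorem ind_invertible [ConnectedSpace Y] {L : Y.Modules} (hL : PicF.IsInvertible L) : KS.Ind L := by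
  obtain ⟨y⟩ : Nonempty Y := inferInstance
  haveI : (tensorBy L).IsEquivalence := CurveBundle.Twist.isEquivalence hL
  haveI : (tensorBy L).Additive := GP.additive_tensorBy _
  let u : (tensorBy L).obj (Coh.structureModule Y) ≅ L := leftUnit L
  have hf : ∀ f : L ⟶ L, f ≫ f = f → f = 0 ∨ f = 𝟙 L := fun f hff => by
    obtain ⟨ψ, hψ⟩ := (tensorBy L).map_surjective (u.hom ≫ f ≫ u.inv)
    let r : Γ(Y, ⊤) := ψ.app ⊤ (1 : Γ(Y, ⊤))
    have e1 : ψ = EndAlg.scal (Coh.structureModule Y) r := Modules.Free.unitHom_ext (by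
      rw [EndAlg.scal_app]
      have h1 : (Y.presheaf.map (homOfLE (le_top (a := (⊤ : Y.Opens)))).op r : Γ(Y, ⊤)) = r := by simp
      rw [h1]
      exact (mul_one r).symm)
    have e2 : f = EndAlg.scal L r := by
      have h2 : u.hom ≫ f ≫ u.inv = EndAlg.scal _ r :=
        hψ.symm.trans ((congrArg (tensorBy L).map e1).trans (GP.tmap_scal _ L r))
      rw [← cancel_epi u.hom, ← cancel_mono u.inv, Category.assoc, h2,
        ← EndAlg.scal_comm u.hom, Category.assoc, u.hom_inv_id, Category.comp_id]
    have hψψ : ψ ≫ ψ = ψ := (tensorBy L).map_injective (by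
      rw [Functor.map_comp, hψ]
      simp only [Category.assoc, Iso.inv_hom_id_assoc]
      rw [← Category.assoc f, hff])
    have hr : IsIdempotentElem r := by
      have h3 := congrArg (fun q => Scheme.Modules.Hom.app q ⊤ (1 : Γ(Y, ⊤))) hψψ
      simp only [Scheme.Modules.Hom.comp_app, CategoryTheory.comp_apply] at h3
      refine Eq.trans ?_ h3
      conv_rhs => rw [e1, EndAlg.scal_app, EndAlg.scal_app]
      simp
      exact (congrArg (r * ·) (mul_one r)).symm
    rcases H90.ConnFun.idempotent_eq_zero_or_one r hr with h | h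
    · left
      rw [e2, h]
      exact map_zero (EndAlg.scalHom L)
    · right
      rw [e2, h]
      exact map_one (EndAlg.scalHom L)
  refine ⟨fun hz => ?_, fun A B ⟨φ⟩ => ?_⟩
  · haveI : (tensorBy L).Faithful := inferInstance
    have h1 : 𝟙 (Coh.structureModule Y) = 0 := (tensorBy L).map_injective
      ((IsZero.of_iso hz u).eq_of_src _ _)
    have h2 := congrArg (fun q => Scheme.Modules.Hom.app q ⊤ (1 : Γ(Y, ⊤))) h1
    have h3 : (1 : Γ(Y, ⊤)) = 0 := h2
    haveI : Nontrivial Γ(Y, ⊤) :=
      (Y.presheaf.germ ⊤ y trivial).hom.domain_nontrivial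
    exact one_ne_zero h3
  · rcases hf (φ.hom ≫ biprod.fst ≫ biprod.inl ≫ φ.inv) (by simp) with h | h
    · left
      rw [IsZero.iff_id_eq_zero]
      have h1 := congrArg (fun q => biprod.inl ≫ φ.inv ≫ q ≫ φ.hom ≫ biprod.fst) h
      simpa using h1
    · right
      rw [IsZero.iff_id_eq_zero]
      have h1 := congrArg (fun q => biprod.inr ≫ φ.inv ≫ q ≫ φ.hom ≫ biprod.snd) h
      simpa using h1.symm

end Groth.Agent.H24.GalIso
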