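import Groth.Agent.H24.NodeRing.Axes
import Groth.Prelude.Def_W4c5spincurvestfNode

/-!
# Normal form and the matrix `α(p, q)` on `R[[x, y]]/(xy - π)`
-/

set_option autoImplicit false
set_option linter.style.haveILetI false

universe u

open MvPowerSeries SpinCurv

namespace Groth.Agent.H24.NodeAxes

open Groth.Agent.H24.NodeRing

variable {R : Type u} [CommRing R]

theorem axes_eq_zero (I : Ideal R) [IsHausdorff I R] {r : R} (hr : r ∈ I) {a b : ℕ → R}
    (h : axes a b ∈ Ideal.span {rel r}) : a = 0 ∧ b = 0 := by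
  classical
  obtain ⟨g, hg⟩ := Ideal.mem_span_singleton'.1 h
  let e : Fin 2 →₀ ℕ := Finsupp.single 0 1 + Finsupp.single 1 1
  have hcoef : ∀ d, coeff d g = r * coeff (d + e) g := by
    intro d
    have h1 := congrArg (coeff (d + e)) hg
    rw [rel, mul_comm g, sub_mul, map_sub, coeff_C_mul, coeff_X0X1_mul, if_pos (by
      simp [e, Finsupp.single_apply]), coeff_axes, if_neg (by simp [e, Finsupp.single_apply]),
      if_neg (by simp [e, Finsupp.single_apply]), show d + e - e = d from add_tsub_cancel_right d e] at h1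
    exact sub_eq_zero.1 h1
  have hpow : ∀ n, ∀ d, coeff d g ∈ I ^ n := by
    intro n
    induction n with
    | zero => simp
    | succ n ih =>
      intro d
      rw [hcoef d, pow_succ']
      exact Ideal.mul_mem_mul hr (ih _)
  have hg0 : g = 0 := MvPowerSeries.ext fun d => by
    rw [map_zero]
    exact IsHausdorff.haus (inferInstance : IsHausdorff I R) _ fun n => by
      rw [SModEq.zero, smul_eq_mul, Ideal.mul_top]; exact hpow n d
  rw [hg0, zero_mul] at hg
  constructor
  · funext m
    have h1 := congrArg (coeff (Finsupp.single (0 : Fin 2) m)) hg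
    rw [map_zero, coeff_axes] at h1
    simpa [Finsupp.single_apply] using h1.symm
  · funext m
    have h1 := congrArg (coeff (Finsupp.single (1 : Fin 2) (m + 1))) hg
    rw [map_zero, coeff_axes] at h1
    simpa [Finsupp.single_apply] using h1.symm

theorem toMv_eq (i : Fin 2) (f : PowerSeries R) :
    PowerSeries.toMvPowerSeries (σ := Fin 2) i f = ser i fun m => PowerSeries.coeff m f := by
  classical
  ext d
  rw [coeff_ser]
  let e : Unit ↪ Fin 2 := Function.Embedding.punit i
  by_cases h : d (1 - i) = 0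
  · rw [if_pos h]
    have hd : d = Finsupp.embDomain e (Finsupp.single () (d i)) := by
      rw [Finsupp.embDomain_single]
      ext j
      fin_cases i <;> fin_cases j <;> simp_all [e, Finsupp.single_apply, Function.Embedding.punit]
    conv_lhs => rw [hd]
    exact coeff_embDomain_rename e f _
  · rw [if_neg h]
    refine coeff_rename_eq_zero _ _ ?_
    rintro ⟨x, hx⟩
    refine h ?_
    rw [← hx, Finsupp.mapDomain_notin_range]
    rintro ⟨_, hj⟩
    fin_cases i <;> simp at hj

variable (π : R)

theorem mk_axes (f g : PowerSeries R) :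
    NodeRing.ofX R π f + NodeRing.y R π * NodeRing.ofY R π g =
      Ideal.Quotient.mk _ (axes (fun m => PowerSeries.coeff m f) fun m => PowerSeries.coeff m g) := by
  rw [axes, map_add, map_mul, ← toMv_eq, ← toMv_eq]

theorem exists_repr (I : Ideal R) [IsAdicComplete I R] (hπ : π ∈ I) (z : SpinCurv.NodeRing R π) :
    ∃ f g : PowerSeries R, z = NodeRing.ofX R π f + NodeRing.y R π * NodeRing.ofY R π g := by
  obtain ⟨F, rfl⟩ := Ideal.Quotient.mk_surjective z
  obtain ⟨a, b, hab⟩ := exists_axes I hπ F
  refine ⟨PowerSeries.mk a, PowerSeries.mk b, ?_⟩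
  rw [mk_axes]
  simp only [PowerSeries.coeff_mk]
  exact Ideal.Quotient.eq.2 hab

theorem exists_repr' (I : Ideal R) [IsAdicComplete I R] (hπ : π ∈ I) (z : SpinCurv.NodeRing R π) :
    ∃ f g : PowerSeries R, z = NodeRing.ofY R π g + NodeRing.x R π * NodeRing.ofX R π f := by
  obtain ⟨f, g, rfl⟩ := exists_repr π I hπ z
  refine ⟨PowerSeries.mk fun m => PowerSeries.coeff (m + 1) f,
    PowerSeries.C (PowerSeries.constantCoeff f) + PowerSeries.X * g, ?_⟩
  conv_lhs => rw [PowerSeries.eq_X_mul_shift_add_const f]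
  simp only [NodeRing.ofX, NodeRing.ofY, map_add, map_mul, PowerSeries.toMvPowerSeries_C,
    PowerSeries.toMvPowerSeries_X]
  ring

theorem repr_eq_zero (I : Ideal R) [IsHausdorff I R] (hπ : π ∈ I) {f g : PowerSeries R}
    (h : NodeRing.ofX R π f + NodeRing.y R π * NodeRing.ofY R π g = 0) : f = 0 ∧ g = 0 := by
  rw [mk_axes, Ideal.Quotient.eq_zero_iff_mem] at h
  obtain ⟨ha, hb⟩ := axes_eq_zero I hπ h
  exact ⟨PowerSeries.ext fun m => by simpa using congrFun ha m,
    PowerSeries.ext fun m => by simpa using congrFun hb m⟩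

theorem xy : NodeRing.x R π * NodeRing.y R π = algebraMap R (SpinCurv.NodeRing R π) π := by
  rw [← map_mul]
  exact Ideal.Quotient.eq.2 (Ideal.mem_span_singleton_self _)

section Alpha

variable {p q : R}

/-- `α` on a pair of series on the two axes is injective. -/
theorem alpha_injective (I : Ideal R) [IsHausdorff I R] (hpq : p * q ∈ I) {f g : PowerSeries R}
    (h : Matrix.mulVec (nodeAlpha R p q) ![NodeRing.ofX R (p * q) f, NodeRing.ofY R (p * q) g] = 0) :
    f = 0 ∧ g = 0 := by
  have h0 := congrFun h 0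
  have h1 := congrFun h 1
  simp only [nodeAlpha, Matrix.mulVec, dotProduct, Fin.sum_univ_two, Matrix.of_apply,
    Matrix.cons_val_zero, Matrix.cons_val_one, Pi.zero_apply] at h0 h1
  rw [PowerSeries.eq_X_mul_shift_add_const g] at h0
  have e0 : NodeRing.ofX R (p * q) (PowerSeries.X * f + PowerSeries.C (p * PowerSeries.constantCoeff g)) +
      NodeRing.y R (p * q) * NodeRing.ofY R (p * q)
        (PowerSeries.C p * PowerSeries.mk fun m => PowerSeries.coeff (m + 1) g) = 0 := by
    rw [← h0]
    simp only [NodeRing.ofX, NodeRing.ofY, map_add, map_mul, PowerSeries.toMvPowerSeries_C,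
      PowerSeries.toMvPowerSeries_X]
    show _ = _ + Ideal.Quotient.mk _ (MvPowerSeries.C p) * _
    ring
  have hf : f = 0 := by
    have := (repr_eq_zero (p * q) I hpq e0).1
    refine PowerSeries.ext fun m => ?_
    simpa using congrArg (PowerSeries.coeff (m + 1)) this
  refine ⟨hf, (repr_eq_zero (p * q) I hpq (f := 0) (g := g) ?_).2⟩
  subst hf
  simpa [NodeRing.ofX] using h1

theorem alpha_y (c : SpinCurv.NodeRing R (p * q)) :
    Matrix.mulVec (nodeAlpha R p q) ![NodeRing.y R (p * q) * c, 0] =
      Matrix.mulVec (nodeAlpha R p q) ![0, algebraMap R _ q * c] := by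
  funext i
  fin_cases i
  · simp [nodeAlpha, Matrix.mulVec, dotProduct, Fin.sum_univ_two, ← mul_assoc, xy, ← map_mul]
    exact congrArg (· * c) ((map_mul _ _ _).trans (xy (p * q)))
  · simp [nodeAlpha, Matrix.mulVec, dotProduct, Fin.sum_univ_two]; ring

theorem alpha_x (c : SpinCurv.NodeRing R (p * q)) :
    Matrix.mulVec (nodeAlpha R p q) ![0, NodeRing.x R (p * q) * c] =
      Matrix.mulVec (nodeAlpha R p q) ![algebraMap R _ p * c, 0] := by
  funext i
  fin_cases i
  · simp [nodeAlpha, Matrix.mulVec, dotProduct, Fin.sum_univ_two]; ring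
  · simp [nodeAlpha, Matrix.mulVec, dotProduct, Fin.sum_univ_two, ← mul_assoc,
      mul_comm (NodeRing.y R (p * q)) (NodeRing.x R (p * q)), xy, ← map_mul, mul_comm q p]
    exact congrArg (· * c) ((map_mul _ _ _).trans (xy (p * q)))

/-- Every vector differs from a pair on the axes by an element of the expected kernel. -/
theorem exists_reduce (I : Ideal R) [IsAdicComplete I R] (hpq : p * q ∈ I)
    (v : Fin 2 → SpinCurv.NodeRing R (p * q)) :
    ∃ (f g : PowerSeries R) (c d : SpinCurv.NodeRing R (p * q)),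
      v = ![NodeRing.ofX R (p * q) f, NodeRing.ofY R (p * q) g] +
        c • ![NodeRing.y R (p * q), -algebraMap R _ q] +
        d • ![algebraMap R _ p, -NodeRing.x R (p * q)] := by
  obtain ⟨f, a, hv0⟩ := exists_repr (p * q) I hpq (v 0)
  obtain ⟨d, g, hv1⟩ := exists_repr' (p * q) I hpq (v 1 + algebraMap R _ q * NodeRing.ofY R (p * q) a)
  refine ⟨f + PowerSeries.C p * d, g, NodeRing.ofY R (p * q) a, -NodeRing.ofX R (p * q) d, ?_⟩
  funext i
  fin_cases i
  · simp only [Pi.add_apply, Pi.smul_apply, smul_eq_mul, Fin.zero_eta, Matrix.cons_val_zero, hv0]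
    simp only [NodeRing.ofX, map_add, map_mul, PowerSeries.toMvPowerSeries_C]
    show _ = _ + Ideal.Quotient.mk _ (MvPowerSeries.C p) * _ + _ + _ * Ideal.Quotient.mk _ (MvPowerSeries.C p)
    ring
  · simp only [Pi.add_apply, Pi.smul_apply, smul_eq_mul, Fin.mk_one, Matrix.cons_val_one]
    rw [eq_sub_of_add_eq hv1]
    simp only [Matrix.cons_val_fin_one]
    ring

end Alpha

end Groth.Agent.H24.NodeAxes
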