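import Groth.Agent.H24.NodeNormalForm
import Mathlib.RingTheory.AdicCompletion.LocalRing
import Mathlib.RingTheory.TensorProduct.Quotient

/-!
# Normal form of a node between completions of local rings
-/

set_option autoImplicit false
set_option linter.style.haveILetI false

universe u

open IsLocalRing MvPowerSeries
open scoped TensorProduct

namespace Groth.Agent.H24.NodeNormalFormCpl

variable (A B : Type u) [CommRing A] [IsLocalRing A] [IsNoetherianRing A]
  [CommRing B] [IsLocalRing B] [IsNoetherianRing B] [Algebra A B] [IsLocalHom (algebraMap A B)]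

theorem map_eq :
    (maximalIdeal A).map (algebraMap A (AdicCompletion (maximalIdeal B) B)) =
      ((maximalIdeal A).map (algebraMap A B)).map
        (algebraMap B (AdicCompletion (maximalIdeal B) B)) := by
  rw [Ideal.map_map, ← IsScalarTower.algebraMap_eq]

theorem map_le :
    (maximalIdeal A).map (algebraMap A (AdicCompletion (maximalIdeal B) B)) ≤
      maximalIdeal (AdicCompletion (maximalIdeal B) B) := by
  rw [map_eq, AdicCompletion.maximalIdeal_eq_map]
  exact Ideal.map_mono (((local_hom_TFAE (algebraMap A B)).out 0 2).mp ‹IsLocalHom (algebraMap A B)›)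

/-- The normal form, with the injectivity in the flat case. -/
theorem exists_normalForm
    (hres : Function.Bijective (IsLocalRing.ResidueField.map (algebraMap A B)))
    (u v : B) (huv : u * v ∈ (maximalIdeal A).map (algebraMap A B))
    (hgen : maximalIdeal B = Ideal.span {u, v} ⊔ (maximalIdeal A).map (algebraMap A B)) :
    ∃ (α : AdicCompletion (maximalIdeal A) A)
      (_ : α ∈ (maximalIdeal A).map (algebraMap A (AdicCompletion (maximalIdeal A) A)))
      (ψ : (MvPowerSeries (Fin 2) (AdicCompletion (maximalIdeal A) A) ⧸ Ideal.span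
          {(X 0 * X 1 - MvPowerSeries.C α :
              MvPowerSeries (Fin 2) (AdicCompletion (maximalIdeal A) A))}) →ₐ[A]
        AdicCompletion (maximalIdeal B) B),
      Function.Surjective ψ ∧
        ψ (Ideal.Quotient.mk _ (X 0)) - algebraMap B (AdicCompletion (maximalIdeal B) B) u ∈
          (maximalIdeal A).map (algebraMap A (AdicCompletion (maximalIdeal B) B)) ∧
        ψ (Ideal.Quotient.mk _ (X 1)) - algebraMap B (AdicCompletion (maximalIdeal B) B) v ∈
          (maximalIdeal A).map (algebraMap A (AdicCompletion (maximalIdeal B) B)) ∧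
        (Module.Flat A B →
          Nonempty ((AdicCompletion (maximalIdeal B) B ⧸
              (maximalIdeal A).map (algebraMap A (AdicCompletion (maximalIdeal B) B))) ≃+*
            (MvPowerSeries (Fin 2) (ResidueField A) ⧸
              Ideal.span {(X 0 * X 1 : MvPowerSeries (Fin 2) (ResidueField A))})) →
          Function.Injective ψ) := by
  let C := AdicCompletion (maximalIdeal A) A
  let R := AdicCompletion (maximalIdeal B) B
  have hle := map_le A B
  obtain ⟨g⟩ := NodeNormalForm.exists_lift (maximalIdeal A) R (maximalIdeal R) hle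
  letI : Algebra C R := g.toRingHom.toAlgebra
  haveI : IsScalarTower A C R := IsScalarTower.of_algebraMap_eq fun a => (g.commutes a).symm
  have hmC : (maximalIdeal A).map (algebraMap A C) = maximalIdeal C :=
    AdicCompletion.maximalIdeal_eq_map.symm
  have hmR : (maximalIdeal C).map (algebraMap C R) = (maximalIdeal A).map (algebraMap A R) := by
    rw [← hmC, Ideal.map_map, ← IsScalarTower.algebraMap_eq]
  have hresR : ∀ r : R, ∃ c : C, r - algebraMap C R c ∈ maximalIdeal R := by
    intro r
    obtain ⟨b, hb⟩ := (AdicCompletion.residueField_map_bijective B).2 (residue R r)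
    obtain ⟨b, rfl⟩ := residue_surjective b
    obtain ⟨a, ha⟩ := hres.2 (residue B b)
    obtain ⟨a, rfl⟩ := residue_surjective a
    rw [ResidueField.map_residue] at hb ha
    refine ⟨algebraMap A C a, ?_⟩
    rw [← IsScalarTower.algebraMap_apply]
    have h1 : algebraMap A B a - b ∈ maximalIdeal B := Ideal.Quotient.eq.1 ha
    have h2 : algebraMap B R b - r ∈ maximalIdeal R := Ideal.Quotient.eq.1 hb
    have h3 : algebraMap B R (algebraMap A B a - b) ∈ maximalIdeal R := by
      rw [show maximalIdeal R = (maximalIdeal B).map (algebraMap B R) from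
        AdicCompletion.maximalIdeal_eq_map]
      exact Ideal.mem_map_of_mem _ h1
    rw [map_sub, ← IsScalarTower.algebraMap_apply] at h3
    convert neg_mem (add_mem h2 h3) using 1
    ring
  have hgenR : maximalIdeal R = Ideal.span {algebraMap B R u, algebraMap B R v} ⊔
      (maximalIdeal C).map (algebraMap C R) := by
    rw [hmR, map_eq, show maximalIdeal R = (maximalIdeal B).map (algebraMap B R) from
        AdicCompletion.maximalIdeal_eq_map]
    refine (congrArg (Ideal.map (algebraMap B R)) hgen).trans ?_
    rw [Ideal.map_sup, Ideal.map_span, Set.image_pair]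
  have huvR : algebraMap B R u * algebraMap B R v ∈ (maximalIdeal C).map (algebraMap C R) := by
    rw [hmR, map_eq, ← map_mul]
    exact Ideal.mem_map_of_mem _ huv
  obtain ⟨α, hα, U, V, hU, hV, hUV⟩ :=
    NodeNormalForm.exists_params (hmR ▸ hle) hresR _ _ huvR hgenR
  have hgen' : maximalIdeal R = Ideal.span {U, V} ⊔ (maximalIdeal C).map (algebraMap C R) := by
    rw [hgenR]
    refine le_antisymm (sup_le (Ideal.span_le.2 ?_) le_sup_right)
      (sup_le (Ideal.span_le.2 ?_) le_sup_right)
    · intro x hx
      simp only [Set.mem_insert_iff, Set.mem_singleton_iff] at hx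
      rw [SetLike.mem_coe]
      rcases hx with rfl | rfl
      · rw [← sub_sub_cancel U (algebraMap B R u)]
        exact sub_mem (Ideal.mem_sup_left (Ideal.subset_span (by simp))) (Ideal.mem_sup_right hU)
      · rw [← sub_sub_cancel V (algebraMap B R v)]
        exact sub_mem (Ideal.mem_sup_left (Ideal.subset_span (by simp))) (Ideal.mem_sup_right hV)
    · intro x hx
      simp only [Set.mem_insert_iff, Set.mem_singleton_iff] at hx
      rw [SetLike.mem_coe]
      rcases hx with rfl | rfl
      · rw [← sub_add_cancel x (algebraMap B R u)]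
        exact add_mem (Ideal.mem_sup_right hU) (Ideal.mem_sup_left (Ideal.subset_span (by simp)))
      · rw [← sub_add_cancel x (algebraMap B R v)]
        exact add_mem (Ideal.mem_sup_right hV) (Ideal.mem_sup_left (Ideal.subset_span (by simp)))
  obtain ⟨ψ, hψ, h0, h1⟩ := NodeNormalForm.exists_surjective (hmR ▸ hle) hresR U V α hUV hgen'
  refine ⟨α, hmC.symm ▸ hα, ψ.restrictScalars A, hψ, ?_, ?_, fun hflat hfib => ?_⟩
  · rw [AlgHom.restrictScalars_apply, h0, ← hmR]; exact hU
  · rw [AlgHom.restrictScalars_apply, h1, ← hmR]; exact hV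
  · haveI : Module.Flat A R := Module.Flat.trans A B R
    let ι := RingEquiv.ofBijective _ (AdicCompletion.residueField_map_bijective A)
    refine NodeNormalForm.injective (A := A) (ι.symm.toRingHom.comp (residue C))
      (ι.symm.surjective.comp residue_surjective) ?_ (maximalIdeal A) hmC α hα ψ hψ (hmR ▸ hle) ?_
    · ext x
      simp [RingHom.mem_ker, residue_eq_zero_iff]
    · obtain ⟨e⟩ := hfib
      exact ⟨(Ideal.quotEquivOfEq hmR).trans e⟩

/-- The completed closed fibre is the closed fibre of the completion. -/
theorem fibre_equiv :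
    Nonempty ((AdicCompletion (maximalIdeal B) B ⧸
        (maximalIdeal A).map (algebraMap A (AdicCompletion (maximalIdeal B) B))) ≃+*
      AdicCompletion ((maximalIdeal B).map (Ideal.Quotient.mk ((maximalIdeal A).map (algebraMap A B))))
        (B ⧸ (maximalIdeal A).map (algebraMap A B))) := by
  let J := (maximalIdeal A).map (algebraMap A B)
  exact ⟨(Ideal.quotEquivOfEq (map_eq A B)).trans
    (((Algebra.TensorProduct.quotIdealMapEquivQuotTensor (AdicCompletion (maximalIdeal B) B) J).trans
      (Groth.Agent.Lib.Excellent.CompletionFinite.completionEquiv (maximalIdeal B) (B ⧸ J))).toRingEquiv)⟩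

end Groth.Agent.H24.NodeNormalFormCpl
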