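import Groth.Agent.Lib.H75.REq.Proj
import Groth.Agent.Lib.ProjSpace.BaseChange
import Mathlib.FieldTheory.PurelyInseparable.Basic

/-!
# The complement of a rational point of the projective line, and purely inseparable points
-/

set_option autoImplicit false
set_option linter.style.haveILetI false
universe u

open AlgebraicGeometry CategoryTheory CategoryTheory.Limits MvPolynomial

noncomputable section

namespace Groth.Agent.H24.P1Complement

open Groth.Agent.Lib.ProjSpace Groth.Agent.Lib.H75.REq.Proj

variable (K : Type u) [Field K]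

/-- The chart as a polynomial ring. -/
def ρ (i : Fin 2) : Polynomial K ≃+* Charts.AwayX K i :=
  (MvPolynomial.uniqueAlgEquiv K (Fin 1)).symm.toRingEquiv.trans (Charts.chartEquiv K i)

lemma ρ_C (i : Fin 2) (c : K) : ρ K i (Polynomial.C c) = Charts.constHom K i c := by
  change Charts.chartEquiv K i ((MvPolynomial.uniqueAlgEquiv K (Fin 1)).symm (Polynomial.C c)) = _
  rw [Polynomial.C_eq_algebraMap, AlgEquiv.commutes, MvPolynomial.algebraMap_eq, Charts.chartEquiv_C]

lemma ρ_X (i : Fin 2) : ρ K i Polynomial.X = Charts.coord K i (i.succAbove 0) := by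
  change Charts.chartEquiv K i ((MvPolynomial.uniqueAlgEquiv K (Fin 1)).symm Polynomial.X) = _
  rw [show (MvPolynomial.uniqueAlgEquiv K (Fin 1)).symm Polynomial.X = MvPolynomial.X 0 from
    (AlgEquiv.symm_apply_eq _).2 (by simp [MvPolynomial.uniqueAlgEquiv]), Charts.chartEquiv_X]

/-- The linear form vanishing at the point with coordinate `c` of the chart `i`. -/
def form (i : Fin 2) (c : K) : MvPolynomial (Fin 2) K :=
  X (i.succAbove 0) - C c * X i

lemma isHomogeneous_form (i : Fin 2) (c : K) : (form K i c).IsHomogeneous 1 :=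
  (isHomogeneous_X K _).sub (by simpa using (isHomogeneous_C _ c).mul (isHomogeneous_X K i))

lemma fin_two_cases (i m : Fin 2) : m = i ∨ m = i.succAbove 0 := by
  fin_cases i <;> fin_cases m <;> decide

variable {K}

lemma eq_of_mem {i : Fin 2} {c : K} {x : Ideal (Charts.AwayX K i)} (hx : x ≠ ⊤)
    (h : ρ K i (Polynomial.X - Polynomial.C c) ∈ x) :
    x = Ideal.comap (ρ K i).symm.toRingHom (Ideal.span {Polynomial.X - Polynomial.C c}) := by
  have hm : (Ideal.span {Polynomial.X - Polynomial.C c}).IsMaximal :=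
    PrincipalIdealRing.isMaximal_of_irreducible (Polynomial.irreducible_X_sub_C c)
  haveI : (Ideal.comap (ρ K i).symm.toRingHom (Ideal.span {Polynomial.X - Polynomial.C c})).IsMaximal :=
    Ideal.comap_isMaximal_of_surjective _ (ρ K i).symm.surjective
  refine (Ideal.IsMaximal.eq_of_le ‹_› hx fun a ha => ?_).symm
  obtain ⟨b, hb⟩ := Ideal.mem_span_singleton'.1 (Ideal.mem_comap.1 ha)
  have : a = ρ K i b * ρ K i (Polynomial.X - Polynomial.C c) := by
    rw [← map_mul, hb]; exact ((ρ K i).apply_symm_apply a).symm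
  rw [this]
  exact Ideal.mul_mem_left _ _ h

lemma exists_coord [IsAlgClosed K] {i : Fin 2} (x : Ideal (Charts.AwayX K i)) [x.IsMaximal] :
    ∃ c : K, ρ K i (Polynomial.X - Polynomial.C c) ∈ x := by
  obtain ⟨p, hp⟩ := (IsPrincipalIdealRing.principal (Ideal.comap (ρ K i).toRingHom x)).principal
  rw [← Ideal.span] at hp
  haveI : (Ideal.comap (ρ K i).toRingHom x).IsMaximal :=
    Ideal.comap_isMaximal_of_surjective _ (ρ K i).surjective
  have hp0 : p.degree ≠ 0 := fun h => by
    obtain ⟨a, ha, rfl⟩ : ∃ a : K, a ≠ 0 ∧ Polynomial.C a = p := by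
      refine ⟨p.coeff 0, ?_, (Polynomial.eq_C_of_degree_eq_zero h).symm⟩
      intro h0
      have := Polynomial.eq_C_of_degree_eq_zero h
      rw [h0, map_zero] at this
      rw [this] at h
      simp at h
    exact (Ideal.IsMaximal.ne_top ‹_›) (hp.trans
      (Ideal.span_singleton_eq_top.2 (Polynomial.isUnit_C.2 (Ne.isUnit ha))))
  obtain ⟨c, hc⟩ := IsAlgClosed.exists_root p hp0
  refine ⟨c, ?_⟩
  have hle : Ideal.comap (ρ K i).toRingHom x ≤ Ideal.span {Polynomial.X - Polynomial.C c} := by
    rw [hp]
    exact Ideal.span_singleton_le_span_singleton.2 (Polynomial.dvd_iff_isRoot.2 hc)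
  have heq := Ideal.IsMaximal.eq_of_le ‹_›
    (by rw [ne_eq, Ideal.span_singleton_eq_top]; exact Polynomial.not_isUnit_X_sub_C c) hle
  exact Ideal.mem_comap.1 (heq ▸ Ideal.mem_span_singleton_self _)

/-- The chart immersion. -/
abbrev cι (i : Fin 2) : Spec (CommRingCat.of (Charts.AwayX K i)) ⟶ CohB1.ProjSpace 1 K :=
  Proj.awayι (CohB1.polyGrading 1 K) (X i) (m := 1) (Charts.X_mem_one i) one_pos

lemma cι_preimage_basicOpen (i : Fin 2) (c : K) :
    (cι (K := K) i) ⁻¹ᵁ Proj.basicOpen (CohB1.polyGrading 1 K) (form K i c) =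
      PrimeSpectrum.basicOpen (ρ K i (Polynomial.X - Polynomial.C c)) := by
  have e : HomogeneousLocalization.Away.isLocalizationElem (𝒜 := CohB1.polyGrading 1 K)
      (Charts.X_mem_one i) (isHomogeneous_form K i c) = ρ K i (Polynomial.X - Polynomial.C c) := by
    have h : ((form K i c) ^ 1) ∈ CohB1.polyGrading 1 K (1 • 1) := by
      simpa using (isHomogeneous_form K i c)
    refine (eq_eval₂ (n := 1) (ℓ := (X i : MvPolynomial (Fin 2) K)) (isHomogeneous_X K i) h).trans ?_
    rw [pow_one, map_sub, ρ_X, ρ_C, form, map_sub, map_mul]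
    simp only [eval₂Hom_X', eval₂Hom_C]
    rw [show coordL (n := 1) (isHomogeneous_X K i) i = 1 from Charts.coord_self i]
    exact congrArg₂ (· - ·) rfl (_root_.mul_one _)
  rw [← e]
  exact Proj.awayι_preimage_basicOpen (CohB1.polyGrading 1 K) (Charts.X_mem_one i) one_pos
    (isHomogeneous_form K i c) one_pos

lemma mem_basicOpen_X_of_not_mem_form {i : Fin 2} {c : K} (y : CohB1.ProjSpace 1 K)
    (h : y ∉ Proj.basicOpen (CohB1.polyGrading 1 K) (form K i c)) :
    y ∈ Proj.basicOpen (CohB1.polyGrading 1 K) (X i) := by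
  obtain ⟨m, hm⟩ := TopologicalSpace.Opens.mem_iSup.mp
    ((Basic.iSup_basicOpen_X_eq_top 1 K).ge (trivial : y ∈ (⊤ : (CohB1.ProjSpace 1 K).Opens)))
  rcases fin_two_cases i m with rfl | rfl
  · exact hm
  intro hi
  apply hm
  have hf : form K i c ∈ y.asHomogeneousIdeal.toIdeal := not_not.1 h
  have : (X (i.succAbove 0) : MvPolynomial (Fin 2) K) = form K i c + C c * X i := by
    rw [form]; ring
  rw [this]
  exact Ideal.add_mem _ hf (Ideal.mul_mem_left _ _ hi)

/-- Every closed point of `P¹` over an algebraically closed field is rational and is the only point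
outside some `D₊(ℓ)`. -/
theorem exists_point [IsAlgClosed K] {Q : CohB1.ProjSpace 1 K} (hQ : IsClosed ({Q} : Set (CohB1.ProjSpace 1 K))) :
    ∃ (i : Fin 2) (c : K), (∀ y : CohB1.ProjSpace 1 K,
        y ∈ Proj.basicOpen (CohB1.polyGrading 1 K) (form K i c) ↔ y ≠ Q) ∧
      ∃ g : Spec (CommRingCat.of K) ⟶ CohB1.ProjSpace 1 K,
        g ≫ CohB1.ProjSpace.toSpec 1 K = 𝟙 _ ∧ g (IsLocalRing.closedPoint K) = Q := by
  obtain ⟨i, hi⟩ := TopologicalSpace.Opens.mem_iSup.mp
    ((Basic.iSup_basicOpen_X_eq_top 1 K).ge (trivial : Q ∈ (⊤ : (CohB1.ProjSpace 1 K).Opens)))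
  haveI : IsOpenImmersion (cι (K := K) i) :=
    inferInstanceAs (IsOpenImmersion (Proj.awayι (CohB1.polyGrading 1 K) (X i) (m := 1) (Charts.X_mem_one i) one_pos))
  have hr : ∀ y, y ∈ Set.range (cι (K := K) i) ↔ y ∈ Proj.basicOpen (CohB1.polyGrading 1 K) (X i) := fun y => by
    rw [← Scheme.Hom.coe_opensRange, SetLike.mem_coe]
    exact iff_of_eq (congrArg (y ∈ ·) (Proj.opensRange_awayι _ _ _ _))
  obtain ⟨x, rfl⟩ : Q ∈ Set.range (cι (K := K) i) := (hr Q).2 hi
  have hxc : IsClosed ({x} : Set (PrimeSpectrum (Charts.AwayX K i))) := by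
    have := hQ.preimage (cι (K := K) i).continuous
    rwa [← Set.image_singleton, Set.preimage_image_eq _ (cι (K := K) i).isOpenEmbedding.injective] at this
  haveI := (PrimeSpectrum.isClosed_singleton_iff_isMaximal x).1 hxc
  obtain ⟨c, hc⟩ := exists_coord x.asIdeal
  have hmem : ∀ z : PrimeSpectrum (Charts.AwayX K i),
      (cι (K := K) i) z ∈ Proj.basicOpen (CohB1.polyGrading 1 K) (form K i c) ↔ z ≠ x := by
    intro z
    have : (cι (K := K) i) z ∈ Proj.basicOpen (CohB1.polyGrading 1 K) (form K i c) ↔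
        z ∈ PrimeSpectrum.basicOpen (ρ K i (Polynomial.X - Polynomial.C c)) := by
      rw [← cι_preimage_basicOpen]; rfl
    rw [this, PrimeSpectrum.mem_basicOpen]
    refine ⟨fun h e => h (e ▸ hc), fun h hz => h (PrimeSpectrum.ext ?_)⟩
    exact (eq_of_mem z.isPrime.ne_top hz).trans (eq_of_mem x.isPrime.ne_top hc).symm
  refine ⟨i, c, fun y => ⟨fun hy e => ?_, fun hy => ?_⟩, ?_⟩
  · exact (hmem x).1 (e ▸ hy) rfl
  · by_contra hn
    have := mem_basicOpen_X_of_not_mem_form y hn
    obtain ⟨z, rfl⟩ : y ∈ Set.range (cι (K := K) i) := (hr y).2 this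
    exact hn ((hmem z).2 fun e => hy (e ▸ rfl))
  · let ε : Charts.AwayX K i →+* K := (Polynomial.evalRingHom c).comp (ρ K i).symm.toRingHom
    refine ⟨Spec.map (CommRingCat.ofHom ε) ≫ cι i, ?_, ?_⟩
    · rw [Category.assoc]
      erw [awayι_toSpec (n := 1) (ℓ := (X i : MvPolynomial (Fin 2) K)) (isHomogeneous_X K i)]
      rw [← Spec.map_comp, ← CommRingCat.ofHom_comp]
      have : ε.comp (constL (n := 1) (X i : MvPolynomial (Fin 2) K)) = RingHom.id K := by
        refine RingHom.ext fun a => ?_
        show Polynomial.eval c ((ρ K i).symm (Charts.constHom K i a)) = a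
        rw [← ρ_C, RingEquiv.symm_apply_apply, Polynomial.eval_C]
      rw [this]
      exact Spec.map_id _
    · show (cι (K := K) i) ((Spec.map (CommRingCat.ofHom ε)) (IsLocalRing.closedPoint K)) = (cι (K := K) i) x
      refine congrArg _ (PrimeSpectrum.ext ?_)
      refine (eq_of_mem (PrimeSpectrum.isPrime _).ne_top ?_).trans
        (eq_of_mem x.isPrime.ne_top hc).symm
      show ε _ ∈ IsLocalRing.maximalIdeal K
      have : ε (ρ K i (Polynomial.X - Polynomial.C c)) = 0 := by simp [ε]
      rw [this]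
      exact zero_mem _

/-- `D₊(ℓ)` is the affine line. -/
theorem form_chart (i : Fin 2) (c : K) :
    ∃ ψ : Polynomial K ≃+* AwayL 1 (form K i c),
      ψ.toRingHom.comp Polynomial.C = constL (n := 1) (form K i c) := by
  let hℓ := isHomogeneous_form K i c
  let L := Localization.Away (form K i c)
  let ψ : Polynomial K →+* AwayL 1 (form K i c) :=
    Polynomial.eval₂RingHom (constL (form K i c)) (coordL hℓ i)
  have hj : coordL (n := 1) hℓ (i.succAbove 0) = 1 + constL (form K i c) c * coordL hℓ i := by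
    apply HomogeneousLocalization.val_injective
    rw [HomogeneousLocalization.val_add, HomogeneousLocalization.val_mul, HomogeneousLocalization.val_one,
      val_constL]
    refine ((IsLocalization.Away.algebraMap_isUnit (S := L) (form K i c)).mul_right_injective) ?_
    simp only [mul_add, mul_one, mul_left_comm _ (algebraMap _ _ (C c) : L), algebraMap_mul_val_coordL,
      ← map_mul, ← map_add, L]
    congr 1
    rw [form]; ring
  have hsurj : Function.Surjective ψ := by
    intro a
    obtain ⟨d, p, hp, rfl⟩ := HomogeneousLocalization.Away.mk_surjective (CohB1.polyGrading 1 K) (d := 1) hℓ a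
    rw [eq_eval₂ hℓ hp]
    refine RingHom.mem_range.1 ?_
    clear hp
    induction p using MvPolynomial.induction_on with
    | C r => exact ⟨Polynomial.C r, by simp [ψ]⟩
    | add p q hp hq => rw [map_add]; exact add_mem hp hq
    | mul_X p m hp =>
      rw [map_mul]
      refine mul_mem hp ?_
      rw [eval₂Hom_X']
      rcases fin_two_cases i m with rfl | rfl
      · exact ⟨Polynomial.X, by simp [ψ]⟩
      · exact ⟨1 + Polynomial.C c * Polynomial.X, by simp [ψ, hj]⟩
  let g : MvPolynomial (Fin 2) K →+* Polynomial K :=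
    eval₂Hom Polynomial.C fun m => if m = i then Polynomial.X else 1 + Polynomial.C c * Polynomial.X
  have hg : g (form K i c) = 1 := by
    simp [g, form, Fin.succAbove_ne]
  let φ : AwayL 1 (form K i c) →+* Polynomial K :=
    (IsLocalization.Away.lift (S := L) (form K i c) (g := g) (by rw [hg]; exact isUnit_one)).comp
      (algebraMap _ L)
  have hφ : φ.comp ψ = RingHom.id _ := by
    refine Polynomial.ringHom_ext (fun r => ?_) ?_
    · simp only [φ, ψ, RingHom.comp_apply, Polynomial.coe_eval₂RingHom, Polynomial.eval₂_C,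
        HomogeneousLocalization.algebraMap_apply, val_constL, IsLocalization.Away.lift_eq, L]
      simp [g]
    · have e := congrArg (IsLocalization.Away.lift (S := L) (form K i c) (g := g)
        (by rw [hg]; exact isUnit_one)) (algebraMap_mul_val_coordL hℓ i)
      simp only [map_mul, IsLocalization.Away.lift_eq, hg, one_mul, L] at e
      simp only [φ, ψ, RingHom.comp_apply, Polynomial.coe_eval₂RingHom, Polynomial.eval₂_X,
        HomogeneousLocalization.algebraMap_apply, RingHom.id_apply]
      refine e.trans ?_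
      simp [g]
  have hinj : Function.Injective ψ := fun a b h => by
    have := congrArg φ h
    rwa [← RingHom.comp_apply, ← RingHom.comp_apply, hφ] at this
  exact ⟨RingEquiv.ofBijective ψ ⟨hinj, hsurj⟩, RingHom.ext fun r =>
    Polynomial.eval₂_C (constL (form K i c)) (coordL hℓ i)⟩

/-- Two embeddings of a purely inseparable extension of a common subfield into a field agree. -/
theorem eq_of_isPurelyInseparable {F E : Type u} [Field F] [Field E] [Algebra F E]
    [IsPurelyInseparable F E] (e₁ e₂ : E →+* K)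
    (h : e₁.comp (algebraMap F E) = e₂.comp (algebraMap F E)) : e₁ = e₂ := by
  obtain ⟨q, hq⟩ := ExpChar.exists F
  haveI : ExpChar K q := expChar_of_injective_ringHom (e₁.comp (algebraMap F E)).injective q
  refine RingHom.ext fun x => ?_
  obtain ⟨n, y, hy⟩ := IsPurelyInseparable.pow_mem F q x
  refine iterateFrobenius_inj K q n ?_
  simp only [iterateFrobenius_def, ← map_pow, ← hy]
  exact DFunLike.congr_fun h y

end Groth.Agent.H24.P1Complement
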