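import Groth.Prelude.Def_W4c5spincurvestfNode
import Mathlib.Algebra.Polynomial.Laurent
import Mathlib.Algebra.Polynomial.Inductions
import Mathlib.RingTheory.MvPolynomial.Basic

/-!
# Normal forms in `R[x, y]/(xy - π)` and twisted sections on the two-chart blow-up of a node
-/

set_option autoImplicit false

universe u

open Polynomial

namespace Groth.Agent.H24.PolyNode

variable {R : Type u} [CommRing R]

noncomputable section

local notation "L" => LaurentPolynomial R
local notation "T" => LaurentPolynomial.T (R := R)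
local notation "Lau" => LaurentPolynomial.C (R := R)

theorem coeff_toLaurent_nat (F : R[X]) (n : ℕ) : (toLaurent F).coeff (n : ℤ) = F.coeff n := by
  rw [LaurentPolynomial.coeff_toLaurent]
  exact Finsupp.mapDomain_apply (Nat.castEmbedding : ℕ ↪ ℤ).injective _ n

theorem coeff_toLaurent_neg (F : R[X]) {e : ℤ} (he : e < 0) : (toLaurent F).coeff e = 0 := by
  rw [LaurentPolynomial.coeff_toLaurent]
  refine Finsupp.mapDomain_of_notMem_range (f := (Nat.castEmbedding : ℕ ↪ ℤ)) _ _ fun ⟨n, hn⟩ => ?_
  simp at hn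
  omega

theorem split (A C' : R[X]) (m : ℕ) (n : ℤ) (hn : n < m)
    (h : toLaurent (X ^ m * A) = T n * LaurentPolynomial.invert (toLaurent C')) :
    A = 0 ∧ C' = 0 := by
  obtain ⟨k, hk⟩ : ∃ k : ℕ, (m : ℤ) - n = (k + 1 : ℕ) := ⟨((m : ℤ) - n - 1).toNat, by omega⟩
  have h' : toLaurent (X ^ (k + 1) * A) = LaurentPolynomial.invert (toLaurent C') := by
    rw [map_mul, toLaurent_X_pow, ← hk, sub_eq_neg_add, LaurentPolynomial.T_add, mul_assoc,
      ← toLaurent_X_pow, ← map_mul, h, ← mul_assoc, ← LaurentPolynomial.T_add,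
      neg_add_cancel, LaurentPolynomial.T_zero, one_mul]
  have hz : toLaurent (X ^ (k + 1) * A) = 0 := by
    refine LaurentPolynomial.ext fun e => ?_
    rcases lt_trichotomy e 0 with he | he | he
    · rw [coeff_toLaurent_neg _ he]; rfl
    · subst he
      rw [← Int.ofNat_zero, coeff_toLaurent_nat, coeff_X_pow_mul', if_neg (by omega)]
      rfl
    · rw [h', LaurentPolynomial.invert_apply, coeff_toLaurent_neg _ (by omega : -e < 0)]; rfl
  refine ⟨?_, ?_⟩
  · rw [toLaurent_eq_zero] at hz
    ext i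
    have := congrArg (fun P => Polynomial.coeff P (i + (k + 1))) hz
    simpa [coeff_X_pow_mul] using this
  · have h2 := h'.symm.trans hz
    rwa [EmbeddingLike.map_eq_zero_iff, toLaurent_eq_zero] at h2

theorem aeval_T_one (A : R[X]) : aeval (T 1) A = toLaurent A := by
  rw [← toLaurentAlg_apply]
  exact DFunLike.congr_fun (Polynomial.algHom_ext (f := aeval (T 1)) (g := toLaurentAlg)
    (by simp)) A

theorem aeval_C_mul_T_neg (c : R) (B : R[X]) :
    aeval (Lau c * T (-1)) B = LaurentPolynomial.invert (toLaurent (B.comp (C c * X))) := by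
  have h : (aeval (Lau c * T (-1)) : R[X] →ₐ[R] L) =
      ((LaurentPolynomial.invert : L ≃ₐ[R] L).toAlgHom.comp toLaurentAlg).comp
        (aeval (C c * X : R[X])) := by
    refine Polynomial.algHom_ext ?_
    rw [aeval_X, AlgHom.comp_apply, AlgHom.comp_apply, aeval_X, toLaurentAlg_apply, map_mul,
      toLaurent_C, toLaurent_X]
    show _ = LaurentPolynomial.invert _
    rw [map_mul, LaurentPolynomial.invert_C, LaurentPolynomial.invert_T]
  rw [h, AlgHom.comp_apply, AlgHom.comp_apply, comp_eq_aeval]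
  rfl

variable (R)

/-- `(A, B) ↦ A(x) + y B(y)`. -/
def nf (π : R) : (R[X] × R[X]) →ₗ[R] SpinCurv.PolyNodeRing R π :=
  (aeval (SpinCurv.PolyNodeRing.x R π)).toLinearMap.comp (LinearMap.fst R R[X] R[X]) +
    ((LinearMap.mulLeft R (SpinCurv.PolyNodeRing.y R π)).comp
      (aeval (SpinCurv.PolyNodeRing.y R π)).toLinearMap).comp (LinearMap.snd R R[X] R[X])

theorem nf_apply (π : R) (A B : R[X]) :
    nf R π (A, B) = aeval (SpinCurv.PolyNodeRing.x R π) A +
      SpinCurv.PolyNodeRing.y R π * aeval (SpinCurv.PolyNodeRing.y R π) B := rfl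

theorem x_mul_y (π : R) : SpinCurv.PolyNodeRing.x R π * SpinCurv.PolyNodeRing.y R π =
    algebraMap R _ π := by
  rw [← map_mul]
  exact Ideal.Quotient.eq.2 (Ideal.mem_span_singleton_self _)

theorem aeval_split {S : Type u} [CommRing S] [Algebra R S] (z : S) (B : R[X]) :
    aeval z B = z * aeval z B.divX + algebraMap R S (B.coeff 0) := by
  conv_lhs => rw [← X_mul_divX_add B]
  rw [map_add, map_mul, aeval_X, aeval_C]

theorem x_mul_nf (π : R) (A B : R[X]) : SpinCurv.PolyNodeRing.x R π * nf R π (A, B) =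
    nf R π (X * A + C (π * B.coeff 0), C π * B.divX) := by
  simp only [nf_apply, map_add, map_mul, aeval_X, aeval_C]
  rw [aeval_split R (SpinCurv.PolyNodeRing.y R π) B, mul_add, ← mul_assoc, x_mul_y]
  ring

theorem y_mul_nf (π : R) (A B : R[X]) : SpinCurv.PolyNodeRing.y R π * nf R π (A, B) =
    nf R π (C π * A.divX, C (A.coeff 0) + X * B) := by
  simp only [nf_apply, map_add, map_mul, aeval_X, aeval_C]
  rw [aeval_split R (SpinCurv.PolyNodeRing.x R π) A, ← x_mul_y]
  ring

/-- An `R`-submodule of a module over `R[x, y]/(xy - π)` stable under `x` and `y` is stable under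
every element. -/
theorem smul_mem_of_stable {π : R} {M : Type u} [AddCommGroup M] [Module R M]
    [Module (SpinCurv.PolyNodeRing R π) M] [IsScalarTower R (SpinCurv.PolyNodeRing R π) M]
    (W : Submodule R M) (hx : ∀ w ∈ W, SpinCurv.PolyNodeRing.x R π • w ∈ W)
    (hy : ∀ w ∈ W, SpinCurv.PolyNodeRing.y R π • w ∈ W) (a : SpinCurv.PolyNodeRing R π) :
    ∀ w ∈ W, a • w ∈ W := by
  obtain ⟨a, rfl⟩ := Ideal.Quotient.mk_surjective a
  induction a using MvPolynomial.induction_on with
  | C r =>
    intro w hw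
    rw [show Ideal.Quotient.mk _ (MvPolynomial.C r) = algebraMap R (SpinCurv.PolyNodeRing R π) r
      from rfl, algebraMap_smul]
    exact W.smul_mem r hw
  | add f g hf hg =>
    intro w hw
    rw [map_add, add_smul]
    exact add_mem (hf w hw) (hg w hw)
  | mul_X f i hf =>
    intro w hw
    rw [map_mul, mul_smul]
    refine hf _ ?_
    fin_cases i
    · exact hx w hw
    · exact hy w hw

theorem nf_surjective (π : R) : Function.Surjective (nf R π) := by
  intro z
  have h := smul_mem_of_stable R (LinearMap.range (nf R π))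
    (fun w ⟨⟨A, B⟩, hAB⟩ => ⟨_, (x_mul_nf R π A B).symm.trans (by rw [hAB, smul_eq_mul])⟩)
    (fun w ⟨⟨A, B⟩, hAB⟩ => ⟨_, (y_mul_nf R π A B).symm.trans (by rw [hAB, smul_eq_mul])⟩)
    z 1 ⟨(1, 0), by rw [nf_apply, map_one, map_zero, mul_zero, add_zero]⟩
  rwa [smul_eq_mul, mul_one] at h

variable {R}

/-- The value of a normal form on the chart overlap. -/
theorem hom_nf (π : R) (g : SpinCurv.PolyNodeRing R π →ₐ[R] L)
    (hx : g (SpinCurv.PolyNodeRing.x R π) = T 1)
    (hy : g (SpinCurv.PolyNodeRing.y R π) = Lau π * T (-1)) (A B : R[X]) :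
    g (nf R π (A, B)) = toLaurent A + Lau π * T (-1) *
      LaurentPolynomial.invert (toLaurent (B.comp (C π * X))) := by
  rw [nf_apply, map_add, map_mul, ← aeval_algHom_apply, ← aeval_algHom_apply, hx, hy, aeval_T_one,
    aeval_C_mul_T_neg]

/-- The value of a normal form on the chart overlap, variables exchanged. -/
theorem hom_nf' (π : R) (g : SpinCurv.PolyNodeRing R π →ₐ[R] L)
    (hx : g (SpinCurv.PolyNodeRing.x R π) = T (-1))
    (hy : g (SpinCurv.PolyNodeRing.y R π) = Lau π * T 1) (A B : R[X]) :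
    g (nf R π (A, B)) = LaurentPolynomial.invert (toLaurent A) + Lau π * T 1 *
      toLaurent (B.comp (C π * X)) := by
  have h1 : aeval (T (-1)) A = LaurentPolynomial.invert (toLaurent A) := by
    have := aeval_C_mul_T_neg (R := R) 1 A
    rwa [map_one, one_mul, map_one, one_mul, comp_X] at this
  have h2 : aeval (Lau π * T 1) B = toLaurent (B.comp (C π * X)) := by
    rw [comp_eq_aeval, ← toLaurentAlg_apply, ← aeval_algHom_apply, toLaurentAlg_apply, map_mul,
      toLaurent_X, toLaurent_C]
  rw [nf_apply, map_add, map_mul, ← aeval_algHom_apply, ← aeval_algHom_apply, hx, hy, h1, h2]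

/-- The chart map `x ↦ a`, `y ↦ b`. -/
def chart (π : R) (a b : L) (h : a * b = Lau π) : SpinCurv.PolyNodeRing R π →ₐ[R] L :=
  Ideal.Quotient.liftₐ _ (MvPolynomial.aeval ![a, b]) fun f hf => by
    obtain ⟨g, rfl⟩ := Ideal.mem_span_singleton'.1 hf
    rw [map_mul, map_sub, map_mul, MvPolynomial.aeval_X, MvPolynomial.aeval_X, MvPolynomial.aeval_C]
    show _ * (a * b - _) = 0
    rw [h, ← LaurentPolynomial.C_eq_algebraMap, sub_self, mul_zero]

theorem chart_x (π : R) (a b : L) (h : a * b = Lau π) :
    chart π a b h (SpinCurv.PolyNodeRing.x R π) = a := MvPolynomial.aeval_X _ _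

theorem chart_y (π : R) (a b : L) (h : a * b = Lau π) :
    chart π a b h (SpinCurv.PolyNodeRing.y R π) = b := MvPolynomial.aeval_X _ _

theorem nf_injective (π : R) : Function.Injective (nf R π) := by
  rw [injective_iff_map_eq_zero]
  rintro ⟨A, B⟩ h
  have ha := hom_nf π (chart π (T 1) (Lau π * T (-1))
    (by rw [mul_left_comm, ← LaurentPolynomial.T_add, add_neg_cancel, LaurentPolynomial.T_zero,
      mul_one]))
    (chart_x _ _ _ _) (chart_y _ _ _ _) A B
  rw [h, map_zero] at ha
  have hA : A = 0 := by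
    refine (split A (-(C π * B.comp (C π * X))) 0 (-1) (by norm_num) ?_).1
    rw [pow_zero, one_mul, map_neg, map_neg, map_mul, map_mul, toLaurent_C,
      LaurentPolynomial.invert_C]
    linear_combination (norm := ring_nf) -ha
  subst hA
  -- exchange the roles of the two variables
  let sw : SpinCurv.PolyNodeRing R π →ₐ[R] L :=
    chart π (Lau π * T (-1)) (T 1) (by rw [mul_assoc, ← LaurentPolynomial.T_add, neg_add_cancel,
      LaurentPolynomial.T_zero, mul_one])
  have hs : sw (nf R π (0, B)) = T 1 * toLaurent B := by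
    rw [nf_apply, map_zero, zero_add, map_mul, ← aeval_algHom_apply,
      show sw (SpinCurv.PolyNodeRing.y R π) = T 1 from chart_y _ _ _ _, aeval_T_one]
  rw [h, map_zero] at hs
  have := (split B (0 : R[X]) 1 0 (by norm_num) (by
    rw [pow_one, map_mul, toLaurent_X, ← hs, map_zero, map_zero, mul_zero])).1
  rw [this]; rfl

end

end Groth.Agent.H24.PolyNode
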