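import Groth.Agent.H24.PolyNode
import Mathlib.RingTheory.Polynomial.Basic

/-!
# Global sections of the twisting sheaves on the blown-up node
-/

set_option autoImplicit false

universe u

open Polynomial

namespace Groth.Agent.H24.PolyNode

variable {R : Type u} [CommRing R]

noncomputable section

local notation "L" => LaurentPolynomial R
local notation "T" => LaurentPolynomial.T (R := R)
local notation "Lau" => LaurentPolynomial.C (R := R)

/-- The polynomial with prescribed first `m` coefficients. -/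
def low {m : ℕ} (a : Fin m → R) : R[X] := ∑ i : Fin m, monomial (i : ℕ) (a i)

theorem low_coeff {m : ℕ} (a : Fin m → R) (i : Fin m) : (low a).coeff i = a i := by
  rw [low, finsetSum_coeff, Finset.sum_eq_single i]
  · rw [coeff_monomial, if_pos rfl]
  · intro j _ hj
    rw [coeff_monomial, if_neg (fun h => hj (Fin.ext h))]
  · simp

theorem toLaurent_monomial {n : ℕ} {r : R} : toLaurent (monomial n r) = Lau r * T (n : ℤ) := by
  rw [← C_mul_X_pow_eq_monomial, toLaurent_C_mul_X_pow]

theorem low_rev {m : ℕ} (a : Fin m → R) :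
    T ((m : ℤ) - 1) * LaurentPolynomial.invert (toLaurent (low fun i => a i.rev)) =
      toLaurent (low a) := by
  simp only [low, map_sum, Finset.mul_sum]
  refine Fintype.sum_equiv Fin.revPerm _ _ fun i => ?_
  have hi := i.2
  rw [Fin.revPerm_apply, toLaurent_monomial, toLaurent_monomial, map_mul,
    LaurentPolynomial.invert_C, LaurentPolynomial.invert_T, mul_left_comm,
    ← LaurentPolynomial.T_add]
  congr 2
  rw [Fin.val_rev]
  omega
/-- The parametrization of the pairs `(g, f)` with `g = sᵐ⁻¹ f` on the overlap. -/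
def sect (p q : R) {m : ℕ} (a : Fin m → R) (B D : R[X]) :
    SpinCurv.PolyNodeRing R q × SpinCurv.PolyNodeRing R p :=
  (nf R q (low a + X ^ m * (C p * D.comp (C p * X)), B),
   nf R p (low (fun i => a i.rev) + X ^ m * (C q * B.comp (C q * X)), D))

theorem sect_mem {p q : R} (gU : SpinCurv.PolyNodeRing R q →ₐ[R] L)
    (hgUs : gU (SpinCurv.PolyNodeRing.x R q) = T 1)
    (hgUy : gU (SpinCurv.PolyNodeRing.y R q) = Lau q * T (-1))
    (gV : SpinCurv.PolyNodeRing R p →ₐ[R] L)
    (hgVt : gV (SpinCurv.PolyNodeRing.x R p) = T (-1))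
    (hgVx : gV (SpinCurv.PolyNodeRing.y R p) = Lau p * T 1) {m : ℕ} (a : Fin m → R) (B D : R[X]) :
    gU (sect p q a B D).1 = T ((m : ℤ) - 1) * gV (sect p q a B D).2 := by
  simp only [sect, hom_nf q gU hgUs hgUy, hom_nf' p gV hgVt hgVx]
  simp only [map_add, map_mul, toLaurent_X_pow, toLaurent_C, LaurentPolynomial.invert_C,
    LaurentPolynomial.invert_T, mul_add]
  rw [← low_rev a]
  have h1 : T ((m : ℤ) - 1) * T 1 = T (m : ℤ) := by
    rw [← LaurentPolynomial.T_add, sub_add_cancel]
  have h2 : T ((m : ℤ) - 1) * T (-(m : ℤ)) = T (-1) := by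
    rw [← LaurentPolynomial.T_add]; congr 1; ring
  linear_combination (-(Lau p * toLaurent (D.comp (C p * X)))) * h1 -
    (Lau q * LaurentPolynomial.invert (toLaurent (B.comp (C q * X)))) * h2

theorem sect_eq_zero {p q : R} {m : ℕ} (a : Fin m → R) (B D : R[X]) (h : sect p q a B D = 0) :
    a = 0 ∧ B = 0 ∧ D = 0 := by
  unfold sect at h
  rw [Prod.mk_eq_zero, map_eq_zero_iff _ (nf_injective q),
    map_eq_zero_iff _ (nf_injective p), Prod.mk_eq_zero, Prod.mk_eq_zero] at h
  obtain ⟨⟨ha, hB⟩, -, hD⟩ := h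
  refine ⟨funext fun i => ?_, hB, hD⟩
  have h := congrArg (fun P => Polynomial.coeff P i) ha
  simpa [low_coeff, hD] using h

theorem exists_sect {p q : R} (gU : SpinCurv.PolyNodeRing R q →ₐ[R] L)
    (hgUs : gU (SpinCurv.PolyNodeRing.x R q) = T 1)
    (hgUy : gU (SpinCurv.PolyNodeRing.y R q) = Lau q * T (-1))
    (gV : SpinCurv.PolyNodeRing R p →ₐ[R] L)
    (hgVt : gV (SpinCurv.PolyNodeRing.x R p) = T (-1))
    (hgVx : gV (SpinCurv.PolyNodeRing.y R p) = Lau p * T 1) {m : ℕ} (g : SpinCurv.PolyNodeRing R q) (f : SpinCurv.PolyNodeRing R p)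
    (h : gU g = T ((m : ℤ) - 1) * gV f) :
    ∃ (a : Fin m → R) (B D : R[X]), sect p q a B D = (g, f) := by
  obtain ⟨⟨A, B⟩, rfl⟩ := nf_surjective R q g
  obtain ⟨⟨C', D⟩, rfl⟩ := nf_surjective R p f
  let a : Fin m → R := fun i => A.coeff i
  refine ⟨a, B, D, ?_⟩
  let A₀ := low a + X ^ m * (C p * D.comp (C p * X))
  let C₀ := low (fun i => a i.rev) + X ^ m * (C q * B.comp (C q * X))
  have hs := sect_mem gU hgUs hgUy gV hgVt hgVx a B D
  obtain ⟨A', hA'⟩ : X ^ m ∣ A - A₀ := by
    rw [X_pow_dvd_iff]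
    intro d hd
    have hd' := low_coeff a ⟨d, hd⟩
    simp only [A₀, coeff_sub, coeff_add, coeff_X_pow_mul', if_neg (not_le.2 hd), add_zero]
    exact sub_eq_zero.2 hd'.symm
  have key : toLaurent (X ^ m * A') =
      T ((m : ℤ) - 1) * LaurentPolynomial.invert (toLaurent (C' - C₀)) := by
    rw [← hA']
    simp only [sect, hom_nf q gU hgUs hgUy, hom_nf' p gV hgVt hgVx] at hs
    rw [hom_nf q gU hgUs hgUy, hom_nf' p gV hgVt hgVx] at h
    simp only [A₀, C₀, map_sub]
    linear_combination h - hs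
  obtain ⟨hA, hC⟩ := split A' (C' - C₀) m ((m : ℤ) - 1) (by omega) key
  rw [hA, mul_zero, sub_eq_zero] at hA'
  rw [sub_eq_zero] at hC
  unfold sect
  rw [hA', hC]

end

end Groth.Agent.H24.PolyNode
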