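import Groth.Agent.Lib.SemiLocalDimOne.KrullAkizuki
import Groth.Agent.H46.Dvr

/-!
# Length of `M/xM` for a submodule `M` of `Kʳ` over a one-dimensional Noetherian domain
-/

set_option autoImplicit false
set_option linter.style.haveILetI false

universe u v w

open Pointwise

namespace Groth.Agent.H24.RankLength

variable {R : Type u} [CommRing R]

theorem span_smul_top {M : Type v} [AddCommGroup M] [Module R M] (x : R) {m : M}
    (hm : m ∈ Ideal.span {x} • (⊤ : Submodule R M)) : ∃ m', x • m' = m := by
  rw [Submodule.ideal_span_singleton_smul] at hm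
  obtain ⟨m', -, rfl⟩ := (Submodule.mem_smul_pointwise_iff_exists _ _ _).1 hm
  exact ⟨m', rfl⟩

theorem smul_mem {M : Type v} [AddCommGroup M] [Module R M] (x : R) (m : M) :
    x • m ∈ Ideal.span {x} • (⊤ : Submodule R M) :=
  Submodule.smul_mem_smul (Ideal.mem_span_singleton_self x) trivial

/-- The map on `M/xM`. -/
def quotMap {M : Type v} {N : Type w} [AddCommGroup M] [Module R M] [AddCommGroup N] [Module R N]
    (x : R) (f : M →ₗ[R] N) :
    (M ⧸ Ideal.span {x} • (⊤ : Submodule R M)) →ₗ[R] N ⧸ Ideal.span {x} • (⊤ : Submodule R N) :=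
  Submodule.mapQ _ _ f (by
    rw [← Submodule.map_le_iff_le_comap, Submodule.map_smul'']
    exact Submodule.smul_mono le_rfl le_top)

theorem length_le_add {M' M M'' : Type v} [AddCommGroup M'] [Module R M'] [AddCommGroup M]
    [Module R M] [AddCommGroup M''] [Module R M''] (x : R) (f : M' →ₗ[R] M) (g : M →ₗ[R] M'')
    (hg : Function.Surjective g) (hfg : Function.Exact f g) :
    Module.length R (M ⧸ Ideal.span {x} • (⊤ : Submodule R M)) ≤
      Module.length R (M' ⧸ Ideal.span {x} • (⊤ : Submodule R M')) +
        Module.length R (M'' ⧸ Ideal.span {x} • (⊤ : Submodule R M'')) := by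
  let a := quotMap x f
  let b := quotMap x g
  have hb : Function.Surjective b := fun y => by
    obtain ⟨y, rfl⟩ := Submodule.Quotient.mk_surjective _ y
    obtain ⟨m, rfl⟩ := hg y
    exact ⟨Submodule.Quotient.mk m, rfl⟩
  have hex : Function.Exact (LinearMap.range a).subtype b := by
    rw [LinearMap.exact_iff, Submodule.range_subtype]
    refine le_antisymm (fun y hy => ?_) ?_
    · obtain ⟨y, rfl⟩ := Submodule.Quotient.mk_surjective _ y
      obtain ⟨z, hz⟩ := span_smul_top x ((Submodule.Quotient.mk_eq_zero _).1 (LinearMap.mem_ker.1 hy))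
      obtain ⟨m, rfl⟩ := hg z
      obtain ⟨n, hn⟩ := (hfg (y - x • m)).1 (by rw [map_sub, map_smul, hz, sub_self])
      refine ⟨Submodule.Quotient.mk n, ?_⟩
      show Submodule.Quotient.mk (f n) = _
      rw [Submodule.Quotient.eq, hn, sub_sub_cancel_left]
      exact neg_mem (smul_mem x m)
    · rintro _ ⟨z, rfl⟩
      obtain ⟨z, rfl⟩ := Submodule.Quotient.mk_surjective _ z
      show Submodule.Quotient.mk (g (f z)) = 0
      rw [hfg.apply_apply_eq_zero]
      rfl
  rw [Module.length_eq_add_of_exact (LinearMap.range a).subtype b Subtype.val_injective hb hex]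
  exact add_le_add (Module.length_le_of_surjective a.rangeRestrict a.surjective_rangeRestrict) le_rfl

variable [IsDomain R] [IsNoetherianRing R] [Ring.KrullDimLE 1 R]

theorem length_ideal_le (I : Ideal R) {x : R} (hx : x ≠ 0) :
    Module.length R (I ⧸ Ideal.span {x} • (⊤ : Submodule R I)) ≤ Ring.ord R x := by
  rcases eq_or_ne I ⊥ with rfl | hI
  · haveI : Subsingleton ((⊥ : Ideal R) ⧸ Ideal.span {x} • (⊤ : Submodule R (⊥ : Ideal R))) :=
      Function.Surjective.subsingleton (Submodule.Quotient.mk_surjective _)
    rw [Module.length_eq_zero]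
    exact bot_le
  have hfin : Module.length R (R ⧸ I) ≠ ⊤ := by
    rw [Module.length_quotient]
    exact Groth.Agent.Lib.SemiLocalDimOne.KrullAkizuki.coheight_ne_top hI
  refine le_trans (Module.length_le_of_surjective
    (Submodule.factor (p := Submodule.comap I.subtype (x • I)) (fun z hz => ?_))
    (Submodule.factor_surjective _))
    (Groth.Agent.H46.Dvr.length_quotient_smul_le I x hx hfin)
  obtain ⟨y, hy, hyz⟩ := (Submodule.mem_smul_pointwise_iff_exists _ _ _).1 hz
  have : z = x • (⟨y, hy⟩ : I) := Subtype.ext hyz.symm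
  rw [this]
  exact smul_mem x _

variable {K : Type v} [Field K] [Algebra R K] [IsFractionRing R K]

theorem length_le_ord_of_fg (N : Submodule R K) (hN : N.FG) {x : R} (hx : x ≠ 0) :
    Module.length R (N ⧸ Ideal.span {x} • (⊤ : Submodule R N)) ≤ Ring.ord R x := by
  classical
  obtain ⟨t, rfl⟩ := hN
  obtain ⟨c, hc⟩ := IsLocalization.exist_integer_multiples_of_finset (nonZeroDivisors R) t
  let j : R →ₗ[R] K := Algebra.linearMap R K
  have hj : Function.Injective j := IsFractionRing.injective R K
  let m := LinearMap.lsmul R K (c : R)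
  have hm : Function.Injective m := fun a b h => by
    simp only [m, LinearMap.lsmul_apply, Algebra.smul_def] at h
    exact mul_left_cancel₀
      ((map_ne_zero_iff _ (IsFractionRing.injective R K)).2 (nonZeroDivisors.ne_zero c.2)) h
  let N := Submodule.span R (t : Set K)
  have hle : N.map m ≤ LinearMap.range j := by
    rw [Submodule.map_span, Submodule.span_le]
    rintro _ ⟨z, hz, rfl⟩
    obtain ⟨r, hr⟩ := hc z hz
    exact ⟨r, hr⟩
  let I : Ideal R := (N.map m).comap j
  have e1 : Submodule.map j I = N.map m := Submodule.map_comap_eq_self hle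
  let e : N ≃ₗ[R] I :=
    (Submodule.equivMapOfInjective m hm N).trans
      ((LinearEquiv.ofEq _ _ e1.symm).trans (Submodule.equivMapOfInjective j hj I).symm)
  refine le_trans (LinearEquiv.length_eq (Submodule.Quotient.equiv _ _ e ?_)).le (length_ideal_le I hx)
  rw [Submodule.map_smul'', Submodule.map_top, LinearMap.range_eq_top.2 e.surjective]

theorem length_le_ord (N : Submodule R K) {x : R} (hx : x ≠ 0) :
    Module.length R (N ⧸ Ideal.span {x} • (⊤ : Submodule R N)) ≤ Ring.ord R x := by
  classical
  let Q := N ⧸ Ideal.span {x} • (⊤ : Submodule R N)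
  obtain ⟨n, hn⟩ := ENat.ne_top_iff_exists.1 (Ring.ord_ne_top (mem_nonZeroDivisors_of_ne_zero hx))
  have hfg : ∀ P : Submodule R Q, P.FG → ∃ N' : Submodule R K, N'.FG ∧
      ∃ f : (N' ⧸ Ideal.span {x} • (⊤ : Submodule R N')) →ₗ[R] Q, P ≤ LinearMap.range f := by
    rintro P ⟨s, rfl⟩
    choose g hg using fun q : Q => Submodule.Quotient.mk_surjective _ q
    let N' := Submodule.span R (↑(s.image fun q => (g q : K)) : Set K)
    have hle : N' ≤ N := Submodule.span_le.2 fun z hz => by
      obtain ⟨q, -, rfl⟩ := Finset.mem_image.1 (Finset.mem_coe.1 hz)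
      exact (g q).2
    refine ⟨N', ⟨_, rfl⟩, quotMap x (Submodule.inclusion hle), Submodule.span_le.2 fun q hq => ?_⟩
    exact ⟨Submodule.Quotient.mk ⟨g q, Submodule.subset_span (Finset.mem_coe.2
      (Finset.mem_image_of_mem _ hq))⟩, hg q⟩
  have hlen : ∀ P : Submodule R Q, P.FG → Module.length R P ≤ Ring.ord R x := by
    intro P hP
    obtain ⟨N', hN', f, hf⟩ := hfg P hP
    refine (Module.length_le_of_injective (Submodule.inclusion hf) (Submodule.inclusion_injective hf)).trans ?_
    exact (Module.length_le_of_surjective f.rangeRestrict f.surjective_rangeRestrict).trans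
      (length_le_ord_of_fg N' hN' hx)
  haveI : Module.Finite R Q := Groth.Agent.H46.Dvr.finite_of_forall_length_le n fun P hP => by
    rw [hn]; exact hlen P hP
  have := hlen ⊤ Module.Finite.fg_top
  rwa [Submodule.topEquiv.length_eq] at this

/-- Krull–Akizuki. -/
theorem length_le : ∀ (r : ℕ) (M : Submodule R (Fin r → K)) {x : R}, x ≠ 0 →
    Module.length R (M ⧸ Ideal.span {x} • (⊤ : Submodule R M)) ≤ r * Ring.ord R x
  | 0, M, x, _ => by
    haveI : Subsingleton (M ⧸ Ideal.span {x} • (⊤ : Submodule R M)) :=
      Function.Surjective.subsingleton (Submodule.Quotient.mk_surjective _)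
    rw [Module.length_eq_zero]
    exact bot_le
  | r + 1, M, x, hx => by
    let tl : (Fin r → K) →ₗ[R] Fin (r + 1) → K :=
      { toFun := fun v => Fin.cons 0 v
        map_add' := fun v w => funext fun i => by cases i using Fin.cases <;> simp
        map_smul' := fun c v => funext fun i => by cases i using Fin.cases <;> simp }
    let p : (Fin (r + 1) → K) →ₗ[R] K := LinearMap.proj 0
    let M' := M.comap tl
    let f : M' →ₗ[R] M := tl.restrict fun v hv => hv
    let g : M →ₗ[R] M.map p := p.restrict fun v hv => Submodule.mem_map_of_mem hv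
    have hg : Function.Surjective g := by
      rintro ⟨_, v, hv, rfl⟩
      exact ⟨⟨v, hv⟩, rfl⟩
    have hfg : Function.Exact f g := by
      intro v
      constructor
      · intro h
        have h0 : (v : Fin (r + 1) → K) 0 = 0 := congrArg Subtype.val h
        have htl : tl (fun i => (v : Fin (r + 1) → K) i.succ) = v := funext fun i => by
          cases i using Fin.cases <;> simp [tl, h0]
        exact ⟨⟨fun i => (v : Fin (r + 1) → K) i.succ, show tl _ ∈ M by rw [htl]; exact v.2⟩,
          Subtype.ext htl⟩
      · rintro ⟨w, rfl⟩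
        exact Subtype.ext (show (Fin.cons 0 (w : Fin r → K) : Fin (r + 1) → K) 0 = 0 from rfl)
    refine le_trans (length_le_add.{u, v} x f g hg hfg) ?_
    push_cast
    rw [add_mul, one_mul]
    exact add_le_add (length_le r M' hx) (length_le_ord _ hx)

theorem length_ne_top (r : ℕ) (M : Submodule R (Fin r → K)) {x : R} (hx : x ≠ 0) :
    Module.length R (M ⧸ Ideal.span {x} • (⊤ : Submodule R M)) ≠ ⊤ :=
  ne_top_of_le_ne_top (WithTop.mul_ne_top (ENat.coe_ne_top r)
    (Ring.ord_ne_top (mem_nonZeroDivisors_of_ne_zero hx))) (length_le r M hx)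

end Groth.Agent.H24.RankLength
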