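import Groth.Agent.Lib.Smoothing.AwayQuot
import Mathlib.RingTheory.Smooth.StandardSmooth
import Mathlib.RingTheory.Kaehler.Basic
import Mathlib.RingTheory.FiniteType
import Mathlib.LinearAlgebra.Dual.Lemmas
import Mathlib.RingTheory.LocalRing.ResidueField.Ideal

/-!
# Local closed embeddings into standard smooth algebras of minimal relative dimension
-/

set_option autoImplicit false
set_option linter.style.haveILetI false

universe u

open MvPolynomial TensorProduct
open Groth.Agent.Lib.Smoothing

namespace Groth.Agent.H24.SmoothEmbedding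

theorem exists_det_ne_zero {κ : Type u} [Field κ] {n : ℕ} (S : Set (Fin n → κ)) :
    ∃ (w : Fin (Module.finrank κ (Submodule.span κ S)) → (Fin n → κ))
      (a : Fin (Module.finrank κ (Submodule.span κ S)) → Fin n),
      (∀ j, w j ∈ S) ∧ Function.Injective a ∧ (Matrix.of fun i j => w j (a i)).det ≠ 0 := by
  classical
  obtain ⟨w, hw, -, hli⟩ := Submodule.exists_fun_fin_finrank_span_eq κ S
  generalize Module.finrank κ (Submodule.span κ S) = s at w hw hli ⊢
  let col : Fin n → (Fin s → κ) := fun i j => w j i
  have htop : Submodule.span κ (Set.range col) = ⊤ := by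
    rw [← Subspace.dualAnnihilator_inj (W' := (⊤ : Subspace κ _)), Submodule.dualAnnihilator_top,
      Submodule.eq_bot_iff]
    intro l hl
    rw [Submodule.mem_dualAnnihilator] at hl
    refine LinearMap.pi_ext' fun j => LinearMap.ext_ring ?_
    have h0 : ∑ j, l (Pi.single j 1) • w j = 0 := by
      funext i
      have h1 := hl (col i) (Submodule.subset_span ⟨i, rfl⟩)
      rw [pi_eq_sum_univ' (col i), map_sum] at h1
      rw [Pi.zero_apply, Finset.sum_apply, ← h1]
      refine Finset.sum_congr rfl fun j _ => ?_
      rw [map_smul, Pi.smul_apply, smul_eq_mul, smul_eq_mul, mul_comm]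
    simpa using Fintype.linearIndependent_iff.mp hli _ h0 j
  obtain ⟨v, hv, -, hvli⟩ := Submodule.exists_fun_fin_finrank_span_eq κ (Set.range col)
  have hfr : Module.finrank κ (Submodule.span κ (Set.range col)) = s := by
    rw [htop, finrank_top, Module.finrank_fin_fun]
  choose a ha using hv
  refine ⟨w, a ∘ Fin.cast hfr.symm, hw, ?_, ?_⟩
  · intro i i' h
    have h' : v (Fin.cast hfr.symm i) = v (Fin.cast hfr.symm i') := by
      rw [← ha, ← ha]; exact congrArg col h
    exact Fin.cast_injective _ (hvli.injective h')
  · rw [← isUnit_iff_ne_zero, ← Matrix.isUnit_iff_isUnit_det, ← Matrix.linearIndependent_rows_iff_isUnit]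
    have := hvli.comp _ (Fin.cast_injective hfr.symm)
    have e : (Matrix.of fun i j => w j ((a ∘ Fin.cast hfr.symm) i)).row =
        v ∘ Fin.cast hfr.symm := funext fun i => ha _
    rw [e]
    exact this

variable {A B : Type u} [CommRing A] [CommRing B] [Algebra A B]

theorem exists_standardSmooth [Algebra.FiniteType A B] (q : Ideal B) [q.IsPrime] (r : ℕ)
    (hr : Module.finrank q.ResidueField (q.ResidueField ⊗[B] Ω[B⁄A]) = r) :
    ∃ g : B, g ∉ q ∧ ∃ (D : Type u) (_ : CommRing D) (_ : Algebra A D),
      Algebra.IsStandardSmoothOfRelativeDimension r A D ∧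
        ∃ φ : D →ₐ[A] Localization.Away g, Function.Surjective φ := by
  classical
  obtain ⟨n, φ, hφ⟩ := Algebra.FiniteType.iff_quotient_mvPolynomial''.mp ‹Algebra.FiniteType A B›
  let κ := q.ResidueField
  let P := MvPolynomial (Fin n) A
  letI algP : Algebra P κ := ((algebraMap B κ).comp φ.toRingHom).toAlgebra
  haveI : IsScalarTower A P κ := IsScalarTower.of_algebraMap_eq fun x => by
    show _ = algebraMap B κ (φ (algebraMap A P x))
    rw [φ.commutes, ← IsScalarTower.algebraMap_apply]
  -- the Jacobian row of a polynomial
  let J : P → (Fin n → κ) := fun p i => algebraMap P κ (pderiv i p)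
  let π : (Fin n → κ) →ₗ[κ] κ ⊗[B] Ω[B⁄A] :=
    Fintype.linearCombination κ fun i => (1 : κ) ⊗ₜ[B] KaehlerDifferential.D A B (φ (X i))
  let I := RingHom.ker φ.toRingHom
  let Rw := Submodule.span κ (J '' (I : Set P))
  have hπJ : ∀ p, π (J p) = (1 : κ) ⊗ₜ[B] KaehlerDifferential.D A B (φ p) := by
    intro p
    induction p using MvPolynomial.induction_on with
    | C x =>
      have : J (C x) = 0 := funext fun i => by simp [J]
      rw [this, map_zero, ← MvPolynomial.algebraMap_eq, φ.commutes, Derivation.map_algebraMap,
        TensorProduct.tmul_zero]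
    | add x y hx hy =>
      have : J (x + y) = J x + J y := funext fun i => by simp [J]
      rw [this, map_add, hx, hy, map_add, map_add, TensorProduct.tmul_add]
    | mul_X x i hx =>
      have : J (x * X i) = algebraMap B κ (φ x) • Pi.single i 1 + algebraMap B κ (φ (X i)) • J x :=
        funext fun j => by
          show algebraMap B κ (φ (pderiv j (x * X i))) = _
          rw [Derivation.leibniz, pderiv_X]
          by_cases h : j = i
          · subst h; simp [J, RingHom.algebraMap_toAlgebra, Algebra.smul_def]
          · simp [J, RingHom.algebraMap_toAlgebra, Algebra.smul_def, h, Ne.symm h]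
      rw [this, map_add, map_smul, map_smul, hx, map_mul, Derivation.leibniz, TensorProduct.tmul_add,
        TensorProduct.tmul_smul, TensorProduct.tmul_smul, algebraMap_smul, algebraMap_smul]
      congr 2
      simp [π, Fintype.linearCombination_apply_single]
  have hπs : Function.Surjective π := by
    intro z
    induction z using TensorProduct.induction_on with
    | zero => exact ⟨0, map_zero π⟩
    | add x y hx hy =>
      obtain ⟨x, rfl⟩ := hx; obtain ⟨y, rfl⟩ := hy
      exact ⟨x + y, map_add π x y⟩
    | tmul c ω =>
      have hω : ω ∈ Submodule.span B (Set.range (KaehlerDifferential.D A B)) := by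
        rw [KaehlerDifferential.span_range_derivation]; trivial
      induction hω using Submodule.span_induction generalizing c with
      | mem y hy =>
        obtain ⟨b, rfl⟩ := hy
        obtain ⟨p, rfl⟩ := hφ b
        exact ⟨c • J p, by rw [map_smul, hπJ, TensorProduct.smul_tmul', smul_eq_mul, mul_one]⟩
      | zero => exact ⟨0, by simp⟩
      | add x y _ _ hx hy =>
        obtain ⟨v, hv⟩ := hx c; obtain ⟨w, hw⟩ := hy c
        exact ⟨v + w, by rw [map_add, hv, hw, TensorProduct.tmul_add]⟩
      | smul b x _ hx =>
        obtain ⟨v, hv⟩ := hx c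
        exact ⟨algebraMap B κ b • v, by rw [map_smul, hv, algebraMap_smul, TensorProduct.tmul_smul]⟩
  have hker : LinearMap.ker π = Rw := by
    refine le_antisymm ?_ (Submodule.span_le.mpr ?_)
    · refine Subspace.dualAnnihilator_le_dualAnnihilator_iff.mp fun l hl => ?_
      rw [Submodule.mem_dualAnnihilator] at hl ⊢
      have hl' : ∀ p ∈ I, l (J p) = 0 := fun p hp => hl _ (Submodule.subset_span ⟨p, hp, rfl⟩)
      let v : B → κ := fun b => l (J (Function.surjInv hφ b))
      have hJadd : ∀ x y, J (x + y) = J x + J y := fun x y => funext fun i => by simp [J]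
      have hJmul : ∀ x y, J (x * y) = algebraMap B κ (φ x) • J y + algebraMap B κ (φ y) • J x :=
        fun x y => funext fun i => by simp [J, RingHom.algebraMap_toAlgebra, Algebra.smul_def]
      have hv : ∀ p, v (φ p) = l (J p) := fun p => by
        let p' := Function.surjInv hφ (φ p)
        have hp' : p' - p ∈ I := by
          show φ (p' - p) = 0
          rw [map_sub, Function.surjInv_eq hφ, sub_self]
        show l (J p') = _
        rw [show J p' = J (p' - p) + J p by rw [← hJadd, sub_add_cancel], map_add, hl' _ hp', zero_add]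
      let δ₀ : B →ₗ[A] κ :=
        { toFun := v
          map_add' := fun x y => by
            obtain ⟨x, rfl⟩ := hφ x; obtain ⟨y, rfl⟩ := hφ y
            rw [← map_add, hv, hv, hv, hJadd, map_add]
          map_smul' := fun c x => by
            obtain ⟨x, rfl⟩ := hφ x
            rw [← map_smul, hv, hv]
            have : J (c • x) = algebraMap A κ c • J x := funext fun i => by
              simp only [J, Derivation.map_smul, Pi.smul_apply]
              rw [Algebra.smul_def, map_mul, ← IsScalarTower.algebraMap_apply, smul_eq_mul]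
            rw [this, map_smul, algebraMap_smul]; rfl }
      let δ : Derivation A B κ := Derivation.mk' δ₀ fun x y => by
        obtain ⟨x, rfl⟩ := hφ x; obtain ⟨y, rfl⟩ := hφ y
        show v (φ x * φ y) = φ x • v (φ y) + φ y • v (φ x)
        rw [← map_mul, hv, hv, hv, hJmul, map_add, map_smul, map_smul, algebraMap_smul,
          algebraMap_smul]
      let hlin : κ ⊗[B] Ω[B⁄A] →ₗ[κ] κ := LinearMap.liftBaseChange κ δ.liftKaehlerDifferential
      have hcomp : hlin ∘ₗ π = l := by
        refine LinearMap.pi_ext' fun i => LinearMap.ext_ring ?_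
        have h2 : J (X i) = Pi.single i 1 := funext fun j => by
          show algebraMap P κ (pderiv j (X i)) = _
          by_cases h : j = i
          · subst h; simp
          · simp [pderiv_X, h, Ne.symm h]
        show hlin (π (Pi.single i 1)) = l (Pi.single i 1)
        rw [← h2, hπJ]
        show (1 : κ) • δ.liftKaehlerDifferential (KaehlerDifferential.D A B (φ (X i))) = _
        rw [one_smul, Derivation.liftKaehlerDifferential_comp_D]
        exact hv _
      intro z hz
      rw [← hcomp, LinearMap.comp_apply, LinearMap.mem_ker.mp hz, map_zero]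
    · rintro _ ⟨p, hp, rfl⟩
      rw [SetLike.mem_coe, LinearMap.mem_ker, hπJ, show φ p = 0 from hp, map_zero, TensorProduct.tmul_zero]
  have hdim : Module.finrank κ Rw + r = n := by
    have h := π.finrank_range_add_finrank_ker
    rw [LinearMap.range_eq_top.mpr hπs, finrank_top, hr, hker, Module.finrank_fin_fun] at h
    omega
  obtain ⟨w, a, hw, ha, hdet⟩ := exists_det_ne_zero (J '' (I : Set P))
  choose f hfI hfw using hw
  have hdim' : Module.finrank κ (Submodule.span κ (J '' (I : Set P))) + r = n := hdim
  let Δ : P := (Matrix.of fun i j => pderiv (a i) (f j)).det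
  have hΔ : algebraMap P κ Δ ≠ 0 := by
    rw [RingHom.map_det]
    refine fun h => hdet (Eq.trans (congrArg Matrix.det ?_) h)
    exact Matrix.ext fun i j => by simp [← hfw, J]
  let g := φ Δ
  have hg : g ∉ q := fun hg => hΔ (Ideal.algebraMap_residueField_eq_zero.mpr hg)
  let v := AwayQuot.relAway f Δ
  let σ' := Fin n ⊕ Unit
  let D := MvPolynomial σ' A ⧸ Ideal.span (Set.range v)
  let a' : Fin (Module.finrank κ Rw) ⊕ Unit → σ' := Sum.map a id
  have ha' : Function.Injective a' := Sum.map_injective.mpr ⟨ha, Function.injective_id⟩
  let Pre := Algebra.PreSubmersivePresentation.naive (R := A) (v := v) a' ha'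
  have hjac : IsUnit Pre.jacobian := by
    rw [Pre.jacobian_eq_jacobiMatrix_det]
    have hM : Pre.jacobiMatrix = Matrix.fromBlocks
        ((Matrix.of fun i j => pderiv (a i) (f j)).map (rename Sum.inl))
        (Matrix.of fun i (_ : Unit) => pderiv (Sum.inl (a i)) (v (Sum.inr ())))
        0 (Matrix.of fun (_ : Unit) (_ : Unit) => rename Sum.inl Δ) := by
      refine Matrix.ext fun i j => ?_
      rw [Algebra.PreSubmersivePresentation.jacobiMatrix_naive]
      rcases i with i | i <;> rcases j with j | j
      · simp [v, a', AwayQuot.pderiv_inl_rename]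
      · rfl
      · simp [v, a', AwayQuot.pderiv_inr_rename]
      · simp [v, a', Derivation.leibniz, AwayQuot.pderiv_inr_rename]
    rw [hM, Matrix.det_fromBlocks_zero₂₁]
    have hd : ((Matrix.of fun i j => pderiv (a i) (f j)).map (rename Sum.inl (R := A))).det =
        rename (Sum.inl : Fin n → σ') Δ := (AlgHom.map_det _ _).symm
    rw [hd, Matrix.det_unique, Matrix.of_apply, map_mul]
    have hu : IsUnit (algebraMap Pre.Ring D (rename Sum.inl Δ)) := by
      refine .of_mul_eq_one_right (algebraMap Pre.Ring D (X (Sum.inr ()))) ?_
      rw [← map_mul, ← sub_eq_zero, ← map_one (algebraMap Pre.Ring D), ← map_sub]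
      show Ideal.Quotient.mk _ _ = 0
      exact Ideal.Quotient.eq_zero_iff_mem.mpr (Ideal.subset_span ⟨Sum.inr (), rfl⟩)
    exact hu.mul hu
  refine ⟨g, hg, D, inferInstance, inferInstance, ?_, ?_⟩
  · refine (Algebra.SubmersivePresentation.mk Pre hjac).isStandardSmoothOfRelativeDimension ?_
    simp only [Algebra.Presentation.dimension, σ', Nat.card_eq_fintype_card, Fintype.card_sum,
      Fintype.card_fin, Fintype.card_unit]
    omega
  · let ψ : MvPolynomial σ' A →ₐ[A] Localization.Away g := AwayQuot.awayHom φ Δ (Localization.Away g)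
    have hψ : ∀ z ∈ Ideal.span (Set.range v), ψ z = 0 := by
      intro z hz
      induction hz using Submodule.span_induction with
      | mem y hy =>
        obtain ⟨(j | u), rfl⟩ := hy
        · show ψ (rename Sum.inl (f j)) = 0
          rw [AwayQuot.awayHom_rename, show φ (f j) = 0 from hfI j, map_zero]
        · show ψ (X (Sum.inr ()) * rename Sum.inl Δ - 1) = 0
          rw [map_sub, map_mul, map_one, AwayQuot.awayHom_rename]
          simp only [ψ, AwayQuot.awayHom, aeval_X, Sum.elim_inr]
          rw [mul_comm, IsLocalization.Away.mul_invSelf, sub_self]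
      | zero => exact map_zero ψ
      | add x y _ _ hx hy => rw [map_add, hx, hy, add_zero]
      | smul c x _ hx => rw [smul_eq_mul, map_mul, hx, mul_zero]
    exact ⟨Ideal.Quotient.liftₐ _ ψ hψ, Ideal.Quotient.lift_surjective_of_surjective _ hψ
      (AwayQuot.awayHom_surjective φ Δ (Localization.Away g) hφ)⟩

end Groth.Agent.H24.SmoothEmbedding
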