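import Mathlib.RingTheory.Smooth.Basic
import Mathlib.RingTheory.MvPowerSeries.Equiv
import Mathlib.RingTheory.MvPolynomial.Ideal
import Mathlib.RingTheory.Ideal.Cotangent
import Mathlib.RingTheory.AdicCompletion.Algebra
import Mathlib.RingTheory.Nilpotent.Lemmas

/-!
# Completion along a section of a smooth algebra

If `σ : S → R` is a section of a formally smooth `R`-algebra with free conormal module of rank `d`,
the completion of `S` along it is a power series ring.
-/

set_option autoImplicit false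

universe u

open MvPolynomial

namespace Groth.Agent.H24.SmoothSection

variable {R S : Type u} [CommRing R] [CommRing S] [Algebra R S] (σ : S →ₐ[R] R) {d : ℕ}

theorem eq_constantCoeff {t : Fin d → S} (ht : ∀ i, t i ∈ RingHom.ker σ.toRingHom)
    (p : MvPolynomial (Fin d) R) : σ (aeval t p) = constantCoeff p := by
  induction p using MvPolynomial.induction_on with
  | C a => simp
  | add p q hp hq => simp [hp, hq]
  | mul_X p i hp =>
    rw [map_mul, map_mul, hp, aeval_X, map_mul, show σ (t i) = 0 from ht i, constantCoeff_X,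
      mul_zero]

theorem constantCoeff_sub_mem (p : MvPolynomial (Fin d) R) :
    p - C (constantCoeff p) ∈ idealOfVars (Fin d) R := by
  rw [← pow_one (idealOfVars (Fin d) R), mem_pow_idealOfVars_iff']
  intro x hx
  rw [Nat.lt_one_iff, Finsupp.degree_eq_zero_iff] at hx
  simp [hx, constantCoeff_eq]

/-- An endomorphism congruent to the identity on the variables modulo squares. -/
theorem sub_mem_pow {Q : Type u} [CommRing Q] [Algebra R Q] (g : MvPolynomial (Fin d) R →ₐ[R] Q)
    (f : MvPolynomial (Fin d) R →ₐ[R] Q) (J : Ideal Q) (hf : ∀ i, f (X i) ∈ J)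
    (hgf : ∀ i, g (X i) - f (X i) ∈ J ^ 2) :
    ∀ (k : ℕ) (p : MvPolynomial (Fin d) R), p ∈ idealOfVars (Fin d) R ^ k →
      g p - f p ∈ J ^ (k + 1) := by
  have h0 : ∀ p : MvPolynomial (Fin d) R, g p - f p ∈ J := by
    intro p
    induction p using MvPolynomial.induction_on with
    | C a => simp
    | add p q hp hq =>
      rw [map_add, map_add, add_sub_add_comm]; exact add_mem hp hq
    | mul_X p i hp =>
      rw [map_mul, map_mul, show g p * g (X i) - f p * f (X i) =
        (g p - f p) * g (X i) + f p * (g (X i) - f (X i)) by ring]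
      exact add_mem (Ideal.mul_mem_right _ _ hp)
        (Ideal.mul_mem_left _ _ (Ideal.pow_le_self two_ne_zero (hgf i)))
  have hf' : ∀ (k : ℕ) (p : MvPolynomial (Fin d) R), p ∈ idealOfVars (Fin d) R ^ k → f p ∈ J ^ k := by
    intro k p hp
    have h := Ideal.mem_map_of_mem f hp
    rw [Ideal.map_pow] at h
    refine Ideal.pow_right_mono ?_ k h
    rw [idealOfVars, Ideal.map_span, Ideal.span_le]
    rintro _ ⟨_, ⟨i, rfl⟩, rfl⟩
    exact hf i
  intro k
  induction k with
  | zero => intro p _; simpa using h0 p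
  | succ k ih =>
    intro p hp
    rw [pow_succ] at hp
    induction hp using Submodule.mul_induction_on' with
    | mem_mul_mem a ha b hb =>
      have hb2 : g b - f b ∈ J ^ 2 := by
        rw [idealOfVars] at hb
        induction hb using Submodule.span_induction with
        | mem x hx => obtain ⟨i, rfl⟩ := hx; exact hgf i
        | zero => simp
        | add x y _ _ hx hy => rw [map_add, map_add, add_sub_add_comm]; exact add_mem hx hy
        | smul c x hx' hx =>
          rw [smul_eq_mul, map_mul, map_mul, show g c * g x - f c * f x =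
            (g c - f c) * f x + g c * (g x - f x) by ring]
          refine add_mem ?_ (Ideal.mul_mem_left _ _ hx)
          rw [pow_two]
          exact Ideal.mul_mem_mul (h0 c) (by simpa using hf' 1 x (by rw [pow_one]; exact hx'))
      have hgb : g b ∈ J := by
        rw [← sub_add_cancel (g b) (f b)]
        exact add_mem (Ideal.pow_le_self two_ne_zero hb2) (by simpa using hf' 1 b (by rwa [pow_one]))
      rw [map_mul, map_mul, show g a * g b - f a * f b =
        (g a - f a) * g b + f a * (g b - f b) by ring]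
      refine add_mem ?_ ?_
      · rw [pow_succ _ (k + 1)]; exact Ideal.mul_mem_mul (ih a ha) hgb
      · rw [show k + 1 + 1 = k + 2 by omega, pow_add]
        exact Ideal.mul_mem_mul (hf' k a ha) hb2
    | add x _ y _ hx hy => rw [map_add, map_add, add_sub_add_comm]; exact add_mem hx hy

variable [Algebra.FormallySmooth R S]

/-- The truncations of a smooth algebra along a section are truncated polynomial rings. -/
theorem exists_equivs (e : (RingHom.ker σ.toRingHom).Cotangent ≃ₗ[R] (Fin d → R)) :
    ∃ φ : MvPolynomial (Fin d) R →ₐ[R] S,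
      (∀ n, idealOfVars (Fin d) R ^ n ≤ (RingHom.ker σ.toRingHom ^ n).comap φ) ∧
      (∀ n (s : S), ∃ p, s - φ p ∈ RingHom.ker σ.toRingHom ^ n) ∧
      ∀ n p, φ p ∈ RingHom.ker σ.toRingHom ^ n → p ∈ idealOfVars (Fin d) R ^ n := by
  classical
  let I := RingHom.ker σ.toRingHom
  choose t ht using fun i : Fin d => I.toCotangent_surjective (e.symm (Pi.single i 1))
  let φ : MvPolynomial (Fin d) R →ₐ[R] S := aeval fun i => (t i : S)
  have hσ : ∀ p, σ (φ p) = constantCoeff p := eq_constantCoeff σ fun i => (t i).2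
  have hsub : ∀ s : S, s - algebraMap R S (σ s) ∈ I := fun s => by
    rw [RingHom.mem_ker, AlgHom.toRingHom_eq_coe, RingHom.coe_coe, map_sub, AlgHom.commutes]
    simp
  have hle : idealOfVars (Fin d) R ≤ I.comap φ := by
    rw [idealOfVars, Ideal.span_le]
    rintro _ ⟨i, rfl⟩
    show φ (X i) ∈ I
    rw [aeval_X]; exact (t i).2
  have hpow : ∀ n, idealOfVars (Fin d) R ^ n ≤ (I ^ n).comap φ := fun n =>
    (Ideal.pow_right_mono hle n).trans (Ideal.le_comap_pow _ n)
  -- coordinates modulo `I²`
  have hcot : ∀ a : Fin d → R,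
      I.toCotangent (∑ i, algebraMap R S (a i) • t i) = e.symm a := fun a => by
    rw [map_sum, show e.symm a = ∑ i, a i • e.symm (Pi.single i 1) by
      rw [← Finset.sum_congr rfl fun i _ => map_smul e.symm (a i) _, ← map_sum]
      congr 1; ext j; simp [Pi.single_apply]]
    refine Finset.sum_congr rfl fun i _ => ?_
    rw [map_smul, ht, algebraMap_smul]
  have hlin : ∀ a : Fin d → R, ((∑ i, algebraMap R S (a i) • t i : I) : S) = φ (∑ i, C (a i) * X i) :=
    fun a => by simp [φ, Algebra.smul_def]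
  -- surjectivity
  have hgr : ∀ n, ∀ x ∈ I ^ n, ∃ p ∈ idealOfVars (Fin d) R ^ n, x - φ p ∈ I ^ (n + 1) := by
    intro n
    induction n with
    | zero =>
      intro x _
      refine ⟨C (σ x), by simp, ?_⟩
      rw [← MvPolynomial.algebraMap_eq, AlgHom.commutes, zero_add, pow_one]
      exact hsub x
    | succ n ih =>
      intro x hx
      rw [pow_succ] at hx
      induction hx using Submodule.mul_induction_on' with
      | mem_mul_mem a ha b hb =>
        obtain ⟨p, hp, hap⟩ := ih a ha
        let c := e (I.toCotangent ⟨b, hb⟩)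
        have hbc : b - φ (∑ i, C (c i) * X i) ∈ I ^ 2 := by
          rw [← hlin]
          refine (I.toCotangent_eq (x := ⟨b, hb⟩)).mp ?_
          rw [hcot, LinearEquiv.symm_apply_apply]
        have hL : (∑ i, C (c i) * X i : MvPolynomial (Fin d) R) ∈ idealOfVars (Fin d) R :=
          sum_mem fun i _ => Ideal.mul_mem_left _ _ (Ideal.subset_span ⟨i, rfl⟩)
        refine ⟨p * ∑ i, C (c i) * X i, by rw [pow_succ]; exact Ideal.mul_mem_mul hp hL, ?_⟩
        rw [map_mul, show a * b - φ p * φ (∑ i, C (c i) * X i) =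
          (a - φ p) * b + φ p * (b - φ (∑ i, C (c i) * X i)) by ring]
        refine add_mem ?_ ?_
        · rw [pow_succ _ (n + 1)]; exact Ideal.mul_mem_mul hap hb
        · rw [show n + 1 + 1 = n + 2 by omega, pow_add]
          exact Ideal.mul_mem_mul (hpow n hp) hbc
      | add x _ y _ hx hy =>
        obtain ⟨p, hp, hp'⟩ := hx
        obtain ⟨q, hq, hq'⟩ := hy
        refine ⟨p + q, add_mem hp hq, ?_⟩
        rw [map_add, add_sub_add_comm]; exact add_mem hp' hq'
  have hsurj : ∀ n (s : S), ∃ p, s - φ p ∈ I ^ n := by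
    intro n s
    induction n with
    | zero => exact ⟨0, by simp⟩
    | succ n ih =>
      obtain ⟨p, hp⟩ := ih
      obtain ⟨q, -, hq⟩ := hgr n _ hp
      exact ⟨p + q, by rwa [map_add, ← sub_sub]⟩
  -- injectivity modulo squares
  have hinj2 : ∀ p, φ p ∈ I ^ 2 → p ∈ idealOfVars (Fin d) R ^ 2 := by
    intro p hp
    have hc : constantCoeff p = 0 := by
      rw [← hσ]; exact Ideal.pow_le_self two_ne_zero hp
    let a : Fin d → R := fun i => coeff (Finsupp.single i 1) p
    have hq : p - ∑ i, C (a i) * X i ∈ idealOfVars (Fin d) R ^ 2 := by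
      rw [mem_pow_idealOfVars_iff']
      intro x hx
      have hx01 : x.degree = 0 ∨ x.degree = 1 := by omega
      rcases hx01 with h | h
      · rw [Finsupp.degree_eq_zero_iff] at h
        subst h
        simp [coeff_sum, coeff_C_mul, coeff_X, ← constantCoeff_eq, hc, Finsupp.single_eq_zero]
      · obtain ⟨i, rfl⟩ : x ∈ Set.range fun i : Fin d => Finsupp.single i 1 := by
          rw [Finsupp.range_single_one]; exact h
        simp [coeff_sum, coeff_C_mul, coeff_X, a, Finsupp.single_left_inj]
    have h2 : φ (∑ i, C (a i) * X i) ∈ I ^ 2 := by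
      have := sub_mem hp (hpow 2 hq)
      rwa [map_sub, sub_sub_cancel] at this
    have ha : a = 0 := by
      apply e.symm.injective
      rw [← hcot, map_zero, I.toCotangent_eq_zero, hlin]
      exact h2
    have hsum : (∑ i, C (a i) * X i : MvPolynomial (Fin d) R) = 0 := by simp [ha]
    rwa [hsum, sub_zero] at hq
  refine ⟨φ, hpow, hsurj, fun n p hp => ?_⟩
  rcases Nat.lt_or_ge n 2 with hn | hn
  · rcases Nat.le_one_iff_eq_zero_or_eq_one.mp (Nat.lt_succ_iff.mp hn) with rfl | rfl
    · simp
    · rw [pow_one] at hp ⊢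
      have := constantCoeff_sub_mem p
      rwa [show constantCoeff p = 0 by rw [← hσ]; exact hp, map_zero, sub_zero] at this
  -- lift the coordinates
  let J := idealOfVars (Fin d) R
  let Q := MvPolynomial (Fin d) R ⧸ J ^ n
  let f₂ : MvPolynomial (Fin d) R ⧸ J ^ 2 →ₐ[R] S ⧸ I ^ 2 := Ideal.quotientMapₐ _ φ (hpow 2)
  have hf₂ : Function.Bijective f₂ := by
    constructor
    · exact Ideal.quotientMap_injective' (H := hpow 2) (fun p hp => hinj2 p hp)
    · intro s
      obtain ⟨s, rfl⟩ := Ideal.Quotient.mk_surjective s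
      obtain ⟨p, hp⟩ := hsurj 2 s
      exact ⟨Ideal.Quotient.mk _ p, (Ideal.Quotient.eq.mpr hp).symm⟩
  let ψ₂ : S →ₐ[R] MvPolynomial (Fin d) R ⧸ J ^ 2 :=
    (AlgEquiv.ofBijective f₂ hf₂).symm.toAlgHom.comp (Ideal.Quotient.mkₐ R _)
  let π : Q →ₐ[R] MvPolynomial (Fin d) R ⧸ J ^ 2 :=
    Ideal.Quotient.factorₐ R (Ideal.pow_le_pow_right hn)
  have hπ : Function.Surjective π := fun x => by
    obtain ⟨x, rfl⟩ := Ideal.Quotient.mk_surjective x
    exact ⟨Ideal.Quotient.mk _ x, rfl⟩
  have hker : IsNilpotent (RingHom.ker (π : Q →+* MvPolynomial (Fin d) R ⧸ J ^ 2)) := by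
    refine ⟨n, ?_⟩
    have hk : RingHom.ker (π : Q →+* MvPolynomial (Fin d) R ⧸ J ^ 2) ≤
        J.map (Ideal.Quotient.mk (J ^ n)) := fun x hx => by
      obtain ⟨x, rfl⟩ := Ideal.Quotient.mk_surjective x
      exact Ideal.mem_map_of_mem _ (Ideal.pow_le_self two_ne_zero (Ideal.Quotient.eq_zero_iff_mem.mp hx))
    refine le_bot_iff.mp ((Ideal.pow_right_mono hk n).trans ?_)
    rw [← Ideal.map_pow, Ideal.map_quotient_self]
  let g : S →ₐ[R] Q := Algebra.FormallySmooth.liftOfSurjective ψ₂ π hπ hker
  have hg : ∀ s, π (g s) = ψ₂ s := fun s =>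
    AlgHom.congr_fun (Algebra.FormallySmooth.comp_liftOfSurjective ψ₂ π hπ hker) s
  let J' := J.map (Ideal.Quotient.mk (J ^ n))
  have hπmem : ∀ y : Q, ∀ q ∈ J ^ 2, π y = Ideal.Quotient.mk _ q → y ∈ J' ^ 2 := by
    intro y q hq hy
    obtain ⟨y, rfl⟩ := Ideal.Quotient.mk_surjective y
    rw [← Ideal.map_pow]
    refine Ideal.mem_map_of_mem _ ?_
    have h := Ideal.Quotient.eq.mp (show Ideal.Quotient.mk (J ^ 2) y = Ideal.Quotient.mk _ q from hy)
    simpa using add_mem h hq
  have hgI : ∀ s ∈ I, g s ∈ J' := by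
    intro s hs
    obtain ⟨q, hq⟩ := hsurj 2 s
    have hqc : constantCoeff q = 0 := by
      have h := (show (s - φ q) ∈ I from Ideal.pow_le_self two_ne_zero hq)
      rw [← hσ]
      have : φ q ∈ I := by simpa using sub_mem hs h
      exact this
    have hψ : ψ₂ s = Ideal.Quotient.mk _ q := by
      show (AlgEquiv.ofBijective f₂ hf₂).symm (Ideal.Quotient.mk _ s) = _
      rw [AlgEquiv.symm_apply_eq]
      exact Ideal.Quotient.eq.mpr hq
    obtain ⟨y, hy⟩ := Ideal.Quotient.mk_surjective (g s)
    rw [← hy]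
    refine Ideal.mem_map_of_mem _ ?_
    have h := hg s
    rw [← hy, hψ] at h
    have h2 := Ideal.Quotient.eq.mp (show Ideal.Quotient.mk (J ^ 2) y = Ideal.Quotient.mk _ q from h)
    have h3 := constantCoeff_sub_mem q
    rw [hqc, map_zero, sub_zero] at h3
    simpa using add_mem (Ideal.pow_le_self two_ne_zero h2) h3
  have hh : ∀ i, (g.comp φ) (X i) - Ideal.Quotient.mkₐ R (J ^ n) (X i) ∈ J' ^ 2 := fun i => by
    refine hπmem _ 0 (zero_mem _) ?_
    rw [map_sub, AlgHom.comp_apply, hg, map_zero, sub_eq_zero]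
    show (AlgEquiv.ofBijective f₂ hf₂).symm (Ideal.Quotient.mk _ (φ (X i))) = _
    rw [AlgEquiv.symm_apply_eq]
    rfl
  have key := sub_mem_pow (g.comp φ) (Ideal.Quotient.mkₐ R (J ^ n)) J'
    (fun i => Ideal.mem_map_of_mem _ (Ideal.subset_span ⟨i, rfl⟩)) hh
  have hgp : (g.comp φ) p = 0 := by
    have h1 : g (φ p) ∈ J' ^ n := by
      have := Ideal.mem_map_of_mem g.toRingHom hp
      rw [Ideal.map_pow] at this
      exact Ideal.pow_right_mono (Ideal.map_le_iff_le_comap.mpr hgI) n this
    rwa [← Ideal.map_pow, Ideal.map_quotient_self, Ideal.mem_bot] at h1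
  suffices h : ∀ k, k ≤ n → p ∈ J ^ k from h n le_rfl
  intro k hk
  induction k with
  | zero => simp
  | succ k ih =>
    have h1 := key k p (ih (by omega))
    rw [hgp, zero_sub, neg_mem_iff, ← Ideal.map_pow] at h1
    obtain ⟨r, hr, hrp⟩ := (Ideal.mem_map_iff_of_surjective _ Ideal.Quotient.mk_surjective).mp h1
    have h2 : r - p ∈ J ^ (k + 1) :=
      Ideal.pow_le_pow_right hk (Ideal.Quotient.eq.mp hrp)
    simpa using sub_mem hr h2

end Groth.Agent.H24.SmoothSection
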