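import Mathlib.RingTheory.KrullDimension.Regular
import Mathlib.RingTheory.Ideal.KrullsHeightTheorem

/-!
# Extending an element outside the minimal primes to a system of parameters
-/

set_option autoImplicit false
set_option linter.style.haveILetI false

universe u

open IsLocalRing Pointwise

namespace Groth.Agent.H24.SopExtend

variable (R : Type u) [CommRing R] [IsNoetherianRing R] [IsLocalRing R]

theorem exists_sop (d : ℕ) (hd : ringKrullDim R = d) (f : R) (hf : f ∈ maximalIdeal R)
    (hmin : ∀ p ∈ minimalPrimes R, f ∉ p) :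
    ∃ g : Fin (d - 1) → R, (∀ i, g i ∈ maximalIdeal R) ∧
      maximalIdeal R ≤ (Ideal.span (insert f (Set.range g))).radical := by
  classical
  let R' := R ⧸ Ideal.span {f}
  let p := Ideal.Quotient.mk (Ideal.span {f})
  haveI : Nontrivial R' := Ideal.Quotient.nontrivial_iff.2 fun h =>
    (mem_maximalIdeal f).1 hf (Ideal.span_singleton_eq_top.1 h)
  haveI : IsLocalRing R' := .of_surjective' p Ideal.Quotient.mk_surjective
  haveI : IsLocalHom p := .of_surjective _ Ideal.Quotient.mk_surjective
  have hdim : ringKrullDim R' + 1 ≤ (d : WithBot ℕ∞) := by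
    have h := Module.supportDim_quotSMulTop_succ_le_of_notMem_minimalPrimes (R := R) (M := R) (x := f)
      (fun q hq => hmin q (by
        rw [show Module.annihilator R R = (⊥ : Ideal R) by
          ext z; simp [Module.mem_annihilator]; exact ⟨fun h => by simpa using h 1, fun h => by simp [h]⟩] at hq
        exact hq))
    have he : Ideal.span {f} = f • (⊤ : Ideal R) := by simp [← Submodule.ideal_span_singleton_smul]
    rw [show ringKrullDim R' = ringKrullDim (R ⧸ f • (⊤ : Ideal R)) from
      ringKrullDim_eq_of_ringEquiv (Ideal.quotientEquivAlgOfEq R he).toRingEquiv]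
    rwa [Module.supportDim_quotient_eq_ringKrullDim, Module.supportDim_self_eq_ringKrullDim, hd] at h
  obtain ⟨s, hs, hcard⟩ := (maximalIdeal R').exists_finset_card_eq_height_of_isNoetherianRing
  have hle : s.card ≤ d - 1 := by
    rw [← maximalIdeal_height_eq_ringKrullDim, ← hcard] at hdim
    have : s.card + 1 ≤ d := by exact_mod_cast hdim
    omega
  choose lift hlift using Ideal.Quotient.mk_surjective (I := Ideal.span {f})
  let g : Fin (d - 1) → R := fun i =>
    if h : (i : ℕ) < s.card then lift (s.equivFin.symm ⟨i, h⟩ : R') else 0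
  have hsm : ∀ z ∈ s, z ∈ maximalIdeal R' := fun z hz => hs.1.2 (Ideal.subset_span hz)
  refine ⟨g, fun i => ?_, ?_⟩
  · simp only [g]; split
    · intro hu
      exact hsm _ (s.equivFin.symm ⟨i, ‹_›⟩).2 (hlift _ ▸ hu.map p)
    · exact zero_mem _
  · rw [Ideal.radical_eq_sInf]
    refine le_sInf fun P hP => ?_
    haveI := hP.2
    have hsub : Ideal.span {f} ≤ P :=
      Ideal.span_le.2 (Set.singleton_subset_iff.2 (hP.1 (Ideal.subset_span (Set.mem_insert _ _))))
    haveI : (P.map p).IsPrime := Ideal.map_isPrime_of_surjective Ideal.Quotient.mk_surjective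
      (by rwa [Ideal.mk_ker])
    have h1 : Ideal.span (s : Set R') ≤ P.map p := by
      refine Ideal.span_le.2 fun z hz => ?_
      obtain ⟨j, hj⟩ : ∃ j, s.equivFin.symm j = ⟨z, hz⟩ := s.equivFin.symm.surjective _
      have h2 : g ⟨j, by omega⟩ ∈ P := hP.1 (Ideal.subset_span (Set.mem_insert_of_mem _ ⟨_, rfl⟩))
      have h3 := Ideal.mem_map_of_mem p h2
      simp only [g, dif_pos j.2, Fin.eta, hj, p, hlift] at h3
      exact h3
    have h4 : maximalIdeal R' ≤ P.map p :=
      hs.2 ⟨inferInstance, h1⟩ (IsLocalRing.le_maximalIdeal (Ideal.IsPrime.ne_top inferInstance))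
    intro z hz
    have := h4 (show p z ∈ maximalIdeal R' from fun hu => hz (IsLocalHom.map_nonunit z hu))
    rwa [← Ideal.mem_comap, Ideal.comap_map_of_surjective _ Ideal.Quotient.mk_surjective,
      ← RingHom.ker_eq_comap_bot, Ideal.mk_ker, sup_eq_left.2 hsub] at this

end Groth.Agent.H24.SopExtend
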