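import Groth.Agent.Lib.Adic.Complete
import Mathlib.RingTheory.Filtration
import Mathlib.RingTheory.Noetherian.OfPrime

/-!
# A square-zero extension of a complete Noetherian local ring is complete
-/

set_option autoImplicit false
set_option linter.style.haveILetI false

universe u v

open IsLocalRing

namespace Groth.Agent.H24.SqZeroComplete

variable {A : Type u} {E : Type v} [CommRing A] [CommRing E] [IsNoetherianRing A] [IsLocalRing A]

theorem isNoetherianRing (f : E →+* A) (hf : Function.Surjective f)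
    (hsq : RingHom.ker f ^ 2 = ⊥) (hfg : (RingHom.ker f).FG) : IsNoetherianRing E := by
  haveI : IsNoetherianRing (E ⧸ RingHom.ker f) :=
    isNoetherianRing_of_ringEquiv A (RingHom.quotientKerEquivOfSurjective hf).symm
  refine IsNoetherianRing.of_prime fun P hP => ?_
  have hle : RingHom.ker f ≤ P := fun x hx => hP.mem_of_pow_mem 2 (by
    have := Ideal.pow_mem_pow hx 2
    rw [hsq, Ideal.mem_bot] at this
    rw [this]; exact zero_mem _)
  obtain ⟨P₀, h₀, hP₀, h⟩ := Groth.Agent.Lib.Adic.Complete.exists_fg_le_sup (P := P)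
    ((isNoetherianRing_iff_ideal_fg (E ⧸ RingHom.ker f)).1 ‹_› _)
  exact Groth.Agent.Lib.Adic.Complete.fg_of_le_sup hfg hle h₀ hP₀ h

theorem isLocalRing (f : E →+* A) (hf : Function.Surjective f)
    (hsq : RingHom.ker f ^ 2 = ⊥) : IsLocalRing E := by
  haveI : Nontrivial E := f.domain_nontrivial
  refine IsLocalRing.of_unique_max_ideal ⟨(maximalIdeal A).comap f,
    Ideal.comap_isMaximal_of_surjective f hf, fun M hM => ?_⟩
  have hle : RingHom.ker f ≤ M := fun x hx => hM.isPrime.mem_of_pow_mem 2 (by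
    have := Ideal.pow_mem_pow hx 2
    rw [hsq, Ideal.mem_bot] at this
    rw [this]; exact zero_mem _)
  haveI := hM
  have hmap : (M.map f).IsMaximal := Ideal.IsMaximal.map_of_surjective_of_ker_le hf hle
  rw [← IsLocalRing.eq_maximalIdeal hmap, Ideal.comap_map_of_surjective f hf,
    ← RingHom.ker_eq_comap_bot, sup_eq_left.2 hle]

theorem isAdicComplete [IsAdicComplete (maximalIdeal A) A] (f : E →+* A) (hf : Function.Surjective f)
    (hsq : RingHom.ker f ^ 2 = ⊥) (hfg : (RingHom.ker f).FG) :
    IsAdicComplete ((maximalIdeal A).comap f) E := by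
  classical
  haveI := isNoetherianRing f hf hsq hfg
  haveI := isLocalRing f hf hsq
  let N := RingHom.ker f
  let J := (maximalIdeal A).comap f
  have hJ : J ≤ maximalIdeal E :=
    IsLocalRing.le_maximalIdeal (Ideal.comap_ne_top f (maximalIdeal.isMaximal A).ne_top)
  have hmap : ∀ n, (J ^ n).map f = maximalIdeal A ^ n := fun n => by
    rw [Ideal.map_pow, Ideal.map_comap_of_surjective f hf]
  -- decomposition of an element whose image is small
  have hsplit : ∀ (n : ℕ) (x : E), f x ∈ maximalIdeal A ^ n → ∃ j ∈ J ^ n, x - j ∈ N := by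
    intro n x hx
    rw [← hmap] at hx
    obtain ⟨j, hj, hjx⟩ := (Ideal.mem_map_iff_of_surjective f hf).1 hx
    exact ⟨j, hj, by rw [RingHom.mem_ker, map_sub, hjx, sub_self]⟩
  haveI : IsHausdorff J E := by
    refine ⟨fun x hx => ?_⟩
    have h1 : x ∈ (⨅ i, J ^ i : Ideal E) := Ideal.mem_iInf.2 fun n => by
      have := hx n
      rwa [SModEq.zero, smul_eq_mul, Ideal.mul_top] at this
    rw [Ideal.iInf_pow_eq_bot_of_isLocalRing J
      (Ideal.comap_ne_top f (maximalIdeal.isMaximal A).ne_top)] at h1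
    exact h1
  refine { haus' := IsHausdorff.haus inferInstance, prec' := fun x hx => ?_ }
  have hx' : ∀ {m n}, m ≤ n → x m - x n ∈ J ^ m := fun {m n} h => by
    have := hx h
    rwa [SModEq.sub_mem, smul_eq_mul, Ideal.mul_top] at this
  -- the limit of the images
  obtain ⟨a, ha⟩ := IsPrecomplete.prec (inferInstance : IsPrecomplete (maximalIdeal A) A)
    (f := fun n => f (x n)) fun {m n} h => by
      rw [SModEq.sub_mem, smul_eq_mul, Ideal.mul_top, ← map_sub, ← hmap]
      exact Ideal.mem_map_of_mem f (hx' h)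
  obtain ⟨e, rfl⟩ := hf a
  have hj : ∀ n, ∃ j ∈ J ^ n, x n - e - j ∈ N := fun n => by
    refine hsplit n _ ?_
    have := ha n
    rwa [SModEq.sub_mem, smul_eq_mul, Ideal.mul_top, ← map_sub] at this
  choose j hjJ hjN using hj
  let ν := fun n => x n - e - j n
  -- Artin–Rees
  obtain ⟨c, hc⟩ := Ideal.exists_pow_inf_eq_pow_smul J (N : Submodule E E)
  obtain ⟨t, ht⟩ := hfg
  have hstep : ∀ n, ∃ d : E → E, (∀ i, d i ∈ J ^ n) ∧
      ν (n + c + 1) - ν (n + c) = ∑ i ∈ t, d i * i := by
    intro n
    have h1 : ν (n + c + 1) - ν (n + c) ∈ N := sub_mem (hjN _) (hjN _)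
    have h2 : ν (n + c + 1) - ν (n + c) ∈ J ^ (n + c) := by
      have h3 : ν (n + c + 1) - ν (n + c) =
          (j (n + c) - (x (n + c) - x (n + c + 1))) - j (n + c + 1) := by simp only [ν]; ring
      rw [h3]
      exact sub_mem (sub_mem (hjJ _) (hx' (by omega))) (Ideal.pow_le_pow_right (by omega) (hjJ _))
    have h4 : ν (n + c + 1) - ν (n + c) ∈ J ^ n • (N : Submodule E E) := by
      have h5 : ν (n + c + 1) - ν (n + c) ∈ (J ^ (n + c) • ⊤ ⊓ N : Submodule E E) :=
        ⟨by rw [smul_eq_mul, Ideal.mul_top]; exact h2, h1⟩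
      rw [hc (n + c) (by omega), Nat.add_sub_cancel] at h5
      exact Submodule.smul_mono le_rfl inf_le_right h5
    rw [show (N : Submodule E E) = Submodule.span E (Set.range fun i : (t : Set E) => (i : E)) by
      rw [show (fun i : (t : Set E) => (i : E)) = Subtype.val from rfl, Subtype.range_coe]
      exact ht.symm] at h4
    obtain ⟨b, hb, hb'⟩ := (Submodule.mem_ideal_smul_span_iff_exists_sum (J ^ n) _ _).1 h4
    rw [Finsupp.sum_fintype] at hb'
    swap; · intro i; exact zero_smul E _
    refine ⟨fun i => if h : i ∈ t then b ⟨i, h⟩ else 0, fun i => ?_, ?_⟩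
    · dsimp only; split
      · exact hb _
      · exact zero_mem _
    · rw [← hb', ← Finset.sum_coe_sort t]
      refine Finset.sum_congr rfl fun i _ => ?_
      show b i • (i : E) = dite _ _ _ * _
      rw [dif_pos (show (i : E) ∈ t from i.2), smul_eq_mul]
  choose d hdJ hd using hstep
  let S := fun (n : ℕ) (i : E) => ∑ k ∈ Finset.range n, d k i
  have hlim : ∀ i, ∃ ε : E, ∀ n, f (S n i - ε) ∈ maximalIdeal A ^ n := by
    intro i
    obtain ⟨a, ha⟩ := IsPrecomplete.prec (inferInstance : IsPrecomplete (maximalIdeal A) A)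
      (f := fun n => f (S n i)) fun {m n} h => by
        rw [SModEq.sub_mem, smul_eq_mul, Ideal.mul_top, ← map_sub, ← neg_sub, map_neg, neg_mem_iff, ← hmap]
        refine Ideal.mem_map_of_mem f ?_
        simp only [S]
        rw [← Finset.sum_Ico_eq_sub _ h]
        exact sum_mem fun k hk => Ideal.pow_le_pow_right (Finset.mem_Ico.1 hk).1 (hdJ k i)
    obtain ⟨ε, rfl⟩ := hf a
    refine ⟨ε, fun n => ?_⟩
    have := ha n
    rwa [SModEq.sub_mem, smul_eq_mul, Ideal.mul_top, ← map_sub] at this
  choose ε hε using hlim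
  refine ⟨e + ν c + ∑ i ∈ t, ε i * i, fun n => ?_⟩
  rw [SModEq.sub_mem, smul_eq_mul, Ideal.mul_top]
  have hmul : ∀ i ∈ t, ∀ n, (S n i - ε i) * i ∈ J ^ n := by
    intro i hi n
    obtain ⟨j', hj', hN'⟩ := hsplit n _ (hε i n)
    have hiN : i ∈ N := by rw [show N = Ideal.span (t : Set E) from ht.symm]; exact Ideal.subset_span hi
    have h0 : (S n i - ε i - j') * i = 0 := by
      have := Ideal.mul_mem_mul hN' hiN
      rwa [← sq, show N ^ 2 = ⊥ from hsq, Ideal.mem_bot] at this
    rw [sub_mul, sub_eq_zero] at h0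
    rw [h0]
    exact Ideal.mul_mem_right _ _ hj'
  have hν : ∀ n, ν (n + c) = ν c + ∑ i ∈ t, S n i * i := by
    intro n
    induction n with
    | zero => simp [S]
    | succ n ih =>
      rw [show n + 1 + c = n + c + 1 by omega, ← sub_add_cancel (ν (n + c + 1)) (ν (n + c)), hd, ih]
      simp only [S, Finset.sum_range_succ, add_mul, Finset.sum_add_distrib]
      ring
  have h1 : x (n + c) - (e + ν c + ∑ i ∈ t, ε i * i) = j (n + c) + ∑ i ∈ t, (S n i - ε i) * i := by
    have h2 := hν n
    simp only [ν] at h2 ⊢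
    simp only [sub_mul, Finset.sum_sub_distrib]
    linear_combination h2
  rw [show x n - (e + ν c + ∑ i ∈ t, ε i * i) =
    (x n - x (n + c)) + (x (n + c) - (e + ν c + ∑ i ∈ t, ε i * i)) by ring, h1]
  exact add_mem (hx' (by omega))
    (add_mem (Ideal.pow_le_pow_right (by omega) (hjJ _)) (sum_mem fun i hi => hmul i hi n))

end Groth.Agent.H24.SqZeroComplete
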