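import Groth.Agent.H24.UnitNormLocal
import Groth.Agent.Lib.NFApprox.Norm
import Groth.Agent.Lib.NFApprox.Hensel

/-!
# Units are norms from unramified extensions: semilocal version
-/

open NumberField IsDedekindDomain Polynomial
open scoped NumberField TensorProduct

namespace Groth.Agent.H24.UnitNorm

universe u

attribute [local instance] Ideal.Quotient.field

lemma norm_le_one_of_isIntegral {F : Type*} [NormedField F] [IsUltrametricDist F] (x : F)
    (h : IsIntegral ℤ x) : ‖x‖ ≤ 1 := by
  obtain ⟨P, hP, hx⟩ := h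
  refine not_lt.1 fun h1 => ?_
  rw [eval₂_eq_sum_range, Finset.sum_range_succ, hP.coeff_natDegree, map_one, one_mul] at hx
  have hn : P.natDegree ≠ 0 := by
    intro h0
    simp [h0] at hx
  have hle : ‖x ^ P.natDegree‖ ≤ ‖x‖ ^ (P.natDegree - 1) := by
    rw [eq_neg_of_add_eq_zero_right hx, norm_neg]
    refine IsUltrametricDist.norm_sum_le_of_forall_le_of_nonneg (pow_nonneg (norm_nonneg _) _) fun i hi => ?_
    rw [norm_mul, norm_pow]
    refine (mul_le_of_le_one_left (pow_nonneg (norm_nonneg _) _) ?_).trans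
      (pow_le_pow_right₀ h1.le (by have := Finset.mem_range.1 hi; omega))
    simpa using IsUltrametricDist.norm_intCast_le_one F (P.coeff i)
  rw [norm_pow] at hle
  exact absurd hle (not_le.2 (pow_lt_pow_right₀ h1 (by omega)))

lemma isUnit_of_isUnit_norm {R A : Type*} [CommRing R] [CommRing A] [Algebra R A] {ι : Type*}
    [Fintype ι] [DecidableEq ι] (b : Module.Basis ι R A) (x : A) (h : IsUnit (Algebra.norm R x)) :
    IsUnit x := by
  rw [Algebra.norm_eq_matrix_det b, ← Matrix.isUnit_iff_isUnit_det] at h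
  obtain ⟨N, hN⟩ := h.exists_right_inv
  let f := Matrix.toLin b b N
  have : (Algebra.lmul R A x).comp f = LinearMap.id := by
    rw [← Matrix.toLin_toMatrix b b (Algebra.lmul R A x), ← Matrix.toLin_mul b b b,
      ← Matrix.toLin_one b]
    congr 1
  exact IsUnit.of_mul_eq_one (f 1) (LinearMap.congr_fun this 1)

lemma normForm_map {K L : Type u} [Field K] [Field L] [Algebra K L] {ι : Type} [Fintype ι]
    [DecidableEq ι] (ω : Module.Basis ι K L) {A B : Type u} [CommRing A] [CommRing B] [Algebra K A]
    [Algebra K B] (f : A →+* B) (hf : ∀ a, f (algebraMap K A a) = algebraMap K B a) (c : ι → A) :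
    f (Lib.NFApprox.normForm ω A c) = Lib.NFApprox.normForm ω B (fun i => f (c i)) := by
  unfold Lib.NFApprox.normForm
  rw [RingHom.map_det, map_sum]
  congr 1
  refine Finset.sum_congr rfl fun i _ => ?_
  ext p q
  simp [hf]

open scoped Valued in
theorem exists_unit_norm {k K L : Type u} [Field k] [NumberField k] [Field K] [NumberField K]
    [Field L] [NumberField L] [Algebra k K] [Algebra K L] [Algebra k L] [IsScalarTower k K L]
    (v : HeightOneSpectrum (𝓞 k)) (c : K) (hc0 : c ≠ 0)
    (hc : ∀ W : HeightOneSpectrum (𝓞 K), W.asIdeal.LiesOver v.asIdeal → W.valuation K c = 1)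
    (hram : ∀ Q : Ideal (𝓞 L), Q.IsPrime → Q.LiesOver v.asIdeal → Q.ramificationIdx (𝓞 K) = 1) :
    letI := (Algebra.TensorProduct.map (AlgHom.id k (v.adicCompletion k))
        (IsScalarTower.toAlgHom k K L)).toRingHom.toAlgebra
      ∃ x : (v.adicCompletion k) ⊗[k] L, IsUnit x ∧
        Algebra.norm ((v.adicCompletion k) ⊗[k] K) x = (1 : v.adicCompletion k) ⊗ₜ[k] c := by
  classical
  let kv := v.adicCompletion k
  let B := kv ⊗[k] K
  let T := kv ⊗[k] L
  let : Algebra B T := (Algebra.TensorProduct.map (AlgHom.id k kv)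
        (IsScalarTower.toAlgHom k K L)).toRingHom.toAlgebra
  have hBT : ∀ (a : kv) (r : K), algebraMap B T (a ⊗ₜ[k] r) = a ⊗ₜ[k] algebraMap K L r := fun _ _ => rfl
  let : Algebra K B := (Algebra.TensorProduct.includeRight : K →ₐ[k] B).toRingHom.toAlgebra
  have hKB : ∀ r : K, algebraMap K B r = (1 : kv) ⊗ₜ[k] r := fun _ => rfl
  have : IsScalarTower kv B T := IsScalarTower.of_algebraMap_eq fun a => by
    rw [Algebra.TensorProduct.algebraMap_apply, Algebra.TensorProduct.algebraMap_apply, hBT, map_one]
  let ω := Module.finBasis K L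
  let w : Fin (Module.finrank K L) → T := fun i => (1 : kv) ⊗ₜ[k] ω i
  let Φ := Fintype.linearCombination B w
  have hsurj : Function.Surjective Φ := by
    intro t
    induction t using TensorProduct.induction_on with
    | zero => exact ⟨0, map_zero _⟩
    | add x y hx hy =>
      obtain ⟨a, rfl⟩ := hx
      obtain ⟨b, rfl⟩ := hy
      exact ⟨a + b, map_add _ _ _⟩
    | tmul a l =>
      refine ⟨fun i => a ⊗ₜ[k] ω.repr l i, ?_⟩
      rw [Fintype.linearCombination_apply]
      conv_rhs => rw [← ω.sum_repr l, TensorProduct.tmul_sum]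
      refine Finset.sum_congr rfl fun i _ => ?_
      rw [Algebra.smul_def, hBT, Algebra.TensorProduct.tmul_mul_tmul, mul_one, Algebra.smul_def]
  have : FiniteDimensional k K := Module.Finite.of_restrictScalars_finite ℚ k K
  have : FiniteDimensional k L := Module.Finite.of_restrictScalars_finite ℚ k L
  have hfr : Module.finrank kv (Fin (Module.finrank K L) → B) = Module.finrank kv T := by
    rw [Module.finrank_pi_fintype, Finset.sum_const, Finset.card_univ, Fintype.card_fin, smul_eq_mul,
      Module.finrank_baseChange, Module.finrank_baseChange, ← Module.finrank_mul_finrank k K L, mul_comm]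
  have hinj : Function.Injective (Φ.restrictScalars kv) :=
    (LinearMap.injective_iff_surjective_of_finrank_eq_finrank hfr).2 hsurj
  let bB : Module.Basis (Fin (Module.finrank K L)) B T :=
    Module.Basis.ofEquivFun (LinearEquiv.ofBijective Φ ⟨hinj, hsurj⟩).symm
  have hbB : ∀ i, bB i = w i := fun i => by
    simp [bB]
    exact (Fintype.linearCombination_apply_single (v := w) (R := B) i 1).trans (one_smul _ _)
  have hmat : ∀ i, Algebra.leftMulMatrix bB (bB i) =
      (Algebra.leftMulMatrix ω (ω i)).map (algebraMap K B) := fun i => by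
    ext p q
    rw [Matrix.map_apply, Algebra.leftMulMatrix_eq_repr_mul, Algebra.leftMulMatrix_eq_repr_mul]
    have : bB i * bB q = ∑ l, algebraMap K B (ω.repr (ω i * ω q) l) • bB l := by
      have h1 : w i * w q = (1 : kv) ⊗ₜ[k] (ω i * ω q) := by
        show ((1 : kv) ⊗ₜ[k] ω i) * ((1 : kv) ⊗ₜ[k] ω q) = _
        exact (Algebra.TensorProduct.tmul_mul_tmul _ _ _ _).trans (by rw [one_mul])
      rw [hbB, hbB, h1]
      conv_lhs => rw [← ω.sum_repr (ω i * ω q), TensorProduct.tmul_sum]
      refine Finset.sum_congr rfl fun l _ => ?_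
      rw [hbB, Algebra.smul_def (A := T), hKB, hBT]
      exact ((Algebra.TensorProduct.tmul_mul_tmul _ _ _ _).trans (by rw [one_mul, Algebra.smul_def])).symm
    rw [this, bB.repr_sum_self]
  have : Algebra.FormallyUnramified k K := Algebra.FormallyUnramified.of_isSeparable k K
  have : IsReduced B := Algebra.FormallyUnramified.isReduced_of_field kv B
  have : IsArtinianRing B := IsArtinianRing.of_finite kv B
  have key : ∀ m : MaximalSpectrum B, ∃ u : Fin (Module.finrank K L) → B,
      Ideal.Quotient.mk m.asIdeal (Lib.NFApprox.normForm ω B u) =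
        Ideal.Quotient.mk m.asIdeal ((1 : kv) ⊗ₜ[k] c) := by
    intro m
    have := m.isMaximal
    let F := B ⧸ m.asIdeal
    let : NormedField F := spectralNorm.normedField kv F
    have : IsUltrametricDist F :=
      IsUltrametricDist.isUltrametricDist_of_isNonarchimedean_norm (isNonarchimedean_spectralNorm (K := kv) (L := F))
    have : CompleteSpace F := spectralNorm.completeSpace kv F
    let : Algebra K F := ((Ideal.Quotient.mk m.asIdeal).comp (algebraMap K B)).toAlgebra
    have hint : ∀ a : 𝓞 K, ‖algebraMap K F a‖ ≤ 1 := fun a =>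
      norm_le_one_of_isIntegral _ (map_isIntegral_int (algebraMap K F) a.2)
    let W : Ideal (𝓞 K) :=
      { carrier := {a | ‖algebraMap K F (a : K)‖ < 1}
        zero_mem' := by simp
        add_mem' := fun {a b} ha hb => by
          simp only [Set.mem_ofPred_eq, map_add] at *
          exact (IsUltrametricDist.norm_add_le_max _ _).trans_lt (max_lt ha hb)
        smul_mem' := fun a b hb => by
          simp only [Set.mem_ofPred_eq, smul_eq_mul, map_mul, norm_mul] at *
          exact lt_of_le_of_lt (mul_le_of_le_one_left (norm_nonneg _) (hint a)) hb }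
    have hWp : W.IsPrime := by
      refine ⟨fun h => ?_, fun {a b} hab => ?_⟩
      · have : (1 : 𝓞 K) ∈ W := h ▸ trivial
        simp [W] at this
      · by_contra hn
        rw [not_or] at hn
        simp only [W, Submodule.mem_mk, AddSubmonoid.mem_mk, AddSubsemigroup.mem_mk, Set.mem_ofPred_eq,
          map_mul, norm_mul] at hab hn
        push Not at hn
        exact absurd hab (not_lt.2 (one_le_mul_of_one_le_of_one_le hn.1 hn.2))
    have hvW : ∀ a ∈ v.asIdeal, algebraMap (𝓞 k) (𝓞 K) a ∈ W := fun a ha => by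
      show ‖algebraMap K F (algebraMap (𝓞 K) K (algebraMap (𝓞 k) (𝓞 K) a))‖ < 1
      rw [← IsScalarTower.algebraMap_apply (𝓞 k) (𝓞 K) K, IsScalarTower.algebraMap_apply (𝓞 k) k K]
      rw [show algebraMap K F (algebraMap k K (algebraMap (𝓞 k) k a)) =
        algebraMap kv F (algebraMap k kv (algebraMap (𝓞 k) k a)) from
          congrArg (Ideal.Quotient.mk m.asIdeal)
            ((Algebra.TensorProduct.includeRight : K →ₐ[k] B).commutes _)]
      show spectralNorm kv F _ < 1
      rw [spectralNorm_extends, Lib.NFApprox.norm_algebraMap_lt_one_iff]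
      exact (v.valuation_lt_one_iff_mem a).2 ha
    have hW0 : W ≠ ⊥ := by
      obtain ⟨a, ha, ha0⟩ := Submodule.exists_mem_ne_zero_of_ne_bot v.ne_bot
      intro h
      have := hvW a ha
      rw [h, Ideal.mem_bot] at this
      exact ha0 (FaithfulSMul.algebraMap_injective (𝓞 k) (𝓞 K) (by rw [this, map_zero]))
    have hover : W.LiesOver v.asIdeal :=
      ⟨(v.isMaximal.eq_of_le (Ideal.IsPrime.ne_top (hWp.under (𝓞 k))) fun a ha => hvW a ha)⟩
    obtain ⟨X, hX⟩ := exists_local (L := L) ⟨W, hWp, hW0⟩
      (fun Q hQ hQW => hram Q hQ ⟨by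
        rw [hover.over, ← Ideal.under_under Q (B := 𝓞 K)]; exact congrArg _ hQW.symm⟩)
      (fun p h1 a h2 h3 h4 => Lib.NFApprox.exists_root_of_simple p h1 a h2 h3 h4)
      hint (fun a => Iff.rfl) c (hc ⟨W, hWp, hW0⟩ hover)
    let u0 := fun i => (Algebra.TensorProduct.basis F ω).repr X i
    choose u hu using fun i => Ideal.Quotient.mk_surjective (I := m.asIdeal) (u0 i)
    refine ⟨u, ?_⟩
    rw [normForm_map ω (Ideal.Quotient.mk m.asIdeal) (fun a => rfl) u]
    simp only [hu]
    rw [← Lib.NFApprox.norm_tensor_eq_normForm, hX]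
    rfl
  choose u hu using key
  let e := IsArtinianRing.equivPi B
  let U : Fin (Module.finrank K L) → B := fun i =>
    e.symm (fun m => Ideal.Quotient.mk m.asIdeal (u m i))
  have hU : Lib.NFApprox.normForm ω B U = (1 : kv) ⊗ₜ[k] c := by
    apply e.injective
    funext m
    rw [IsArtinianRing.equivPi_apply, IsArtinianRing.equivPi_apply]
    show Ideal.Quotient.mk m.asIdeal _ = Ideal.Quotient.mk m.asIdeal _
    let : Algebra K (B ⧸ m.asIdeal) := ((Ideal.Quotient.mk m.asIdeal).comp (algebraMap K B)).toAlgebra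
    rw [← hu m, normForm_map ω (Ideal.Quotient.mk m.asIdeal) (fun a => rfl),
      normForm_map ω (Ideal.Quotient.mk m.asIdeal) (fun a => rfl)]
    congr 1
    funext i
    exact congrFun (e.apply_symm_apply (fun m => Ideal.Quotient.mk m.asIdeal (u m i))) m
  have hN : Algebra.norm B (∑ i, U i • bB i) = (1 : kv) ⊗ₜ[k] c := by
    rw [← hU, Algebra.norm_eq_matrix_det bB, map_sum, Lib.NFApprox.normForm]
    simp only [map_smul, hmat]
  refine ⟨∑ i, U i • bB i, isUnit_of_isUnit_norm bB _ ?_, hN⟩
  rw [hN, ← hKB]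
  exact (isUnit_iff_ne_zero.2 hc0).map _

end Groth.Agent.H24.UnitNorm
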