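import Mathlib

/-!
# Units are norms from unramified extensions: the local computation
-/

open NumberField IsDedekindDomain Polynomial
open scoped NumberField TensorProduct nonZeroDivisors

namespace Groth.Agent.H24.UnitNorm

universe u v

attribute [local instance] Ideal.Quotient.field

/-- A reduced finite algebra over a finite field has surjective norm, and an element of trace one. -/
lemma residue_exists (K : Type u) (T : Type v) [Field K] [Finite K] [CommRing T] [Algebra K T]
    [Module.Finite K T] [IsReduced T] [Nontrivial T] (c : K) :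
    (∃ y : T, Algebra.norm K y = c) ∧ (∃ z : T, Algebra.trace K T z = 1) := by
  have : IsArtinianRing T := IsArtinianRing.of_finite K T
  obtain ⟨m, hm⟩ := Ideal.exists_maximal T
  have : IsSemisimpleRing T := IsArtinianRing.isSemisimpleRing_of_isReduced T
  obtain ⟨J, hJ⟩ : ∃ J : Ideal T, IsCompl m J := exists_isCompl (α := Submodule T T) m
  let φ : T →ₐ[K] (T ⧸ m) × (T ⧸ J) := (Ideal.Quotient.mkₐ K m).prod (Ideal.Quotient.mkₐ K J)
  have hinj : Function.Injective φ := (injective_iff_map_eq_zero φ).2 fun x hx => by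
    obtain ⟨h1, h2⟩ := Prod.ext_iff.1 hx
    have : x ∈ m ⊓ J := ⟨Ideal.Quotient.eq_zero_iff_mem.1 h1, Ideal.Quotient.eq_zero_iff_mem.1 h2⟩
    rwa [hJ.inf_eq_bot, Ideal.mem_bot] at this
  have hsurj : Function.Surjective φ := by
    rintro ⟨a, b⟩
    obtain ⟨a, rfl⟩ := Ideal.Quotient.mk_surjective a
    obtain ⟨b, rfl⟩ := Ideal.Quotient.mk_surjective b
    obtain ⟨p, hp, q, hq, hpq⟩ := Submodule.mem_sup.1
      ((Ideal.eq_top_iff_one _).1 hJ.sup_eq_top)
    refine ⟨a * q + b * p, Prod.ext ?_ ?_⟩
    · refine Ideal.Quotient.eq.2 ?_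
      rw [show a * q + b * p - a = (b - a) * p by linear_combination a * hpq]
      exact m.mul_mem_left _ hp
    · refine Ideal.Quotient.eq.2 ?_
      rw [show a * q + b * p - b = (a - b) * q by linear_combination b * hpq]
      exact J.mul_mem_left _ hq
  let e := AlgEquiv.ofBijective φ ⟨hinj, hsurj⟩
  have : Finite (T ⧸ m) := Module.finite_of_finite K
  obtain ⟨g, hg⟩ := FiniteField.norm_surjective K (T ⧸ m) c
  obtain ⟨g', hg'⟩ := Algebra.trace_surjective K (T ⧸ m) 1
  refine ⟨⟨e.symm (g, 1), ?_⟩, ⟨e.symm (g', 0), ?_⟩⟩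
  · rw [← Algebra.norm_eq_of_algEquiv e, e.apply_symm_apply, Algebra.norm_apply]
    have : Algebra.lmul K ((T ⧸ m) × (T ⧸ J)) (g, 1) = (Algebra.lmul K (T ⧸ m) g).prodMap
        (Algebra.lmul K (T ⧸ J) 1) := LinearMap.ext fun _ => rfl
    rw [show Algebra.lmul K ((T ⧸ m) × (T ⧸ J)) (g, 1) = _ from this, LinearMap.det_prodMap,
      ← Algebra.norm_apply, ← Algebra.norm_apply, map_one, mul_one, hg]
  · rw [← Algebra.trace_eq_of_algEquiv e, e.apply_symm_apply, Algebra.trace_prod_apply, map_zero,
      add_zero, hg']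

/-- The extension of a maximal ideal is radical when nothing above it is ramified. -/
lemma isRadical_map {R S : Type*} [CommRing R] [CommRing S] [Algebra R S] (W : Ideal R) [W.IsMaximal]
    (h : ∀ Q : Ideal S, Q.IsPrime → Q.under R = W → Q.ramificationIdx R = 1) :
    (W.map (algebraMap R S)).IsRadical := by
  intro x hx
  refine Ideal.mem_of_localization_maximal fun Q hQ => ?_
  by_cases hle : W.map (algebraMap R S) ≤ Q
  · have hW : Q.under R = W :=
      ((‹W.IsMaximal›).eq_of_le (Ideal.IsPrime.ne_top inferInstance) (Ideal.map_le_iff_le_comap.1 hle)).symm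
    have hr := h Q inferInstance hW
    rw [Ideal.ramificationIdx_def, ENat.toNat_eq_iff_eq_natCast, Nat.cast_one,
      Module.length_eq_one_iff, isSimpleModule_iff_isCoatom, ← Ideal.isMaximal_def,
      IsLocalRing.isMaximal_iff, hW, IsScalarTower.algebraMap_eq R S, ← Ideal.map_map] at hr
    rw [hr, ← Localization.AtPrime.map_eq_maximalIdeal]
    exact Ideal.mem_map_of_mem _ ((Ideal.IsPrime.radical_le_iff inferInstance).2 hle hx)
  · obtain ⟨w, hw, hwQ⟩ := SetLike.not_le_iff_exists.1 hle
    rw [Ideal.eq_top_of_isUnit_mem _ (Ideal.mem_map_of_mem _ hw)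
      (IsLocalization.map_units (Localization.AtPrime Q) (⟨w, hwQ⟩ : Q.primeCompl))]
    trivial

lemma norm_quotient_mk {R S : Type*} [CommRing R] [CommRing S] [Algebra R S] [IsLocalRing R]
    [Module.Free R S] [Module.Finite R S] (x : S) :
    Algebra.norm (R ⧸ IsLocalRing.maximalIdeal R)
      (Ideal.Quotient.mk ((IsLocalRing.maximalIdeal R).map (algebraMap R S)) x) =
      Ideal.Quotient.mk (IsLocalRing.maximalIdeal R) (Algebra.norm R x) := by
  classical
  let b : Module.Basis (Module.Free.ChooseBasisIndex R S) R S := Module.Free.chooseBasis R S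
  rw [Algebra.norm_eq_matrix_det b, Algebra.norm_eq_matrix_det (IsLocalRing.basisQuotient b),
    RingHom.map_det]
  congr 1
  ext i j
  simp only [Algebra.leftMulMatrix_apply, Algebra.coe_lmul_eq_mul, LinearMap.toMatrix_apply,
    IsLocalRing.basisQuotient_apply, LinearMap.mul_apply', RingHom.mapMatrix_apply, Matrix.map_apply,
    ← map_mul, IsLocalRing.basisQuotient_repr]

section Local

variable {K L : Type u} [Field K] [NumberField K] [Field L] [NumberField L] [Algebra K L]

lemma det_one_add_smul {R A : Type*} [CommRing R] [CommRing A] {ι : Type*} [Fintype ι] [DecidableEq ι]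
    (ρ : R →+* A) (M : Matrix ι ι R) (r : A) :
    eval₂ ρ r (-M).charpolyRev = Matrix.det (1 + r • M.map ρ) := by
  rw [Matrix.charpolyRev, ← Polynomial.coe_eval₂RingHom, RingHom.map_det]
  congr 1
  ext i j
  by_cases h : i = j
  · subst h; simp [mul_comm r]
  · simp [h, mul_comm r]

theorem exists_local (W : HeightOneSpectrum (𝓞 K))
    (hram : ∀ Q : Ideal (𝓞 L), Q.IsPrime → Q.under (𝓞 K) = W.asIdeal → Q.ramificationIdx (𝓞 K) = 1)
    (hroot : ∀ {F : Type u} [NormedField F] [IsUltrametricDist F] [CompleteSpace F] (p : F[X]),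
      (∀ i, ‖p.coeff i‖ ≤ 1) → ∀ a : F, ‖a‖ ≤ 1 → ‖p.eval a‖ < 1 →
      ‖p.derivative.eval a‖ = 1 → ∃ r, p.IsRoot r)
    {F : Type u} [NormedField F] [IsUltrametricDist F] [CompleteSpace F] [Algebra K F]
    (hint : ∀ a : 𝓞 K, ‖algebraMap K F a‖ ≤ 1)
    (hW : ∀ a : 𝓞 K, a ∈ W.asIdeal ↔ ‖algebraMap K F a‖ < 1)
    (c : K) (hc : W.valuation K c = 1) :
    ∃ X : F ⊗[K] L, Algebra.norm F X = algebraMap K F c := by
  classical
  let R := 𝓞 K
  let S := 𝓞 L
  let p := W.asIdeal
  have : p.IsMaximal := W.isMaximal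
  let Rp := Localization.AtPrime p
  let M := Algebra.algebraMapSubmonoid S p.primeCompl
  let Sp := Localization M
  let : Algebra Rp Sp := localizationAlgebra p.primeCompl S
  have : IsScalarTower R Rp Sp := IsScalarTower.of_algebraMap_eq'
    (by rw [RingHom.algebraMap_toAlgebra, IsLocalization.map_comp, ← IsScalarTower.algebraMap_eq])
  have : IsLocalization (Submonoid.map (algebraMap R S) p.primeCompl) Sp :=
    inferInstanceAs (IsLocalization M Sp)
  have e : M ≤ S⁰ := Submonoid.map_le_of_le_comap _ <| p.primeCompl_le_nonZeroDivisors.trans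
      (nonZeroDivisors_le_comap_nonZeroDivisors_of_injective _
        (FaithfulSMul.algebraMap_injective _ _))
  have : IsDomain Sp := IsLocalization.isDomain_of_le_nonZeroDivisors _ e
  have : Module.IsTorsionFree Rp Sp := by
    rw [Module.isTorsionFree_iff_algebraMap_injective, RingHom.injective_iff_ker_eq_bot,
      RingHom.ker_eq_bot_iff_eq_zero]
    simp
  have : Module.Finite Rp Sp := .of_isLocalization R S p.primeCompl
  have := (IsDedekindDomain.isDedekindDomainDvr R).2 p W.ne_bot inferInstance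
  have : Module.Free Rp Sp := Module.free_of_finite_type_torsion_free'
  -- the two fraction fields
  let : Algebra Sp L := IsLocalization.localizationAlgebraOfSubmonoidLe Sp L M S⁰ e
  have : IsScalarTower S Sp L := IsLocalization.localization_isScalarTower_of_submonoid_le Sp L M S⁰ e
  have : IsFractionRing Sp L := IsFractionRing.isFractionRing_of_isDomain_of_isLocalization M Sp L
  let : Algebra Rp K :=
    IsLocalization.localizationAlgebraOfSubmonoidLe Rp K p.primeCompl R⁰ p.primeCompl_le_nonZeroDivisors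
  have : IsScalarTower R Rp K :=
    IsLocalization.localization_isScalarTower_of_submonoid_le Rp K p.primeCompl R⁰ p.primeCompl_le_nonZeroDivisors
  have : IsFractionRing Rp K := IsFractionRing.isFractionRing_of_isDomain_of_isLocalization p.primeCompl Rp K
  let : Algebra Rp L := ((algebraMap K L).comp (algebraMap Rp K)).toAlgebra
  have : IsScalarTower Rp K L := IsScalarTower.of_algebraMap_eq' rfl
  have hSpL : ∀ x : Rp, algebraMap Sp L (algebraMap Rp Sp x) = algebraMap Rp L x := by
    refine RingHom.congr_fun (IsLocalization.ringHom_ext p.primeCompl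
      (j := (algebraMap Sp L).comp (algebraMap Rp Sp)) (k := algebraMap Rp L) ?_)
    ext a
    rw [RingHom.comp_apply, RingHom.comp_apply, ← IsScalarTower.algebraMap_apply R Rp Sp,
      IsScalarTower.algebraMap_apply R S Sp, ← IsScalarTower.algebraMap_apply S Sp L,
      ← IsScalarTower.algebraMap_apply R S L]
    show _ = algebraMap Rp L (algebraMap R Rp a)
    rw [IsScalarTower.algebraMap_apply Rp K L, ← IsScalarTower.algebraMap_apply R Rp K,
      ← IsScalarTower.algebraMap_apply R K L]
  have : IsScalarTower Rp Sp L := IsScalarTower.of_algebraMap_eq fun x => (hSpL x).symm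
  let ι := Module.Free.ChooseBasisIndex Rp Sp
  let bS : Module.Basis ι Rp Sp := Module.Free.chooseBasis Rp Sp
  let f : Sp →ₗ[Rp] L := (IsScalarTower.toAlgHom Rp Sp L).toLinearMap
  have hli : LinearIndependent K (f ∘ bS) :=
    (LinearIndependent.iff_fractionRing Rp K).1
      (bS.linearIndependent.map' f (LinearMap.ker_eq_bot.2 (IsFractionRing.injective Sp L)))
  have hspan : ⊤ ≤ Submodule.span K (Set.range (f ∘ bS)) := fun x _ => by
    have : IsLocalization (Algebra.algebraMapSubmonoid S R⁰) L :=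
      IsIntegralClosure.isLocalization R K L S
    obtain ⟨s, ⟨_, d, hd, rfl⟩, rfl⟩ := IsLocalization.exists_mk'_eq (Algebra.algebraMapSubmonoid S R⁰) x
    have hs : algebraMap S L s ∈ Submodule.span K (Set.range (f ∘ bS)) := by
      rw [IsScalarTower.algebraMap_apply S Sp L, ← bS.sum_repr (algebraMap S Sp s), map_sum]
      refine Submodule.sum_mem _ fun i _ => ?_
      rw [Algebra.smul_def, map_mul, hSpL, IsScalarTower.algebraMap_apply Rp K L, ← Algebra.smul_def]
      exact Submodule.smul_mem _ _ (Submodule.subset_span ⟨i, rfl⟩)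
    have hd0 : algebraMap R K d ≠ 0 :=
      IsFractionRing.to_map_ne_zero_of_mem_nonZeroDivisors hd
    convert Submodule.smul_mem _ (algebraMap R K d)⁻¹ hs using 1
    rw [IsLocalization.mk'_eq_iff_eq_mul, Algebra.smul_def]
    show _ = _ * algebraMap S L (algebraMap R S d)
    rw [← IsScalarTower.algebraMap_apply R S L, IsScalarTower.algebraMap_apply R K L,
      map_inv₀, mul_right_comm, inv_mul_cancel₀ (by simpa using hd0), one_mul]
  let ω : Module.Basis ι K L := Module.Basis.mk hli hspan
  have hω : ∀ i, ω i = algebraMap Sp L (bS i) := fun i => Module.Basis.mk_apply _ _ i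
  have hmat : ∀ s : Sp, Algebra.leftMulMatrix ω (algebraMap Sp L s) =
      (Algebra.leftMulMatrix bS s).map (algebraMap Rp K) := fun s => by
    ext i j
    rw [Matrix.map_apply, Algebra.leftMulMatrix_eq_repr_mul, Algebra.leftMulMatrix_eq_repr_mul,
      hω, ← map_mul]
    conv_lhs => rw [← bS.sum_repr (s * bS j), map_sum]
    have : ∀ l, algebraMap Sp L ((bS.repr (s * bS j) l) • bS l) =
        algebraMap Rp K (bS.repr (s * bS j) l) • ω l := fun l => by
      rw [Algebra.smul_def, map_mul, hSpL, IsScalarTower.algebraMap_apply Rp K L, ← hω,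
        ← Algebra.smul_def]
    simp only [this]
    rw [ω.repr_sum_self]
  -- the residue algebra
  let mR := IsLocalRing.maximalIdeal Rp
  let T := Sp ⧸ mR.map (algebraMap Rp Sp)
  have : IsReduced (S ⧸ p.map (algebraMap R S)) :=
    (Ideal.isRadical_iff_quotient_reduced _).1 (isRadical_map p hram)
  have : IsReduced T :=
    isReduced_of_injective (IsLocalization.AtPrime.equivQuotientMapMaximalIdeal S p Rp Sp).symm
      (RingEquiv.injective _)
  have : Nontrivial (S ⧸ p.map (algebraMap R S)) := Ideal.Quotient.nontrivial_iff.2 fun h => by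
    obtain ⟨Q, hQ, hQp⟩ := Ideal.exists_maximal_ideal_liesOver_of_isIntegral (S := S) p
    exact hQ.ne_top (top_le_iff.1 (h.symm.le.trans (Ideal.map_le_iff_le_comap.2 hQp.over.le)))
  have : Nontrivial T :=
    (IsLocalization.AtPrime.equivQuotientMapMaximalIdeal S p Rp Sp).toEquiv.nontrivial_congr.1
      inferInstance
  have : Finite (R ⧸ p) := Ideal.finiteQuotientOfFreeOfNeBot p W.ne_bot
  have : Finite (Rp ⧸ mR) :=
    Finite.of_equiv _ (IsLocalization.AtPrime.equivQuotMaximalIdeal p Rp).toEquiv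
  have : Module.Finite (Rp ⧸ mR) T := Module.Finite.of_basis (IsLocalRing.basisQuotient bS)
  obtain ⟨n, ⟨d, hd⟩, hnd⟩ := HeightOneSpectrum.exists_primeCompl_mul_eq_of_integer W c hc.le
  obtain ⟨c', hc'⟩ : ∃ c' : Rp, algebraMap Rp K c' = c := by
    refine ⟨IsLocalization.mk' Rp n ⟨d, hd⟩, ?_⟩
    have := congrArg (algebraMap Rp K) (IsLocalization.mk'_spec Rp n (⟨d, hd⟩ : p.primeCompl))
    rw [map_mul, ← IsScalarTower.algebraMap_apply R Rp K, ← IsScalarTower.algebraMap_apply R Rp K] at this
    have hd0 : algebraMap R K d ≠ 0 :=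
      IsFractionRing.to_map_ne_zero_of_mem_nonZeroDivisors (p.primeCompl_le_nonZeroDivisors hd)
    exact mul_right_cancel₀ hd0 (this.trans hnd.symm)
  obtain ⟨⟨yb, hy⟩, ⟨zb, hz⟩⟩ := residue_exists (Rp ⧸ mR) T (Ideal.Quotient.mk mR c')
  obtain ⟨y, rfl⟩ := Ideal.Quotient.mk_surjective yb
  obtain ⟨z, rfl⟩ := Ideal.Quotient.mk_surjective zb
  rw [norm_quotient_mk, Ideal.Quotient.eq] at hy
  rw [Algebra.trace_quotient_mk, ← map_one (Ideal.Quotient.mk mR), Ideal.Quotient.eq] at hz
  -- the map to `F`
  let ρ : Rp →+* F := (algebraMap K F).comp (algebraMap Rp K)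
  have hρ : ∀ x : Rp, ‖ρ x‖ ≤ 1 ∧ (x ∈ mR → ‖ρ x‖ < 1) := fun x => by
    obtain ⟨a, ⟨d, hd⟩, rfl⟩ := IsLocalization.exists_mk'_eq p.primeCompl x
    have hd1 : ‖algebraMap K F (d : R)‖ = 1 := le_antisymm (hint d) (not_lt.1 fun h => hd ((hW d).2 h))
    have hmul : ρ (IsLocalization.mk' Rp a ⟨d, hd⟩) * algebraMap K F (d : R) = algebraMap K F (a : R) := by
      have := congrArg ρ (IsLocalization.mk'_spec Rp a (⟨d, hd⟩ : p.primeCompl))
      rw [map_mul] at this
      have h' : ∀ b : R, ρ (algebraMap R Rp b) = algebraMap K F (b : R) := fun b =>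
        (congrArg (algebraMap K F) (IsScalarTower.algebraMap_apply R Rp K b)).symm
      rwa [h', h'] at this
    have hnorm := congrArg norm hmul
    rw [norm_mul, hd1, mul_one] at hnorm
    rw [hnorm]
    exact ⟨hint a, fun h => (hW a).1 ((IsLocalization.AtPrime.mk'_mem_maximal_iff Rp p a ⟨d, hd⟩).1 h)⟩
  have hcF : ρ c' = algebraMap K F c := by simp [ρ, hc']
  have hc1 : ‖ρ c'‖ = 1 := by
    refine le_antisymm (hρ c').1 (not_lt.1 fun h => ?_)
    have hd1 : ‖algebraMap K F (d : R)‖ = 1 := le_antisymm (hint d) (not_lt.1 fun h => hd ((hW d).2 h))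
    have hn : ‖algebraMap K F (n : R)‖ = ‖ρ c'‖ := by
      rw [show ((n : R) : K) = c * ((d : R) : K) from by linear_combination -hnd, map_mul, norm_mul, hd1,
        mul_one, hcF]
    have h2 : W.valuation K (algebraMap R K n) < 1 :=
      (W.valuation_lt_one_iff_mem n).2 ((hW n).2 (hn ▸ h))
    have h3 : W.valuation K (algebraMap R K d) = 1 := W.valuation_eq_one_iff_notMem.2 hd
    rw [show algebraMap R K n = c * algebraMap R K d from by linear_combination -hnd, map_mul, hc, h3,
      one_mul] at h2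
    exact lt_irrefl _ h2
  let Mz := Algebra.leftMulMatrix bS z
  let P : F[X] := (C (Algebra.norm Rp y) * (-Mz).charpolyRev - C c').map ρ
  have hP0 : ‖P.eval 0‖ < 1 := by
    rw [eval_map, eval₂_sub, eval₂_mul, eval₂_C, eval₂_C, det_one_add_smul, zero_smul, add_zero,
      Matrix.det_one, mul_one, ← map_sub]
    exact (hρ _).2 hy
  have hP1 : ‖P.derivative.eval 0‖ = 1 := by
    rw [← coeff_zero_eq_eval_zero, coeff_derivative, zero_add, Nat.cast_zero, zero_add, mul_one,
      coeff_map, coeff_sub, coeff_C_mul, coeff_C_of_ne_zero one_ne_zero, sub_zero,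
      Matrix.coeff_charpolyRev_eq_neg_trace, Matrix.trace_neg, neg_neg,
      ← Algebra.trace_eq_matrix_trace bS]
    set t := Algebra.trace Rp Sp z
    set N := Algebra.norm Rp y
    have hmem : N * t - c' ∈ mR := by
      rw [show N * t - c' = (N - c') * t + c' * (t - 1) by ring]
      exact mR.add_mem (mR.mul_mem_right _ hy) (mR.mul_mem_left _ hz)
    rw [show ρ (N * t) = ρ c' + ρ (N * t - c') by rw [map_sub]; ring,
      IsUltrametricDist.norm_add_eq_max_of_norm_ne_norm (by rw [hc1]; exact ((hρ _).2 hmem).ne'), hc1,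
      max_eq_left ((hρ _).2 hmem).le]
  obtain ⟨r, hr⟩ := hroot P (fun i => by rw [coeff_map]; exact (hρ _).1) 0 (by simp) hP0 hP1
  rw [IsRoot.def, eval_map, eval₂_sub, eval₂_mul, eval₂_C, eval₂_C, det_one_add_smul, sub_eq_zero] at hr
  refine ⟨((1 : F) ⊗ₜ[K] algebraMap Sp L y) * (1 + r • ((1 : F) ⊗ₜ[K] algebraMap Sp L z)), ?_⟩
  have hF : ∀ s : Sp, Algebra.leftMulMatrix (Algebra.TensorProduct.basis F ω) ((1 : F) ⊗ₜ[K] algebraMap Sp L s) =
      (Algebra.leftMulMatrix bS s).map ρ := fun s => by
    ext i j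
    have := congrFun (congrFun (hmat s) i) j
    simp [Algebra.leftMulMatrix_eq_repr_mul, Algebra.TensorProduct.tmul_mul_tmul,
      Algebra.algebraMap_eq_smul_one] at this ⊢
    simp [ρ, this, Algebra.algebraMap_eq_smul_one]
  rw [map_mul, Algebra.norm_eq_matrix_det (Algebra.TensorProduct.basis F ω), hF,
    Algebra.norm_eq_matrix_det (Algebra.TensorProduct.basis F ω), map_add, map_one, map_smul, hF,
    ← RingHom.mapMatrix_apply, ← RingHom.map_det, ← Algebra.norm_eq_matrix_det bS, ← hcF, ← hr]

end Local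

end Groth.Agent.H24.UnitNorm
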